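import Groth.Agent.FlatLocus.Main
import Groth.Agent.GenFree.Modules
import Groth.Agent.QCohLib.FPSections

set_option autoImplicit false
set_option backward.isDefEq.respectTransparency false
set_option backward.defeqAttrib.useBackward true
set_option linter.style.haveILetI false

/-!
# Flat loci of quasi-coherent modules
-/

universe u

open CategoryTheory AlgebraicGeometry TensorProduct TopologicalSpace

namespace Groth.Agent.FlatLocus

variable {X Y : Scheme.{u}} (f : X ⟶ Y)

theorem isFlatOverAt_iff (M : X.Modules) [Coh.IsQCoh M] {V : Y.Opens} (hV : IsAffineOpen V)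
    {W : X.Opens} (hW : IsAffineOpen W) (hWV : W ≤ f ⁻¹ᵁ V) (x : X) (hx : x ∈ W) :
    letI := (f.appLE V W hWV).hom.toAlgebra
    letI := Module.compHom Γ(M, W) (f.appLE V W hWV).hom
    haveI : IsScalarTower Γ(Y, V) Γ(X, W) Γ(M, W) := .of_algebraMap_smul fun _ _ => rfl
    FlatMod.IsFlatOverAt f M x ↔ Module.Flat Γ(Y, V)
      (LocalizedModule (hW.primeIdealOf ⟨x, hx⟩).asIdeal.primeCompl Γ(M, W)) := by
  letI := (f.appLE V W hWV).hom.toAlgebra
  letI := Module.compHom Γ(M, W) (f.appLE V W hWV).hom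
  haveI : IsScalarTower Γ(Y, V) Γ(X, W) Γ(M, W) := .of_algebraMap_smul fun _ _ => rfl
  letI := FlatMod.moduleStalkOver f M x
  letI := Module.compHom (M.presheaf.stalk x) (X.presheaf.germ W x hx).hom
  obtain ⟨g, hg⟩ := GenFree.exists_isLocalizedModule_germ M hW x hx
  haveI := hg
  letI := Module.compHom (M.presheaf.stalk x)
    ((X.presheaf.germ W x hx).hom.comp (f.appLE V W hWV).hom)
  haveI : IsScalarTower Γ(Y, V) Γ(X, W) (M.presheaf.stalk x) :=
    .of_algebraMap_smul fun _ _ => rfl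
  have hyV : f.base x ∈ V := hWV hx
  letI := TopCat.Presheaf.algebra_section_stalk Y.presheaf ⟨f.base x, hyV⟩
  haveI := hV.isLocalization_stalk ⟨f.base x, hyV⟩
  haveI : IsScalarTower Γ(Y, V) (Y.presheaf.stalk (f.base x)) (M.presheaf.stalk x) := by
    refine .of_algebraMap_smul fun r m => ?_
    show (f.stalkMap x) (Y.presheaf.germ V (f.base x) hyV r) • m =
      X.presheaf.germ W x hx (f.appLE V W hWV r) • m
    congr 1
    rw [Scheme.Hom.germ_stalkMap_apply, Scheme.Hom.appLE, CommRingCat.comp_apply,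
      X.presheaf.germ_res_apply]
  let e := (IsLocalizedModule.iso (hW.primeIdealOf ⟨x, hx⟩).asIdeal.primeCompl g).restrictScalars
    Γ(Y, V)
  refine (Module.flat_iff_of_isLocalization (Y.presheaf.stalk (f.base x))
    (hV.primeIdealOf ⟨f.base x, hyV⟩).asIdeal.primeCompl (M.presheaf.stalk x)).trans ?_
  exact ⟨fun h => Module.Flat.of_linearEquiv e, fun h => Module.Flat.of_linearEquiv e.symm⟩

/-- The flat locus of a finitely presented module is open. -/
theorem isOpen_isFlatOverAt [LocallyOfFinitePresentation f] (M : X.Modules) [Coh.IsQCoh M]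
    (hM : CohB1.IsFP M) : IsOpen {x : X | FlatMod.IsFlatOverAt f M x} := by
  refine isOpen_iff_forall_mem_open.mpr fun x hx => ?_
  obtain ⟨_, ⟨V : Y.Opens, (hV : IsAffineOpen V), rfl⟩, hxV, -⟩ :=
    Y.isBasis_affineOpens.exists_subset_of_mem_open (Set.mem_univ (f x)) isOpen_univ
  obtain ⟨_, ⟨W : X.Opens, (hW : IsAffineOpen W), rfl⟩, hxW, hWV⟩ :=
    X.isBasis_affineOpens.exists_subset_of_mem_open (a := x) (u := ↑(f ⁻¹ᵁ V)) hxV (f ⁻¹ᵁ V).2
  have hfp := f.finitePresentation_appLE hV hW hWV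
  algebraize [(f.appLE V W hWV).hom]
  letI := Module.compHom Γ(M, W) (f.appLE V W hWV).hom
  haveI : IsScalarTower Γ(Y, V) Γ(X, W) Γ(M, W) := .of_algebraMap_smul fun _ _ => rfl
  haveI := QCohLib.finitePresentation_sections M hM hW
  refine ⟨hW.fromSpec '' {q | Module.Flat Γ(Y, V) (LocalizedModule q.asIdeal.primeCompl Γ(M, W))},
    ?_, hW.fromSpec.isOpenEmbedding.isOpenMap _ isOpen_flat_locus,
    hW.primeIdealOf ⟨x, hxW⟩, (isFlatOverAt_iff f M hV hW hWV x hxW).mp hx,
    hW.fromSpec_primeIdealOf _⟩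
  rintro _ ⟨q, hq, rfl⟩
  have hqW : hW.fromSpec q ∈ W := by
    rw [← SetLike.mem_coe, ← hW.range_fromSpec]
    exact ⟨q, rfl⟩
  refine (isFlatOverAt_iff f M hV hW hWV _ hqW).mpr ?_
  rwa [show hW.primeIdealOf ⟨hW.fromSpec q, hqW⟩ = q from
    hW.fromSpec.isOpenEmbedding.injective (hW.fromSpec_primeIdealOf _)]

end Groth.Agent.FlatLocus
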