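import Groth.Agent.FlatLocus.InjFlat
import Groth.Agent.FlatLocus.ModFlat
import Groth.Agent.QCohLib.Exact

set_option autoImplicit false
set_option backward.isDefEq.respectTransparency false
set_option backward.defeqAttrib.useBackward true
set_option linter.style.haveILetI false

/-!
# The locus where a map of modules is injective with flat cokernel
-/

universe u

open CategoryTheory CategoryTheory.Limits AlgebraicGeometry TopologicalSpace Opposite
open Groth.Agent.CohBase

namespace Groth.Agent.FlatLocus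

variable {X Y : Scheme.{u}}

/-- A map of modules on sections as a linear map. -/
noncomputable def appL {M N : X.Modules} (φ : M ⟶ N) (W : X.Opens) :
    Γ(M, W) →ₗ[Γ(X, W)] Γ(N, W) where
  toFun := φ.app W
  map_add' s t := map_add _ s t
  map_smul' a s := Scheme.Modules.Hom.app_smul φ a s

theorem cokernel_sections {M N : X.Modules} [hM : Coh.IsQCoh M] [hN : Coh.IsQCoh N] (φ : M ⟶ N)
    {W : X.Opens} (hW : IsAffineOpen W) :
    Function.Surjective (appL (cokernel.π φ) W) ∧
      LinearMap.ker (appL (cokernel.π φ) W) = LinearMap.range (appL φ W) := by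
  have hq := QCohLib.isQCoh_image φ hM hN
  let S₁ : ShortComplex X.Modules := ShortComplex.mk (kernel.ι φ) (Abelian.factorThruImage φ) (by
    rw [← cancel_mono (Abelian.image.ι φ), Category.assoc, Abelian.image.fac, kernel.condition,
      zero_comp])
  have hS₁ : S₁.ShortExact := ShortComplex.ShortExact.mk'
    (ShortComplex.exact_of_f_is_kernel _ (KernelFork.IsLimit.ofι' _ _ fun {A} k hk =>
      ⟨kernel.lift φ k (by
        rw [← Abelian.image.fac φ, ← Category.assoc, show k ≫ Abelian.factorThruImage φ = 0 from hk,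
          zero_comp]), kernel.lift_ι _ _ _⟩)) inferInstance inferInstance
  let S₂ : ShortComplex X.Modules :=
    ShortComplex.mk (Abelian.image.ι φ) (cokernel.π φ) (kernel.condition _)
  have hS₂ : S₂.ShortExact := ShortComplex.ShortExact.mk'
    (ShortComplex.exact_of_f_is_kernel _ (kernelIsKernel _)) inferInstance inferInstance
  have hI : Coh.IsQCoh (Abelian.image φ) := QCohLib.isQCoh_X₁ hS₂ hN hq.2
  refine ⟨QCohLib.app_surjective hS₂ hI hW, le_antisymm (fun s hs => ?_) ?_⟩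
  · obtain ⟨t, ht⟩ := QCohLib.app_exact hS₂ W s hs
    obtain ⟨m, hm⟩ := QCohLib.app_surjective hS₁ hq.1 hW t
    refine ⟨m, ?_⟩
    show φ.app W m = s
    rw [← ht, ← hm]
    exact (congr($(Abelian.image.fac φ).app W m)).symm
  · rintro _ ⟨m, rfl⟩
    exact congr($(cokernel.condition φ).app W m)

/-- The germ map as a linear map. -/
noncomputable def germL (M : X.Modules) (W : X.Opens) (x : X) (hx : x ∈ W) :
    letI := Module.compHom (M.presheaf.stalk x) (X.presheaf.germ W x hx).hom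
    Γ(M, W) →ₗ[Γ(X, W)] M.presheaf.stalk x :=
  letI := Module.compHom (M.presheaf.stalk x) (X.presheaf.germ W x hx).hom
  { toFun := M.presheaf.germ W x hx
    map_add' := fun a b => map_add _ a b
    map_smul' := fun a s => PresheafOfModules.germ_smul (R := X.presheaf) M.val x W hx a s }

theorem isLocalizedModule_germL (M : X.Modules) [Coh.IsQCoh M] {W : X.Opens}
    (hW : IsAffineOpen W) (x : X) (hx : x ∈ W) :
    letI := Module.compHom (M.presheaf.stalk x) (X.presheaf.germ W x hx).hom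
    IsLocalizedModule (hW.primeIdealOf ⟨x, hx⟩).asIdeal.primeCompl (germL M W x hx) := by
  letI := Module.compHom (M.presheaf.stalk x) (X.presheaf.germ W x hx).hom
  have hmem : ∀ a : Γ(X, W), a ∈ (hW.primeIdealOf ⟨x, hx⟩).asIdeal.primeCompl ↔
      x ∈ X.basicOpen a := fun a => by
    have h := SetLike.ext_iff.mp (hW.fromSpec_preimage_basicOpen a) (hW.primeIdealOf ⟨x, hx⟩)
    rw [Scheme.Hom.mem_preimage, hW.fromSpec_primeIdealOf] at h
    exact h.symm
  have hloc := Groth.Agent.QCohLib.locAt M hW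
  refine ⟨fun a => ?_, fun y => ?_, fun {s₁ s₂} h => ?_⟩
  · obtain ⟨u, hu⟩ := (X.mem_basicOpen a.1 x hx).mp ((hmem a.1).mp a.2)
    refine (Module.End.isUnit_iff _).mpr ?_
    show Function.Bijective fun v : M.presheaf.stalk x => X.presheaf.germ W x hx a.1 • v
    rw [← hu]
    exact MulAction.bijective u
  · obtain ⟨V, hxV, t, rfl⟩ := TopCat.Presheaf.exists_germ_eq M.presheaf y
    obtain ⟨a, ha, hxa⟩ := hW.exists_basicOpen_le ⟨x, hxV⟩ hx
    obtain ⟨n, s, hs⟩ := hloc.extend a (M.presheaf.map (homOfLE ha).op t)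
    refine ⟨⟨s, ⟨a ^ n, (Submonoid.pow_mem _ ((hmem a).mpr hxa) n)⟩⟩, ?_⟩
    show X.presheaf.germ W x hx (a ^ n) • M.presheaf.germ V x hxV t = M.presheaf.germ W x hx s
    rw [← M.presheaf.germ_res_apply (homOfLE (X.basicOpen_le a)) x hxa s, hs,
      GenFree.germ_sc M (X.basicOpen_le a) x hxa]
    congr 1
    exact (M.presheaf.germ_res_apply (homOfLE ha) x hxa t).symm
  · obtain ⟨V, hxV, i₁, i₂, hV⟩ := TopCat.Presheaf.germ_eq M.presheaf x hx hx s₁ s₂ h
    obtain ⟨a, ha, hxa⟩ := hW.exists_basicOpen_le ⟨x, hxV⟩ hx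
    have h0 : M.presheaf.map (homOfLE (X.basicOpen_le a)).op (s₁ - s₂) = 0 := by
      rw [map_sub, sub_eq_zero, ← restr_trans M i₁.le ha, ← restr_trans M i₂.le ha]
      exact congrArg _ hV
    obtain ⟨n, hn⟩ := hloc.kill a _ h0
    refine ⟨⟨a ^ n, Submonoid.pow_mem _ ((hmem a).mpr hxa) n⟩, ?_⟩
    rw [sc_apply, smul_sub, sub_eq_zero] at hn
    show a ^ n • s₁ = a ^ n • s₂
    have e : X.presheaf.map (homOfLE (le_refl W)).op (a ^ n) = a ^ n := by
      rw [show homOfLE (le_refl W) = 𝟙 W from rfl, op_id, CategoryTheory.Functor.map_id]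
      rfl
    rwa [e] at hn

/-- The map on stalks. -/
noncomputable def stalkHom {M N : X.Modules} (φ : M ⟶ N) (x : X) :
    M.presheaf.stalk x →+ N.presheaf.stalk x :=
  ((TopCat.Presheaf.stalkFunctor Ab x).map (Scheme.Modules.Hom.mapPresheaf φ)).hom

theorem stalk_map_sc {M N : X.Modules} (φ : M ⟶ N) {W : X.Opens} (x : X) (hx : x ∈ W)
    (a : Γ(X, W)) (z : M.presheaf.stalk x) :
    stalkHom φ x (X.presheaf.germ W x hx a • z) = X.presheaf.germ W x hx a • stalkHom φ x z := by
  obtain ⟨V, hxV, t, rfl⟩ := TopCat.Presheaf.exists_germ_eq M.presheaf z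
  let V' := V ⊓ W
  have hxV' : x ∈ V' := ⟨hxV, hx⟩
  rw [← M.presheaf.germ_res_apply (homOfLE (inf_le_left : V' ≤ V)) x hxV' t,
    ← GenFree.germ_sc M (inf_le_right : V' ≤ W) x hxV']
  refine (TopCat.Presheaf.stalkFunctor_map_germ_apply V' x hxV'
    (Scheme.Modules.Hom.mapPresheaf φ) _).trans ?_
  refine (congrArg (N.presheaf.germ V' x hxV') (QCohLib.app_sc φ a inf_le_right _)).trans ?_
  refine (GenFree.germ_sc N (inf_le_right : V' ≤ W) x hxV' a _).trans ?_
  congr 1
  exact (TopCat.Presheaf.stalkFunctor_map_germ_apply V' x hxV'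
    (Scheme.Modules.Hom.mapPresheaf φ) _).symm

variable (f : X ⟶ Y) {F F' : X.Modules} [Coh.IsQCoh F] [Coh.IsQCoh F'] (φ : F' ⟶ F)

theorem injective_stalk_iff {W : X.Opens} (hW : IsAffineOpen W) (x : X) (hx : x ∈ W) :
    Function.Injective ((TopCat.Presheaf.stalkFunctor Ab x).map
        (Scheme.Modules.Hom.mapPresheaf φ)) ↔
      ∀ m, appL φ W m = 0 → ∃ s ∉ (hW.primeIdealOf ⟨x, hx⟩).asIdeal, s • m = 0 := by
  letI := Module.compHom (F.presheaf.stalk x) (X.presheaf.germ W x hx).hom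
  letI := Module.compHom (F'.presheaf.stalk x) (X.presheaf.germ W x hx).hom
  let g := germL F W x hx
  let g' := germL F' W x hx
  haveI : IsLocalizedModule (hW.primeIdealOf ⟨x, hx⟩).asIdeal.primeCompl g :=
    isLocalizedModule_germL F hW x hx
  haveI : IsLocalizedModule (hW.primeIdealOf ⟨x, hx⟩).asIdeal.primeCompl g' :=
    isLocalizedModule_germL F' hW x hx
  show Function.Injective (stalkHom φ x) ↔ _
  let ψ := stalkHom φ x
  have hψ : ∀ m, ψ (g' m) = g (appL φ W m) := fun m =>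
    TopCat.Presheaf.stalkFunctor_map_germ_apply W x hx (Scheme.Modules.Hom.mapPresheaf φ) m
  constructor
  · intro h m hm
    have h0 : g' m = 0 := h (by
      show ψ (g' m) = ψ 0
      rw [hψ, hm, map_zero, map_zero])
    obtain ⟨s, hs⟩ :=
      (IsLocalizedModule.eq_zero_iff (hW.primeIdealOf ⟨x, hx⟩).asIdeal.primeCompl g').mp h0
    exact ⟨s.1, s.2, hs⟩
  · intro h
    rw [injective_iff_map_eq_zero]
    intro z hz
    obtain ⟨⟨m, s⟩, hms⟩ :=
      IsLocalizedModule.surj (hW.primeIdealOf ⟨x, hx⟩).asIdeal.primeCompl g' z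
    have h1 : g (appL φ W m) = 0 := by
      rw [← hψ, ← hms]
      refine (stalk_map_sc φ x hx s.1 z).trans ?_
      exact (congrArg (fun y : F.presheaf.stalk x => X.presheaf.germ W x hx s.1 • y) hz).trans
        (smul_zero _)
    obtain ⟨t, ht⟩ :=
      (IsLocalizedModule.eq_zero_iff (hW.primeIdealOf ⟨x, hx⟩).asIdeal.primeCompl g).mp h1
    obtain ⟨r, hr, hrm⟩ := h (t.1 • m) ((map_smul _ _ _).trans ht)
    have hu := IsLocalizedModule.map_units g'
      ⟨r * t.1 * s.1, Submonoid.mul_mem _ (Submonoid.mul_mem _ hr t.2) s.2⟩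
    apply ((Module.End.isUnit_iff _).mp hu).1
    rw [map_zero, Module.algebraMap_end_apply, mul_smul, ← Submonoid.smul_def, hms, ← map_smul,
      mul_smul, hrm, map_zero]

theorem isOpen_injective_and_flat_cokernel [LocallyOfFinitePresentation f] (hF : CohB1.IsFP F)
    (hF' : CohB1.IsFP F') :
    IsOpen {x : X | Function.Injective ((TopCat.Presheaf.stalkFunctor Ab x).map
      (Scheme.Modules.Hom.mapPresheaf φ)) ∧ FlatMod.IsFlatOverAt f (cokernel φ) x} := by
  haveI : Coh.IsQCoh (cokernel φ) := (QCohLib.isQCoh_image φ ‹_› ‹_›).2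
  refine isOpen_iff_forall_mem_open.mpr fun x hx => ?_
  obtain ⟨_, ⟨V : Y.Opens, (hV : IsAffineOpen V), rfl⟩, hxV, -⟩ :=
    Y.isBasis_affineOpens.exists_subset_of_mem_open (Set.mem_univ (f x)) isOpen_univ
  obtain ⟨_, ⟨W : X.Opens, (hW : IsAffineOpen W), rfl⟩, hxW, hWV⟩ :=
    X.isBasis_affineOpens.exists_subset_of_mem_open (a := x) (u := ↑(f ⁻¹ᵁ V)) hxV (f ⁻¹ᵁ V).2
  have hfp := f.finitePresentation_appLE hV hW hWV
  algebraize [(f.appLE V W hWV).hom]
  letI := Module.compHom Γ(F, W) (f.appLE V W hWV).hom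
  letI := Module.compHom Γ(cokernel φ, W) (f.appLE V W hWV).hom
  haveI : IsScalarTower Γ(Y, V) Γ(X, W) Γ(F, W) := .of_algebraMap_smul fun _ _ => rfl
  haveI : IsScalarTower Γ(Y, V) Γ(X, W) Γ(cokernel φ, W) := .of_algebraMap_smul fun _ _ => rfl
  haveI := QCohLib.finitePresentation_sections F hF hW
  haveI := QCohLib.finitePresentation_sections F' hF' hW
  obtain ⟨hsur, hker⟩ := cokernel_sections φ hW
  let eC : (Γ(F, W) ⧸ LinearMap.range (appL φ W)) ≃ₗ[Γ(X, W)] Γ(cokernel φ, W) :=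
    (Submodule.quotEquivOfEq _ _ hker.symm).trans
      (LinearMap.quotKerEquivOfSurjective (appL (cokernel.π φ) W) hsur)
  have key : ∀ y (hy : y ∈ W), (Function.Injective ((TopCat.Presheaf.stalkFunctor Ab y).map
      (Scheme.Modules.Hom.mapPresheaf φ)) ∧ FlatMod.IsFlatOverAt f (cokernel φ) y) ↔
      hW.primeIdealOf ⟨y, hy⟩ ∈ {q : PrimeSpectrum Γ(X, W) |
        (∀ m, appL φ W m = 0 → ∃ s ∉ q.asIdeal, s • m = 0) ∧ Module.Flat Γ(Y, V)
          (LocalizedModule q.asIdeal.primeCompl (Γ(F, W) ⧸ LinearMap.range (appL φ W)))} := by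
    intro y hy
    refine and_congr (injective_stalk_iff φ hW y hy)
      ((isFlatOverAt_iff f (cokernel φ) hV hW hWV y hy).trans ?_)
    let T := (hW.primeIdealOf ⟨y, hy⟩).asIdeal.primeCompl
    let e := (IsLocalizedModule.iso T (LocalizedModule.mkLinearMap T Γ(cokernel φ, W) ∘ₗ
      eC.toLinearMap)).restrictScalars Γ(Y, V)
    exact ⟨fun h => Module.Flat.of_linearEquiv e, fun h => Module.Flat.of_linearEquiv e.symm⟩
  refine ⟨hW.fromSpec '' {q : PrimeSpectrum Γ(X, W) |
        (∀ m, appL φ W m = 0 → ∃ s ∉ q.asIdeal, s • m = 0) ∧ Module.Flat Γ(Y, V)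
          (LocalizedModule q.asIdeal.primeCompl (Γ(F, W) ⧸ LinearMap.range (appL φ W)))},
    ?_, hW.fromSpec.isOpenEmbedding.isOpenMap _ (isOpen_injective_and_flat (appL φ W)),
    hW.primeIdealOf ⟨x, hxW⟩, (key x hxW).mp hx, hW.fromSpec_primeIdealOf _⟩
  rintro _ ⟨q, hq, rfl⟩
  have hqW : hW.fromSpec q ∈ W := by
    rw [← SetLike.mem_coe, ← hW.range_fromSpec]
    exact ⟨q, rfl⟩
  refine (key _ hqW).mpr ?_
  rwa [show hW.primeIdealOf ⟨hW.fromSpec q, hqW⟩ = q from
    hW.fromSpec.isOpenEmbedding.injective (hW.fromSpec_primeIdealOf _)]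

end Groth.Agent.FlatLocus
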