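import Groth.Agent.FlatLocus.FibreCrit
import Groth.Agent.FlatLocus.ModFlat

set_option autoImplicit false
set_option backward.isDefEq.respectTransparency false
set_option backward.defeqAttrib.useBackward true
set_option linter.style.haveILetI false

/-!
# The fibrewise criterion of flatness for modules
-/

universe u

open CategoryTheory AlgebraicGeometry TensorProduct IsLocalRing

namespace Groth.Agent.FlatLocus

theorem flat_of_faithfullyFlat_module (R A M : Type u) [CommRing R] [CommRing A] [Algebra R A]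
    [AddCommGroup M] [Module A M] [Module R M] [IsScalarTower R A M] [Module.FaithfullyFlat A M]
    [Module.Flat R M] : Module.Flat R A := by
  rw [Module.Flat.iff_lTensor_injective']
  intro J
  refine (Module.FaithfullyFlat.lTensor_injective_iff_injective A M
    (AlgebraTensorModule.lTensor A A J.subtype)).mp ?_
  let e : ∀ (P : Type u) [AddCommGroup P] [Module R P], M ⊗[A] (A ⊗[R] P) ≃ₗ[A] M ⊗[R] P :=
    fun P _ _ => AlgebraTensorModule.cancelBaseChange R A A M P
  have h := AlgebraTensorModule.lTensor_comp_cancelBaseChange (R := R) (A := A) (B := A) (M := M) J.subtype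
  have hi : Function.Injective (AlgebraTensorModule.lTensor A M J.subtype) :=
    Module.Flat.lTensor_preserves_injective_linearMap _ J.subtype_injective
  have : Function.Injective (AlgebraTensorModule.lTensor A M J.subtype ∘ₗ (e J).toLinearMap) :=
    hi.comp (e J).injective
  rw [h, LinearMap.coe_comp] at this
  exact this.of_comp

theorem faithfullyFlat_of_isLocalRing (A B M : Type u) [CommRing A] [CommRing B] [IsLocalRing A]
    [IsLocalRing B] [Algebra A B] [IsLocalHom (algebraMap A B)] [AddCommGroup M] [Module A M]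
    [Module B M] [IsScalarTower A B M] [Module.Flat A M] [Module.Finite B M] [Nontrivial M] :
    Module.FaithfullyFlat A M := by
  refine ⟨fun m hm htop => ?_⟩
  obtain rfl := eq_maximalIdeal hm
  have h1 : (⊤ : Submodule B M) ≤ maximalIdeal B • ⊤ := by
    intro z _
    have hz : z ∈ maximalIdeal A • (⊤ : Submodule A M) := by rw [htop]; trivial
    refine Submodule.smul_induction_on hz (fun a ha n _ => ?_) fun _ _ => Submodule.add_mem _
    rw [← algebraMap_smul B a n]
    exact Submodule.smul_mem_smul (map_nonunit _ a ha) Submodule.mem_top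
  have h2 := Submodule.eq_bot_of_le_smul_of_le_jacobson_bot (maximalIdeal B) ⊤
    Module.Finite.fg_top h1 (maximalIdeal_le_jacobson _)
  exact top_ne_bot h2

theorem flat_quotient_of_flat {A M : Type u} [CommRing A] [AddCommGroup M] [Module A M]
    [Module.Flat A M] (I : Ideal A) : Module.Flat (A ⧸ I) (M ⧸ (I • ⊤ : Submodule A M)) :=
  Module.Flat.of_linearEquiv
    ((TensorProduct.quotTensorEquivQuotSMul M I).extendScalarsOfSurjective
      Ideal.Quotient.mk_surjective).symm

theorem flat_tensor_quot_of_flat_localized {A Ay M : Type u} [CommRing A] [CommRing Ay]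
    [Algebra A Ay] [Module.Flat A Ay] [AddCommGroup M] [Module Ay M] [Module A M]
    [IsScalarTower A Ay M] (I : Ideal A) (I' : Ideal Ay) (hI : I.map (algebraMap A Ay) = I')
    (h : Module.Flat (Ay ⧸ I') (M ⧸ (I' • ⊤ : Submodule Ay M))) :
    Module.Flat (A ⧸ I) ((A ⧸ I) ⊗[A] M) := by
  subst hI
  let e₀ : A ⧸ I →+* Ay ⧸ I.map (algebraMap A Ay) :=
    Ideal.quotientMap _ (algebraMap A Ay) Ideal.le_comap_map
  have he₀ : e₀.Flat :=
    (quotLift_flat_iff I (Ideal.Quotient.mk _) Ideal.Quotient.mk_surjective Ideal.mk_ker e₀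
      (RingHom.ext fun _ => rfl)).mpr inferInstance
  letI := e₀.toAlgebra
  haveI : Module.Flat (A ⧸ I) (Ay ⧸ I.map (algebraMap A Ay)) := he₀
  letI : Module (A ⧸ I) (M ⧸ (I.map (algebraMap A Ay) • ⊤ : Submodule Ay M)) :=
    Module.compHom _ e₀
  haveI : IsScalarTower (A ⧸ I) (Ay ⧸ I.map (algebraMap A Ay))
      (M ⧸ (I.map (algebraMap A Ay) • ⊤ : Submodule Ay M)) :=
    .of_algebraMap_smul fun _ _ => rfl
  haveI : IsScalarTower A (A ⧸ I) (M ⧸ (I.map (algebraMap A Ay) • ⊤ : Submodule Ay M)) :=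
    .of_algebraMap_smul fun a z => by
      obtain ⟨m, rfl⟩ := Submodule.Quotient.mk_surjective _ z
      exact congrArg Submodule.Quotient.mk (algebraMap_smul Ay a m)
  haveI := Module.Flat.trans (A ⧸ I) (Ay ⧸ I.map (algebraMap A Ay))
    (M ⧸ (I.map (algebraMap A Ay) • ⊤ : Submodule Ay M))
  let e : (A ⧸ I) ⊗[A] M ≃ₗ[A] M ⧸ (I.map (algebraMap A Ay) • ⊤ : Submodule Ay M) :=
    TensorProduct.quotTensorEquivQuotSMul M I ≪≫ₗ
      Submodule.quotEquivOfEq _ _ (by rw [Submodule.restrictScalars_map_smul_eq, Submodule.restrictScalars_top]) ≪≫ₗ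
      Submodule.Quotient.restrictScalarsEquiv A _
  exact Module.Flat.of_linearEquiv (e.extendScalarsOfSurjective Ideal.Quotient.mk_surjective)

variable {X Y S : Scheme.{u}}

theorem finite_stalk (F : X.Modules) [Coh.IsQCoh F] (hF : CohB1.IsFP F) (x : X) :
    Module.Finite (X.presheaf.stalk x) (F.presheaf.stalk x) := by
  obtain ⟨_, ⟨W : X.Opens, (hW : IsAffineOpen W), rfl⟩, hxW, -⟩ :=
    X.isBasis_affineOpens.exists_subset_of_mem_open (Set.mem_univ x) isOpen_univ
  haveI := QCohLib.finitePresentation_sections F hF hW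
  letI := Module.compHom (F.presheaf.stalk x) (X.presheaf.germ W x hxW).hom
  obtain ⟨gl, hgl⟩ := GenFree.exists_isLocalizedModule_germ F hW x hxW
  haveI := hgl
  letI : Algebra Γ(X, W) (X.presheaf.stalk x) :=
    TopCat.Presheaf.algebra_section_stalk X.presheaf ⟨x, hxW⟩
  haveI := hW.isLocalization_stalk ⟨x, hxW⟩
  haveI : IsScalarTower Γ(X, W) (X.presheaf.stalk x) (F.presheaf.stalk x) :=
    .of_algebraMap_smul fun _ _ => rfl
  exact Module.Finite.of_isLocalizedModule (hW.primeIdealOf ⟨x, hxW⟩).asIdeal.primeCompl gl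

variable (f : X ⟶ Y) (g : Y ⟶ S)

theorem isFlatOverAt_of_fibre [LocallyOfFinitePresentation (f ≫ g)] [LocallyOfFiniteType g]
    (F : X.Modules) [Coh.IsQCoh F] (hF : CohB1.IsFP F) (x : X)
    (h1 : FlatMod.IsFlatOverAt (f ≫ g) F x)
    (h2 : letI := FlatMod.moduleStalkOver f F x
      Module.Flat (Y.presheaf.stalk (f x) ⧸
        (maximalIdeal (S.presheaf.stalk (g (f x)))).map (g.stalkMap (f x)).hom)
        (F.presheaf.stalk x ⧸ ((maximalIdeal (S.presheaf.stalk (g (f x)))).map
          (g.stalkMap (f x)).hom •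
            (⊤ : Submodule (Y.presheaf.stalk (f x)) (F.presheaf.stalk x))))) :
    FlatMod.IsFlatOverAt f F x := by
  obtain ⟨_, ⟨W : S.Opens, (hW : IsAffineOpen W), rfl⟩, hsW, -⟩ :=
    S.isBasis_affineOpens.exists_subset_of_mem_open (Set.mem_univ (g (f x))) isOpen_univ
  obtain ⟨_, ⟨U : Y.Opens, (hU : IsAffineOpen U), rfl⟩, hyU, hUW⟩ :=
    Y.isBasis_affineOpens.exists_subset_of_mem_open (a := f x) (u := ↑(g ⁻¹ᵁ W)) hsW (g ⁻¹ᵁ W).2
  obtain ⟨_, ⟨V : X.Opens, (hV : IsAffineOpen V), rfl⟩, hxV, hVU⟩ :=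
    X.isBasis_affineOpens.exists_subset_of_mem_open (a := x) (u := ↑(f ⁻¹ᵁ U)) hyU (f ⁻¹ᵁ U).2
  have hVW : V ≤ (f ≫ g) ⁻¹ᵁ W := fun a ha => hUW (hVU ha)
  have hflatR := (isFlatOverAt_iff (f ≫ g) F hW hV hVW x hxV).mp h1
  refine (isFlatOverAt_iff f F hU hV hVU x hxV).mpr ?_
  have hfR : RingHom.FinitePresentation ((f ≫ g).appLE W V hVW).hom :=
    (f ≫ g).finitePresentation_appLE hW hV hVW
  have hgR : RingHom.FiniteType (g.appLE W U hUW).hom := g.finiteType_appLE hW hU hUW
  letI : Algebra Γ(S, W) Γ(Y, U) := (g.appLE W U hUW).hom.toAlgebra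
  letI : Algebra Γ(Y, U) Γ(X, V) := (f.appLE U V hVU).hom.toAlgebra
  letI : Algebra Γ(S, W) Γ(X, V) := ((f ≫ g).appLE W V hVW).hom.toAlgebra
  have happ : ∀ r : Γ(S, W), (f ≫ g).appLE W V hVW r = f.appLE U V hVU (g.appLE W U hUW r) :=
    fun r => (ConcreteCategory.congr_hom (Scheme.Hom.appLE_comp_appLE f g W U V hUW hVU) r).symm
  haveI : IsScalarTower Γ(S, W) Γ(Y, U) Γ(X, V) := .of_algebraMap_eq happ
  haveI : Algebra.FinitePresentation Γ(S, W) Γ(X, V) := hfR
  haveI : Algebra.FiniteType Γ(S, W) Γ(Y, U) := hgR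
  haveI : Algebra.FinitePresentation Γ(Y, U) Γ(X, V) :=
    Algebra.FinitePresentation.of_restrict_scalars_finitePresentation Γ(S, W) Γ(Y, U) Γ(X, V)
  letI := Module.compHom Γ(F, V) ((f ≫ g).appLE W V hVW).hom
  letI := Module.compHom Γ(F, V) (f.appLE U V hVU).hom
  haveI : IsScalarTower Γ(Y, U) Γ(X, V) Γ(F, V) := .of_algebraMap_smul fun _ _ => rfl
  haveI : IsScalarTower Γ(S, W) Γ(X, V) Γ(F, V) := .of_algebraMap_smul fun _ _ => rfl
  haveI : IsScalarTower Γ(S, W) Γ(Y, U) Γ(F, V) := .of_algebraMap_smul fun r m => by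
    show f.appLE U V hVU (g.appLE W U hUW r) • m = (f ≫ g).appLE W V hVW r • m
    rw [happ]
  haveI := QCohLib.finitePresentation_sections F hF hV
  let q := (hV.primeIdealOf ⟨x, hxV⟩).asIdeal
  let p := (hW.primeIdealOf ⟨g (f x), hsW⟩).asIdeal
  haveI : Module.Flat Γ(S, W) (LocalizedModule q.primeCompl Γ(F, V)) := hflatR
  letI := FlatMod.moduleStalkOver f F x
  letI := Module.compHom (F.presheaf.stalk x) (X.presheaf.germ V x hxV).hom
  obtain ⟨gl, hgl⟩ := GenFree.exists_isLocalizedModule_germ F hV x hxV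
  haveI := hgl
  letI := Module.compHom (F.presheaf.stalk x)
    ((X.presheaf.germ V x hxV).hom.comp (f.appLE U V hVU).hom)
  haveI : IsScalarTower Γ(Y, U) Γ(X, V) (F.presheaf.stalk x) :=
    .of_algebraMap_smul fun _ _ => rfl
  letI : Algebra Γ(Y, U) (Y.presheaf.stalk (f x)) :=
    TopCat.Presheaf.algebra_section_stalk Y.presheaf ⟨f x, hyU⟩
  haveI := hU.isLocalization_stalk ⟨f x, hyU⟩
  haveI : Module.Flat Γ(Y, U) (Y.presheaf.stalk (f x)) :=
    IsLocalization.flat _ (hU.primeIdealOf ⟨f x, hyU⟩).asIdeal.primeCompl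
  letI : Algebra Γ(S, W) (S.presheaf.stalk (g (f x))) :=
    TopCat.Presheaf.algebra_section_stalk S.presheaf ⟨g (f x), hsW⟩
  haveI : IsLocalization.AtPrime (S.presheaf.stalk (g (f x))) p :=
    hW.isLocalization_stalk ⟨g (f x), hsW⟩
  haveI : IsScalarTower Γ(Y, U) (Y.presheaf.stalk (f x)) (F.presheaf.stalk x) := by
    refine .of_algebraMap_smul fun r m => ?_
    show (f.stalkMap x) (Y.presheaf.germ U (f x) hyU r) • m =
      X.presheaf.germ V x hxV (f.appLE U V hVU r) • m
    congr 1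
    rw [Scheme.Hom.germ_stalkMap_apply, Scheme.Hom.appLE, CommRingCat.comp_apply,
      X.presheaf.germ_res_apply]
  have hI : (p.map (algebraMap Γ(S, W) Γ(Y, U))).map
      (algebraMap Γ(Y, U) (Y.presheaf.stalk (f x))) =
      (maximalIdeal (S.presheaf.stalk (g (f x)))).map (g.stalkMap (f x)).hom := by
    rw [← IsLocalization.AtPrime.map_eq_maximalIdeal p (S.presheaf.stalk (g (f x))), Ideal.map_map,
      Ideal.map_map]
    congr 1
    refine RingHom.ext fun r => ?_
    show Y.presheaf.germ U (f x) hyU (g.appLE W U hUW r) =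
      g.stalkMap (f x) (S.presheaf.germ W (g (f x)) hsW r)
    rw [Scheme.Hom.germ_stalkMap_apply, Scheme.Hom.appLE, CommRingCat.comp_apply,
      Y.presheaf.germ_res_apply]
  haveI := flat_tensor_quot_of_flat_localized (M := F.presheaf.stalk x) _ _ hI h2
  let el := (IsLocalizedModule.iso q.primeCompl gl).restrictScalars Γ(Y, U)
  refine flat_fibrewise_fp (R := Γ(S, W)) p q ?_
    (Module.Flat.of_linearEquiv (el.baseChange Γ(Y, U) (Γ(Y, U) ⧸ p.map (algebraMap Γ(S, W) Γ(Y, U))) _ _))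
  rw [Ideal.map_le_iff_le_comap, Ideal.comap_comap]
  refine le_of_eq ?_
  show p = Ideal.comap ((algebraMap Γ(Y, U) Γ(X, V)).comp (algebraMap Γ(S, W) Γ(Y, U))) q
  rw [show (algebraMap Γ(Y, U) Γ(X, V)).comp (algebraMap Γ(S, W) Γ(Y, U)) =
    ((f ≫ g).appLE W V hVW).hom from RingHom.ext fun r => (happ r).symm]
  exact congr($(IsAffineOpen.comap_primeIdealOf_appLE W hW V hV hVW hxV).1).symm

/-- The fibrewise criterion of flatness for modules at a point. -/
theorem fibre_criterion_mod [LocallyOfFinitePresentation (f ≫ g)] [LocallyOfFiniteType g]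
    (F : X.Modules) [Coh.IsQCoh F] (hF : CohB1.IsFP F) (x : X)
    (hx : Nontrivial (F.presheaf.stalk x)) :
    letI := FlatMod.moduleStalkOver f F x
    (FlatMod.IsFlatOverAt (f ≫ g) F x ∧
      Module.Flat (Y.presheaf.stalk (f x) ⧸
        (maximalIdeal (S.presheaf.stalk (g (f x)))).map (g.stalkMap (f x)).hom)
        (F.presheaf.stalk x ⧸ ((maximalIdeal (S.presheaf.stalk (g (f x)))).map
          (g.stalkMap (f x)).hom •
            (⊤ : Submodule (Y.presheaf.stalk (f x)) (F.presheaf.stalk x))))) ↔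
    ((g.stalkMap (f x)).hom.Flat ∧ FlatMod.IsFlatOverAt f F x) := by
  letI := FlatMod.moduleStalkOver f F x
  letI mS : Module (S.presheaf.stalk (g (f x))) (F.presheaf.stalk x) :=
    FlatMod.moduleStalkOver (f ≫ g) F x
  letI := (g.stalkMap (f x)).hom.toAlgebra
  letI := (f.stalkMap x).hom.toAlgebra
  haveI : IsScalarTower (S.presheaf.stalk (g (f x))) (Y.presheaf.stalk (f x))
      (F.presheaf.stalk x) := .of_algebraMap_smul fun r m => by
    show (f.stalkMap x) ((g.stalkMap (f x)) r) • m = (f ≫ g).stalkMap x r • m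
    rw [Scheme.Hom.stalkMap_comp, CommRingCat.comp_apply]
    rfl
  haveI : IsScalarTower (Y.presheaf.stalk (f x)) (X.presheaf.stalk x) (F.presheaf.stalk x) :=
    .of_algebraMap_smul fun _ _ => rfl
  haveI : IsLocalHom (algebraMap (Y.presheaf.stalk (f x)) (X.presheaf.stalk x)) :=
    f.toLRSHom.prop x
  constructor
  · rintro ⟨h1, h2⟩
    have hf : Module.Flat (Y.presheaf.stalk (f x)) (F.presheaf.stalk x) :=
      isFlatOverAt_of_fibre f g F hF x h1 h2
    haveI : Module.Flat (S.presheaf.stalk (g (f x))) (F.presheaf.stalk x) := h1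
    haveI := finite_stalk F hF x
    haveI : Module.FaithfullyFlat (Y.presheaf.stalk (f x)) (F.presheaf.stalk x) :=
      faithfullyFlat_of_isLocalRing _ (X.presheaf.stalk x) _
    exact ⟨flat_of_faithfullyFlat_module (S.presheaf.stalk (g (f x))) (Y.presheaf.stalk (f x))
      (F.presheaf.stalk x), hf⟩
  · rintro ⟨hg, hf⟩
    haveI : Module.Flat (S.presheaf.stalk (g (f x))) (Y.presheaf.stalk (f x)) := hg
    haveI : Module.Flat (Y.presheaf.stalk (f x)) (F.presheaf.stalk x) := hf
    exact ⟨Module.Flat.trans (S.presheaf.stalk (g (f x))) (Y.presheaf.stalk (f x))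
      (F.presheaf.stalk x), flat_quotient_of_flat _⟩

end Groth.Agent.FlatLocus
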