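import Groth.Agent.FlatLocus.FibreCritMod

set_option autoImplicit false
set_option backward.isDefEq.respectTransparency false
set_option backward.defeqAttrib.useBackward true
set_option linter.style.haveILetI false

/-!
# Flat finitely presented modules are locally free
-/

universe u

open CategoryTheory CategoryTheory.Limits AlgebraicGeometry TopologicalSpace Opposite
open Groth.Agent.CohBase

namespace Groth.Agent.FlatLocus

variable {X : Scheme.{u}}

theorem nonempty_iso_freeMod (M : X.Modules) [Coh.IsQCoh M] {D : X.Opens} (hD : IsAffineOpen D)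
    (n : ℕ) (e : Γ(M, D) ≃ₗ[Γ(X, D)] (Fin n → Γ(X, D))) :
    Nonempty (M.restrict D.ι ≅ FlatMod.freeMod (↑D) n) := by
  let N := M.restrict hD.fromSpec
  haveI hiso : IsIso N.fromTildeΓ :=
    (isIso_fromTildeΓ_iff_isLocalizing _).mpr (isLocalizing_restrict M hD)
  let e₂ : Γ(N, ⊤) ≃ₗ[Γ(X, D)] (ULift.{u} (Fin n) →₀ Γ(X, D)) :=
    (QCohLib.topEquiv M hD).trans <| e.trans <|
      ((Finsupp.domLCongr Equiv.ulift).trans (Finsupp.linearEquivFunOnFinite _ _ _)).symm
  let i₁ : tilde ((modulesSpecToSheaf.obj N).presheaf.obj (op ⊤)) ≅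
      SheafOfModules.free.{u} (ULift.{u} (Fin n)) :=
    (tilde.functor Γ(X, D)).mapIso (LinearEquiv.toModuleIso e₂) ≪≫ tildeFinsupp _
  let i₂ : N ≅ SheafOfModules.free.{u} (ULift.{u} (Fin n)) := (asIso N.fromTildeΓ).symm ≪≫ i₁
  let v := hD.isoSpec.hom
  let F := Scheme.Modules.restrictFunctor v
  haveI : PreservesColimitsOfSize.{u, u} F :=
    (Scheme.Modules.restrictAdjunction v).leftAdjoint_preservesColimits
  exact ⟨((Scheme.Modules.restrictFunctorComp v hD.fromSpec).symm ≪≫
      Scheme.Modules.restrictFunctorCongr hD.isoSpec_hom_fromSpec).symm.app M ≪≫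
    F.mapIso i₂ ≪≫ PreservesCoproduct.iso F _ ≪≫
    Sigma.whiskerEquiv (Equiv.ulift.{u, 0}) fun _ => (Scheme.Modules.restrictUnitIso v).symm⟩

attribute [local instance] RingHomInvPair.of_ringEquiv in
/-- A finitely presented module with a free stalk is free of finite rank near the point. -/
theorem exists_free_nhd (M : X.Modules) [Coh.IsQCoh M] (hM : CohB1.IsFP M) (x : X)
    (hfree : Module.Flat (X.presheaf.stalk x) (M.presheaf.stalk x)) :
    ∃ (U : X.Opens) (n : ℕ), x ∈ U ∧ Nonempty (M.restrict U.ι ≅ FlatMod.freeMod (↑U) n) := by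
  obtain ⟨_, ⟨W : X.Opens, (hW : IsAffineOpen W), rfl⟩, hxW, -⟩ :=
    X.isBasis_affineOpens.exists_subset_of_mem_open (Set.mem_univ x) isOpen_univ
  haveI := QCohLib.finitePresentation_sections M hM hW
  letI := Module.compHom (M.presheaf.stalk x) (X.presheaf.germ W x hxW).hom
  obtain ⟨gl, hgl⟩ := GenFree.exists_isLocalizedModule_germ M hW x hxW
  haveI := hgl
  letI : Algebra Γ(X, W) (X.presheaf.stalk x) :=
    TopCat.Presheaf.algebra_section_stalk X.presheaf ⟨x, hxW⟩
  haveI := hW.isLocalization_stalk ⟨x, hxW⟩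
  haveI : IsScalarTower Γ(X, W) (X.presheaf.stalk x) (M.presheaf.stalk x) :=
    .of_algebraMap_smul fun _ _ => rfl
  haveI := finite_stalk M hM x
  haveI : Module.Free (X.presheaf.stalk x) (M.presheaf.stalk x) :=
    Module.free_of_flat_of_isLocalRing
  obtain ⟨a, ha, hafree, -⟩ := Module.FinitePresentation.exists_free_localizedModule_powers
    (hW.primeIdealOf ⟨x, hxW⟩).asIdeal.primeCompl gl (X.presheaf.stalk x)
  have hxa : x ∈ X.basicOpen a := by
    have h := SetLike.ext_iff.mp (hW.fromSpec_preimage_basicOpen a) (hW.primeIdealOf ⟨x, hxW⟩)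
    rw [Scheme.Hom.mem_preimage, hW.fromSpec_primeIdealOf] at h
    exact h.mpr ha
  letI := Module.compHom Γ(M, X.basicOpen a)
    (X.presheaf.map (homOfLE (X.basicOpen_le a)).op).hom
  letI : Algebra Γ(X, W) Γ(X, X.basicOpen a) :=
    (X.presheaf.map (homOfLE (X.basicOpen_le a)).op).hom.toAlgebra
  haveI : IsScalarTower Γ(X, W) Γ(X, X.basicOpen a) Γ(M, X.basicOpen a) :=
    .of_algebraMap_smul fun _ _ => rfl
  haveI := hW.isLocalization_basicOpen a
  obtain ⟨r, hr⟩ := QCohLib.exists_isLocalizedModule_res M hW a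
  haveI := hr
  haveI : Module.Free Γ(X, X.basicOpen a) Γ(M, X.basicOpen a) := by
    let e₁ := IsLocalization.algEquiv (Submonoid.powers a) (Localization (Submonoid.powers a))
      Γ(X, X.basicOpen a)
    refine (Module.Free.iff_of_equiv (σ := e₁.toRingEquiv) ?_).mp hafree
    refine { __ := IsLocalizedModule.iso (Submonoid.powers a) r, map_smul' := ?_ }
    intro c z
    obtain ⟨c, s, rfl⟩ := IsLocalization.exists_mk'_eq (Submonoid.powers a) c
    apply ((Module.End.isUnit_iff _).mp (IsLocalizedModule.map_units r s)).1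
    simp [e₁, ← map_smul, ← smul_assoc]
  haveI : Module.Finite Γ(X, W) Γ(M, W) := inferInstance
  haveI : Module.Finite Γ(X, X.basicOpen a) Γ(M, X.basicOpen a) :=
    Module.Finite.of_isLocalizedModule (Submonoid.powers a) r
  obtain ⟨n, hn⟩ : ∃ n, Nonempty (Γ(M, X.basicOpen a) ≃ₗ[Γ(X, X.basicOpen a)]
      (Fin n → Γ(X, X.basicOpen a))) := by
    let b := Module.Free.chooseBasis Γ(X, X.basicOpen a) Γ(M, X.basicOpen a)
    exact ⟨_, ⟨b.equivFun.trans (LinearEquiv.funCongrLeft _ _
      (Fintype.equivFin (Module.Free.ChooseBasisIndex Γ(X, X.basicOpen a) Γ(M, X.basicOpen a))).symm)⟩⟩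
  obtain ⟨e⟩ := hn
  exact ⟨X.basicOpen a, n, hxa, nonempty_iso_freeMod M (hW.basicOpen a) n e⟩

end Groth.Agent.FlatLocus
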