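import Groth.Agent.FlatLocus.Main

set_option autoImplicit false
set_option linter.style.haveILetI false
set_option backward.isDefEq.respectTransparency false
set_option backward.defeqAttrib.useBackward true

/-!
# Openness of the flat locus of a morphism locally of finite presentation
-/

universe u

open CategoryTheory AlgebraicGeometry

namespace Groth.Agent.FlatLocus

theorem flat_stalkMap_iff {X S : Scheme.{u}} (f : X ⟶ S) {V : S.Opens} (hV : IsAffineOpen V)
    {U : X.Opens} (hU : IsAffineOpen U) (hUV : U ≤ f ⁻¹ᵁ V) (x : X) (hxU : x ∈ U) :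
    letI := (f.appLE V U hUV).hom.toAlgebra
    (f.stalkMap x).hom.Flat ↔ Module.Flat Γ(S, V)
      (LocalizedModule (hU.primeIdealOf ⟨x, hxU⟩).asIdeal.primeCompl Γ(X, U)) := by
  letI := (f.appLE V U hUV).hom.toAlgebra
  have hyV : f x ∈ V := hUV hxU
  letI : Algebra Γ(X, U) (X.presheaf.stalk x) :=
    TopCat.Presheaf.algebra_section_stalk X.presheaf ⟨x, hxU⟩
  letI : Algebra Γ(S, V) (S.presheaf.stalk (f x)) :=
    TopCat.Presheaf.algebra_section_stalk S.presheaf ⟨f x, hyV⟩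
  haveI : IsLocalization.AtPrime (X.presheaf.stalk x) (hU.primeIdealOf ⟨x, hxU⟩).asIdeal :=
    hU.isLocalization_stalk ⟨x, hxU⟩
  haveI : IsLocalization.AtPrime (S.presheaf.stalk (f x)) (hV.primeIdealOf ⟨f x, hyV⟩).asIdeal :=
    hV.isLocalization_stalk ⟨f x, hyV⟩
  letI := (f.stalkMap x).hom.toAlgebra
  letI : Algebra Γ(S, V) (X.presheaf.stalk x) :=
    ((X.presheaf.germ U x hxU).hom.comp (f.appLE V U hUV).hom).toAlgebra
  haveI : IsScalarTower Γ(S, V) Γ(X, U) (X.presheaf.stalk x) := .of_algebraMap_eq fun _ => rfl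
  haveI : IsScalarTower Γ(S, V) (S.presheaf.stalk (f x)) (X.presheaf.stalk x) :=
    .of_algebraMap_eq fun r => by
      show X.presheaf.germ U x hxU (f.appLE V U hUV r) =
        f.stalkMap x (S.presheaf.germ V (f x) hyV r)
      rw [Scheme.Hom.germ_stalkMap_apply, Scheme.Hom.appLE, CommRingCat.comp_apply,
        X.presheaf.germ_res_apply]
  let e := (IsLocalizedModule.iso (hU.primeIdealOf ⟨x, hxU⟩).asIdeal.primeCompl
    (Algebra.linearMap Γ(X, U) (X.presheaf.stalk x))).restrictScalars Γ(S, V)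
  rw [← RingHom.algebraMap_toAlgebra (f.stalkMap x).hom, RingHom.flat_algebraMap_iff,
    Module.flat_iff_of_isLocalization (S.presheaf.stalk (f x))
      (hV.primeIdealOf ⟨f x, hyV⟩).asIdeal.primeCompl (X.presheaf.stalk x)]
  exact ⟨fun _ => Module.Flat.of_linearEquiv e, fun _ => Module.Flat.of_linearEquiv e.symm⟩

theorem isOpen_flat_stalkMap {X S : Scheme.{u}} (f : X ⟶ S) [LocallyOfFinitePresentation f] :
    IsOpen {x : X | (f.stalkMap x).hom.Flat} := by
  refine isOpen_iff_forall_mem_open.mpr fun x hx => ?_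
  obtain ⟨_, ⟨V : S.Opens, hV, rfl⟩, hyV, -⟩ :=
    S.isBasis_affineOpens.exists_subset_of_mem_open (Set.mem_univ (f x)) isOpen_univ
  obtain ⟨_, ⟨U : X.Opens, hU, rfl⟩, hxU, hUV⟩ :=
    X.isBasis_affineOpens.exists_subset_of_mem_open (a := x) (u := ↑(f ⁻¹ᵁ V)) hyV (f ⁻¹ᵁ V).2
  letI := (f.appLE V U hUV).hom.toAlgebra
  haveI : Algebra.FinitePresentation Γ(S, V) Γ(X, U) :=
    f.finitePresentation_appLE hV hU hUV
  haveI : Module.FinitePresentation Γ(X, U) Γ(X, U) := inferInstance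
  let G := {q : PrimeSpectrum Γ(X, U) | Module.Flat Γ(S, V)
    (LocalizedModule q.asIdeal.primeCompl Γ(X, U))}
  have key : ∀ q : PrimeSpectrum Γ(X, U),
      (f.stalkMap (hU.fromSpec q)).hom.Flat ↔ q ∈ G := by
    intro q
    have hqU : hU.fromSpec q ∈ U := by
      rw [← SetLike.mem_coe, ← hU.range_fromSpec]
      exact ⟨q, rfl⟩
    rw [flat_stalkMap_iff f hV hU hUV _ hqU]
    have : hU.primeIdealOf ⟨hU.fromSpec q, hqU⟩ = q :=
      hU.fromSpec.isOpenEmbedding.injective (hU.fromSpec_primeIdealOf _)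
    rw [this]
    rfl
  refine ⟨hU.fromSpec '' G, ?_, hU.fromSpec.isOpenEmbedding.isOpenMap _ isOpen_flat_locus,
    hU.primeIdealOf ⟨x, hxU⟩, ?_, hU.fromSpec_primeIdealOf _⟩
  · rintro _ ⟨q, hq, rfl⟩
    exact (key q).mpr hq
  · rw [← key, hU.fromSpec_primeIdealOf]
    exact hx

end Groth.Agent.FlatLocus
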