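import Mathlib

set_option autoImplicit false
set_option backward.isDefEq.respectTransparency false
set_option backward.defeqAttrib.useBackward true

/-!
# Closure of the image of a closed set under a quasi-compact morphism
-/

universe u

open CategoryTheory AlgebraicGeometry TopologicalSpace

namespace Groth.Agent.FlatLocus

theorem exists_specializes_of_mem_closure_image {X Y : Scheme.{u}} (f : X ⟶ Y) [QuasiCompact f]
    {Z : Set X} (hZ : IsClosed Z) {y : Y} (hy : y ∈ closure (f '' Z)) :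
    ∃ x ∈ Z, f x ⤳ y := by
  obtain ⟨_, ⟨V : Y.Opens, (hV : IsAffineOpen V), rfl⟩, hyV, -⟩ :=
    Y.isBasis_affineOpens.exists_subset_of_mem_open (Set.mem_univ y) isOpen_univ
  have : CompactSpace ↥(f ⁻¹ᵁ V) := isCompact_iff_compactSpace.mp (f.isCompact_preimage hV.isCompact)
  obtain ⟨R, g, hg⟩ := (compactSpace_iff_exists (X := (f ⁻¹ᵁ V).toScheme)).mp this
  let h : Spec R ⟶ Spec Γ(Y, V) := g ≫ f ∣_ V ≫ hV.isoSpec.hom
  obtain ⟨ψ, hψ⟩ := Spec.homEquiv.symm.surjective h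
  have hcomp : Spec.map ψ ≫ hV.fromSpec = (g ≫ (f ⁻¹ᵁ V).ι) ≫ f := by
    rw [show Spec.map ψ = h from hψ]
    simp [h, IsAffineOpen.isoSpec_hom_fromSpec, morphismRestrict_ι]
  let Z' : Set (Spec R) := (g ≫ (f ⁻¹ᵁ V).ι) ⁻¹' Z
  have hsub : f '' Z ∩ V ⊆ hV.fromSpec '' (Spec.map ψ '' Z') := by
    rintro _ ⟨⟨x, hx, rfl⟩, hxV⟩
    obtain ⟨r, hr⟩ := hg ⟨x, hxV⟩
    have hr' : (g ≫ (f ⁻¹ᵁ V).ι) r = x := by
      rw [Scheme.Hom.comp_apply, hr]; rfl
    refine ⟨Spec.map ψ r, ⟨r, by show _ ∈ Z; rwa [hr'], rfl⟩, ?_⟩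
    rw [← Scheme.Hom.comp_apply, hcomp, Scheme.Hom.comp_apply, hr']
  have hyV' : y ∈ closure (f '' Z ∩ V) :=
    mem_closure_iff.mpr fun o ho hyo => by
      obtain ⟨w, ⟨hw1, hw2⟩, hw3⟩ := mem_closure_iff.mp hy (o ∩ V) (ho.inter V.2) ⟨hyo, hyV⟩
      exact ⟨w, hw1, hw3, hw2⟩
  obtain ⟨p, hp⟩ : y ∈ Set.range hV.fromSpec := by rw [hV.range_fromSpec]; exact hyV
  have hpc : p ∈ closure (Spec.map ψ '' Z') := by
    rw [hV.fromSpec.isOpenEmbedding.isInducing.closure_eq_preimage_closure_image, Set.mem_preimage,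
      hp]
    exact closure_mono hsub hyV'
  obtain ⟨I, hI⟩ := (PrimeSpectrum.isClosed_iff_zeroLocus_ideal _).mp
    (hZ.preimage (g ≫ (f ⁻¹ᵁ V).ι).continuous)
  have hple : I.comap ψ.hom ≤ p.asIdeal := by
    refine closure_minimal ?_ (PrimeSpectrum.isClosed_zeroLocus _) hpc
    rintro _ ⟨r, hr, rfl⟩
    exact Ideal.comap_mono (show r ∈ PrimeSpectrum.zeroLocus (I : Set R) from hI.le hr)
  obtain ⟨q, hqI, hq, hqle⟩ := p.asIdeal.exists_ideal_comap_le_prime I hple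
  refine ⟨(g ≫ (f ⁻¹ᵁ V).ι) ⟨q, hq⟩, hI.ge (show (⟨q, hq⟩ : PrimeSpectrum R) ∈ _ from hqI), ?_⟩
  rw [← Scheme.Hom.comp_apply, ← hcomp, Scheme.Hom.comp_apply, ← hp]
  exact ((PrimeSpectrum.le_iff_specializes _ _).mp hqle).map hV.fromSpec.continuous

end Groth.Agent.FlatLocus
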