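import Groth.Agent.FlatLocus.FibreCrit

set_option autoImplicit false
set_option linter.style.haveILetI false
set_option backward.isDefEq.respectTransparency false
set_option backward.defeqAttrib.useBackward true

/-!
# Smoothness and étaleness from fibres over a base
-/

universe u

open CategoryTheory CategoryTheory.Limits AlgebraicGeometry IsLocalRing

namespace Groth.Agent.FlatLocus

variable {X Y S : Scheme.{u}} (f : X ⟶ Y) (g : Y ⟶ S)

theorem isPullback_fiberMap (s : S) :
    IsPullback ((f ≫ g).fiberι s) (MoreMor.fiberMap f g s) f (g.fiberι s) := by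
  refine IsPullback.flip (IsPullback.of_right ?_ (fiberMap_fiberι f g s)
    (IsPullback.of_hasPullback g (S.fromSpecResidueField s)).flip)
  rw [show MoreMor.fiberMap f g s ≫ pullback.snd g (S.fromSpecResidueField s) =
    (f ≫ g).fiberToSpecResidueField s from pullback.lift_snd _ _ _]
  exact (IsPullback.of_hasPullback (f ≫ g) (S.fromSpecResidueField s)).flip

theorem fiberMap_of_pullback (P : MorphismProperty Scheme.{u}) [P.RespectsIso]
    (h : ∀ s : S, P (pullback.snd f (g.fiberι s))) (s : S) : P (MoreMor.fiberMap f g s) := by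
  rw [← (isPullback_fiberMap f g s).isoPullback_hom_snd]
  exact (P.cancel_left_of_respectsIso _ _).mpr (h s)

theorem flat_of_smooth_fibres [LocallyOfFinitePresentation (f ≫ g)] [LocallyOfFiniteType g]
    [Flat (f ≫ g)] (h : ∀ s : S, Smooth (pullback.snd f (g.fiberι s))) (x : X) :
    (g.stalkMap (f x)).hom.Flat ∧ (f.stalkMap x).hom.Flat := by
  haveI : Smooth (MoreMor.fiberMap f g ((f ≫ g) x)) := fiberMap_of_pullback f g @Smooth h _
  exact (fibre_criterion f g _ ((f ≫ g).asFiber x) x (Scheme.Hom.fiberι_asFiber (f ≫ g) x)).mp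
    ⟨Flat.stalkMap _ x, Flat.stalkMap _ _⟩

theorem fiberToSpec_of_fibres (P : MorphismProperty Scheme.{u}) [P.IsStableUnderBaseChange]
    (h : ∀ s : S, P (pullback.snd f (g.fiberι s))) (y : Y) :
    P (f.fiberToSpecResidueField y) := by
  let t := g.asFiberHom y
  have h1 : IsPullback (pullback.fst (pullback.snd f (g.fiberι (g y))) t ≫
      pullback.fst f (g.fiberι (g y))) (pullback.snd (pullback.snd f (g.fiberι (g y))) t) f
      (t ≫ g.fiberι (g y)) :=
    (IsPullback.of_hasPullback (pullback.snd f (g.fiberι (g y))) t).paste_horiz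
      (IsPullback.of_hasPullback f (g.fiberι (g y)))
  have h2 : P (pullback.snd (pullback.snd f (g.fiberι (g y))) t) :=
    MorphismProperty.pullback_snd _ _ (h _)
  simp only [t, Scheme.Hom.asFiberHom_fiberι] at h1
  rw [← h1.isoPullback_hom_snd] at h2
  exact (P.cancel_left_of_respectsIso _ _).mp h2

theorem smooth_of_fibres [LocallyOfFinitePresentation (f ≫ g)] [LocallyOfFiniteType g]
    [Flat (f ≫ g)] (h : ∀ s : S, Smooth (pullback.snd f (g.fiberι s))) : Smooth f := by
  haveI := locallyOfFinitePresentation_of_comp f g
  haveI : Flat f := Flat.of_stalkMap f fun x => (flat_of_smooth_fibres f g h x).2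
  exact Smooth.of_smooth_fiberToSpecResidueField f (fiberToSpec_of_fibres f g @Smooth h)

theorem formallyUnramified_of_fibres [LocallyOfFiniteType f]
    (h : ∀ y, FormallyUnramified (f.fiberToSpecResidueField y)) : FormallyUnramified f := by
  refine HasRingHomProperty.of_stalkMap (P := @FormallyUnramified)
    RingHom.FormallyUnramified.ofLocalizationPrime fun x => ?_
  let y := f x
  let z := f.asFiber x
  let w := f.fiberToSpecResidueField y z
  let φ := toFiberStalk f y z x (Scheme.Hom.fiberι_asFiber f x)
  obtain ⟨hφs, hφk⟩ := toFiberStalk_spec f y z x (Scheme.Hom.fiberι_asFiber f x)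
  haveI := h y
  letI : Algebra (Y.presheaf.stalk y) (X.presheaf.stalk x) := (f.stalkMap x).hom.toAlgebra
  haveI : Algebra.EssFiniteType (Y.presheaf.stalk y) (X.presheaf.stalk x) :=
    LocallyOfFiniteType.stalkMap f x
  haveI : IsLocalHom (algebraMap (Y.presheaf.stalk y) (X.presheaf.stalk x)) := f.toLRSHom.prop x
  let F := (f.fiber y).presheaf.stalk z
  let K := (Spec (Y.residueField y)).presheaf.stalk w
  have hK : IsField K := by
    have hw : w = closedPoint (Y.residueField y) := f.fiberToSpecResidueField_apply y z
    show IsField ((Spec (Y.residueField y)).presheaf.stalk w)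
    rw [hw]
    exact MulEquiv.isField (Field.toIsField (Y.residueField y))
      (stalkClosedPointIso (Y.residueField y)).commRingCatIsoToRingEquiv.toMulEquiv
  letI := hK.toField
  letI : Algebra K F := ((f.fiberToSpecResidueField y).stalkMap z).hom.toAlgebra
  haveI : LocallyOfFiniteType (f.fiberToSpecResidueField y) :=
    MorphismProperty.pullback_snd _ _ ‹_›
  haveI : Algebra.EssFiniteType K F := LocallyOfFiniteType.stalkMap (f.fiberToSpecResidueField y) z
  haveI : Algebra.FormallyUnramified K F :=
    FormallyUnramified.stalkMap (f.fiberToSpecResidueField y) z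
  haveI : IsLocalHom (algebraMap K F) := (f.fiberToSpecResidueField y).toLRSHom.prop z
  have hF : maximalIdeal F = ⊥ := by
    rw [← Algebra.FormallyUnramified.map_maximalIdeal (R := K) (S := F),
      (IsLocalRing.isField_iff_maximalIdeal_eq.mp hK), Ideal.map_bot]
  have hker : RingHom.ker φ.hom = maximalIdeal (X.presheaf.stalk x) := by
    haveI : IsLocalHom φ.hom := IsLocalHom.of_surjective φ.hom hφs
    refine le_antisymm (fun a ha => ?_) fun a ha => ?_
    · exact IsLocalRing.le_maximalIdeal (RingHom.ker_ne_top φ.hom) ha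
    · rw [RingHom.mem_ker, ← Submodule.mem_bot (R := F), ← hF]
      exact map_nonunit φ.hom a ha
  have hm : (maximalIdeal (Y.presheaf.stalk y)).map (algebraMap (Y.presheaf.stalk y)
      (X.presheaf.stalk x)) = maximalIdeal (X.presheaf.stalk x) := by
    rw [← hker, hφk]
    rfl
  let ψ : Y.presheaf.stalk y →+* F := φ.hom.comp (f.stalkMap x).hom
  have hψ : ψ.FormallyUnramified := by
    have key : ∀ (g : f.fiber y ⟶ Y), g = f.fiberToSpecResidueField y ≫ Y.fromSpecResidueField y →
        (g.stalkMap z).hom.FormallyUnramified := by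
      rintro g rfl
      haveI : FormallyUnramified (f.fiberToSpecResidueField y ≫ Y.fromSpecResidueField y) :=
        MorphismProperty.comp_mem _ _ _ (h y) inferInstance
      exact FormallyUnramified.stalkMap _ z
    have h1 := key (f.fiberι y ≫ f) (f.fiber_fac y)
    have key2 : ∀ (x' : X) (hx' : f.fiberι y z = x'), ((f.fiberι y ≫ f).stalkMap z).hom.FormallyUnramified →
        ((toFiberStalk f y z x' hx').hom.comp (f.stalkMap x').hom).FormallyUnramified := by
      rintro x' rfl h'
      rw [← CommRingCat.hom_comp]
      simpa [toFiberStalk, Scheme.Hom.stalkMap_comp] using h'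
    exact key2 x _ h1
  letI : Algebra (Y.presheaf.stalk y) F := ψ.toAlgebra
  haveI : Algebra.FormallyUnramified (Y.presheaf.stalk y) F := hψ
  let e : (X.presheaf.stalk x ⧸ maximalIdeal (X.presheaf.stalk x)) ≃ₐ[Y.presheaf.stalk y] F :=
    AlgEquiv.ofBijective (Ideal.Quotient.liftₐ (maximalIdeal (X.presheaf.stalk x))
      { φ.hom with commutes' := fun r => rfl } fun a ha => by
        show φ.hom a = 0
        rw [← RingHom.mem_ker, hker]; exact ha)
      ⟨RingHom.lift_injective_of_ker_le_ideal _ _ (le_of_eq hker), fun c => by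
        obtain ⟨a, rfl⟩ := hφs c
        exact ⟨Ideal.Quotient.mk _ a, rfl⟩⟩
  haveI h5 : Algebra.FormallyUnramified (Y.presheaf.stalk y) (ResidueField (X.presheaf.stalk x)) :=
    Algebra.FormallyUnramified.of_equiv e.symm
  haveI : Algebra.FormallyUnramified (ResidueField (Y.presheaf.stalk y))
      (ResidueField (X.presheaf.stalk x)) :=
    Algebra.FormallyUnramified.of_restrictScalars (Y.presheaf.stalk y) _ _
  haveI : Algebra.EssFiniteType (Y.presheaf.stalk y) (ResidueField (X.presheaf.stalk x)) :=
    Algebra.EssFiniteType.comp _ (X.presheaf.stalk x) _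
  haveI : Algebra.EssFiniteType (ResidueField (Y.presheaf.stalk y))
      (ResidueField (X.presheaf.stalk x)) :=
    Algebra.EssFiniteType.of_comp (Y.presheaf.stalk y) _ _
  haveI : Algebra.IsSeparable (ResidueField (Y.presheaf.stalk y))
      (ResidueField (X.presheaf.stalk x)) := Algebra.FormallyUnramified.isSeparable _ _
  exact Algebra.FormallyUnramified.of_map_maximalIdeal hm

theorem etale_of_fibres [LocallyOfFinitePresentation (f ≫ g)] [LocallyOfFiniteType g]
    [Flat (f ≫ g)] (h : ∀ s : S, Etale (pullback.snd f (g.fiberι s))) : Etale f := by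
  haveI := locallyOfFinitePresentation_of_comp f g
  haveI : Smooth f := smooth_of_fibres f g fun s => by haveI := h s; infer_instance
  haveI : FormallyUnramified f := formallyUnramified_of_fibres f fun y => by
    haveI : Etale (f.fiberToSpecResidueField y) := fiberToSpec_of_fibres f g @Etale h y
    infer_instance
  exact Etale.of_formallyUnramified_of_flat f

end Groth.Agent.FlatLocus
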