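import Groth.Prelude.Def_MoreMor

set_option autoImplicit false
set_option linter.style.haveILetI false
set_option backward.isDefEq.respectTransparency false
set_option backward.defeqAttrib.useBackward true

/-!
# Stalks of fibres
-/

universe u

open CategoryTheory CategoryTheory.Limits AlgebraicGeometry TensorProduct IsLocalRing

namespace Groth.Agent.FlatLocus

theorem fiberι_stalkMap_surjective {X S : Scheme.{u}} (f : X ⟶ S) (s : S) (z : f.fiber s) :
    Function.Surjective ((f.fiberι s).stalkMap z) :=
  (f.fiberι s).stalkMap_surjective z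

theorem ker_fiberι_stalkMap {X S : Scheme.{u}} (f : X ⟶ S) (s : S) (z : f.fiber s) :
    RingHom.ker ((f.fiberι s).stalkMap z).hom =
      (maximalIdeal (S.presheaf.stalk (f (f.fiberι s z)))).map
        (f.stalkMap (f.fiberι s z)).hom := by
  have hxs : f (f.fiberι s z) = s := by
    have : f.fiberι s z ∈ f ⁻¹' {s} := by rw [← f.range_fiberι s]; exact ⟨z, rfl⟩
    exact this
  refine le_antisymm (fun a ha => ?_) (Ideal.map_le_iff_le_comap.mpr fun a ha => ?_)
  · let x := f.fiberι s z
    let I := (maximalIdeal (S.presheaf.stalk (f x))).map (f.stalkMap x).hom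
    have hI : I ≤ maximalIdeal (X.presheaf.stalk x) := by
      rw [Ideal.map_le_iff_le_comap]
      exact fun a ha => map_nonunit (f.stalkMap x).hom a ha
    haveI : Nontrivial (X.presheaf.stalk x ⧸ I) := Ideal.Quotient.nontrivial_iff.mpr fun h =>
      (maximalIdeal.isMaximal (X.presheaf.stalk x)).ne_top (top_le_iff.mp (h ▸ hI))
    haveI : IsLocalRing (X.presheaf.stalk x ⧸ I) :=
      IsLocalRing.of_surjective' (Ideal.Quotient.mk I) Ideal.Quotient.mk_surjective
    let qx : X.presheaf.stalk x ⟶ CommRingCat.of (X.presheaf.stalk x ⧸ I) :=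
      CommRingCat.ofHom (Ideal.Quotient.mk I)
    haveI : IsLocalHom qx.hom :=
      IsLocalHom.of_surjective (Ideal.Quotient.mk I) Ideal.Quotient.mk_surjective
    let k0 : S.residueField (f x) ⟶ CommRingCat.of (X.presheaf.stalk x ⧸ I) :=
      CommRingCat.ofHom (Ideal.Quotient.lift (maximalIdeal (S.presheaf.stalk (f x)))
        ((Ideal.Quotient.mk I).comp (f.stalkMap x).hom) fun b hb =>
          Ideal.Quotient.eq_zero_iff_mem.mpr (Ideal.mem_map_of_mem _ hb))
    have hk : S.residue (f x) ≫ k0 = f.stalkMap x ≫ qx := rfl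
    let h : Spec (CommRingCat.of (X.presheaf.stalk x ⧸ I)) ⟶ f.fiber s :=
      pullback.lift (Spec.map qx ≫ X.fromSpecStalk x)
        (Spec.map k0 ≫ Spec.map (S.residueFieldCongr hxs.symm).hom) (by
          rw [Category.assoc, Category.assoc, Scheme.residueFieldCongr_fromSpecResidueField,
            Scheme.fromSpecResidueField, ← Scheme.SpecMap_stalkMap_fromSpecStalk,
            ← Spec.map_comp_assoc, ← Spec.map_comp_assoc, hk])
    have hh : h ≫ f.fiberι s = Spec.map qx ≫ X.fromSpecStalk x := pullback.lift_fst _ _ _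
    let c := closedPoint (X.presheaf.stalk x ⧸ I)
    have hx' : f.fiberι s (h c) = x := by
      rw [← Scheme.Hom.comp_apply, hh, Scheme.Hom.comp_apply]
      exact (congrArg (X.fromSpecStalk x) Spec_closedPoint).trans X.fromSpecStalk_closedPoint
    have hc : h c = z := (f.fiberι s).isEmbedding.injective hx'
    obtain ⟨U, hxU, sec, rfl⟩ := TopCat.Presheaf.exists_germ_eq X.presheaf a
    rw [← Ideal.Quotient.eq_zero_iff_mem]
    show qx (X.presheaf.germ U x hxU sec) = 0
    have hU : (Spec.map qx ≫ X.fromSpecStalk x) c ∈ U := by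
      rw [← hh, Scheme.Hom.comp_apply, hx']; exact hxU
    have h1 := ConcreteCategory.congr_hom
      (Scheme.germ_stalkClosedPointTo_Spec_fromSpecStalk qx U hU) sec
    rw [CommRingCat.comp_apply, CommRingCat.comp_apply] at h1
    rw [← h1]
    have key : ∀ (w : f.fiber s) (hw : f.fiberι s w ∈ U), w = z →
        (f.fiberι s).stalkMap w (X.presheaf.germ U _ hw sec) = 0 := by
      rintro w hw rfl
      exact ha
    have h2 : ∀ (g : Spec (CommRingCat.of (X.presheaf.stalk x ⧸ I)) ⟶ X)
        (_ : g = h ≫ f.fiberι s) (hg : g c ∈ U),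
        Scheme.stalkClosedPointTo g (X.presheaf.germ U _ hg sec) = 0 := by
      rintro g rfl hg
      rw [Scheme.stalkClosedPointTo_comp, CommRingCat.comp_apply]
      exact (congrArg _ (key _ hg hc)).trans (map_zero _)
    exact h2 _ hh.symm hU
  · rw [Ideal.mem_comap, RingHom.mem_ker]
    have h1 := ConcreteCategory.congr_hom (Scheme.Hom.stalkMap_comp (f.fiberι s) f z) a
    rw [CommRingCat.comp_apply] at h1
    show (f.fiberι s).stalkMap z (f.stalkMap (f.fiberι s z) a) = 0
    refine h1.symm.trans ?_
    have key : ∀ (g : f.fiber s ⟶ S), g = f.fiberToSpecResidueField s ≫ S.fromSpecResidueField s →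
        ∀ b ∈ maximalIdeal (S.presheaf.stalk (g z)), g.stalkMap z b = 0 := by
      rintro g rfl b hb
      rw [Scheme.Hom.stalkMap_comp, CommRingCat.comp_apply]
      let w := f.fiberToSpecResidueField s z
      have hfield : IsField ((Spec (S.residueField s)).presheaf.stalk w) := by
        have hw : w = closedPoint (S.residueField s) := f.fiberToSpecResidueField_apply s z
        rw [hw]
        exact MulEquiv.isField (Field.toIsField (S.residueField s))
          (stalkClosedPointIso (S.residueField s)).commRingCatIsoToRingEquiv.toMulEquiv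
      have h2 : ¬ IsUnit ((S.fromSpecResidueField s).stalkMap w b) :=
        fun hu => hb (IsLocalHom.map_nonunit (f := ((S.fromSpecResidueField s).stalkMap w).hom) b hu)
      have h3 : (S.fromSpecResidueField s).stalkMap w b = 0 := by
        by_contra hne
        obtain ⟨c, hc⟩ := hfield.mul_inv_cancel hne
        exact h2 (IsUnit.of_mul_eq_one c hc)
      exact (congrArg _ h3).trans (map_zero _)
    exact key _ (f.fiber_fac s) a ha

end Groth.Agent.FlatLocus
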