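import Groth.Agent.FlatLocus.Main
import Groth.Agent.LocFlat.Fibre

set_option autoImplicit false
set_option linter.style.haveILetI false
set_option backward.isDefEq.respectTransparency false
set_option backward.defeqAttrib.useBackward true

/-!
# Fibrewise criterion of flatness without noetherian hypotheses
-/

universe u

open TensorProduct

namespace Groth.Agent.FlatLocus

variable {R A : Type u} [CommRing R] [CommRing A] [Algebra R A]

/-- Flatness over the base and on the fibre gives injectivity at every ideal containing `p A`. -/
theorem lTensor_injective_of_fibre {M : Type u} [AddCommGroup M] [Module A M] [Module R M]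
    [IsScalarTower R A M] [Module.Flat R M] (p : Ideal R)
    (J : Ideal A) (hJ : p.map (algebraMap R A) ≤ J)
    (h2 : Function.Injective (((J.map (Ideal.Quotient.mk (p.map (algebraMap R A))) :
      Submodule (A ⧸ p.map (algebraMap R A)) (A ⧸ p.map (algebraMap R A))).subtype.restrictScalars
        A).lTensor M)) :
    Function.Injective (J.subtype.lTensor M) := by
  let I := p.map (algebraMap R A)
  have h1 : Function.Injective (I.subtype.rTensor M) := by
    let j : p →ₗ[R] I :=
      LinearMap.codRestrict (I.restrictScalars R)
        ((Algebra.linearMap R A) ∘ₗ p.subtype) fun a => Ideal.mem_map_of_mem _ a.2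
    let φ : p ⊗[R] M →+ I ⊗[A] M := TensorProduct.liftAddHom
      { toFun := fun a => ((TensorProduct.mk A I M (j a)).toAddMonoidHom)
        map_zero' := by ext; simp
        map_add' := fun a b => by ext; simp }
      (fun r a x => by
        show j (r • a) ⊗ₜ[A] x = j a ⊗ₜ[A] (r • x)
        rw [map_smul, ← algebraMap_smul A r (j a), ← algebraMap_smul A r x, smul_tmul])
    have hφ : Function.Surjective φ := by
      intro z
      induction z using TensorProduct.induction_on with
      | zero => exact ⟨0, map_zero _⟩
      | add x y hx hy =>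
        obtain ⟨a, rfl⟩ := hx
        obtain ⟨b, rfl⟩ := hy
        exact ⟨a + b, map_add _ _ _⟩
      | tmul y x =>
        obtain ⟨y, hy⟩ := y
        induction hy using Submodule.span_induction generalizing x with
        | mem y hy =>
          obtain ⟨a, ha, rfl⟩ := hy
          exact ⟨⟨a, ha⟩ ⊗ₜ x, rfl⟩
        | zero => exact ⟨0, by rw [map_zero]; exact (zero_tmul _ x).symm⟩
        | add y z hy hz ihy ihz =>
          obtain ⟨a, ha⟩ := ihy x
          obtain ⟨b, hb⟩ := ihz x
          exact ⟨a + b, by rw [map_add, ha, hb, ← add_tmul]; rfl⟩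
        | smul s y hy ih =>
          obtain ⟨a, ha⟩ := ih (s • x)
          refine ⟨a, ?_⟩
          rw [ha, ← smul_tmul]
          rfl
    have key : ∀ w, TensorProduct.lid A M (I.subtype.rTensor M (φ w)) =
        TensorProduct.lid R M (p.subtype.rTensor M w) := by
      intro w
      induction w using TensorProduct.induction_on with
      | zero => simp
      | tmul a x =>
        show TensorProduct.lid A M ((algebraMap R A a.1) ⊗ₜ[A] x) = _
        simp
      | add x y hx hy => simp only [map_add, hx, hy]
    rw [injective_iff_map_eq_zero]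
    intro z hz
    obtain ⟨w, rfl⟩ := hφ z
    have hw := key w
    rw [hz, map_zero] at hw
    have h0 : w = 0 := by
      apply Module.Flat.rTensor_preserves_injective_linearMap (M := M) p.subtype p.subtype_injective
      rw [map_zero]
      exact (LinearEquiv.map_eq_zero_iff _).mp hw.symm
    rw [h0, map_zero]
  let Jb : Submodule (A ⧸ I) (A ⧸ I) := J.map (Ideal.Quotient.mk I)
  let π : J →ₗ[A] Jb :=
    LinearMap.codRestrict (Jb.restrictScalars A)
      ((Ideal.Quotient.mkₐ A I).toLinearMap ∘ₗ J.subtype) fun a => Ideal.mem_map_of_mem _ a.2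
  have hπ : Function.Surjective π := by
    rintro ⟨y, hy⟩
    obtain ⟨a, ha, rfl⟩ := (Ideal.mem_map_iff_of_surjective _ Ideal.Quotient.mk_surjective).mp hy
    exact ⟨⟨a, ha⟩, rfl⟩
  have hex : Function.Exact (Submodule.inclusion hJ) π := by
    intro a
    constructor
    · intro h0
      exact ⟨⟨a.1, Ideal.Quotient.eq_zero_iff_mem.mp (congrArg Subtype.val h0)⟩, rfl⟩
    · rintro ⟨b, rfl⟩
      exact Subtype.ext (Ideal.Quotient.eq_zero_iff_mem.mpr b.2)
  refine (LinearMap.lTensor_inj_iff_rTensor_inj _ _).mpr ?_
  rw [injective_iff_map_eq_zero]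
  intro z hz
  have h3 : π.rTensor M z = 0 := by
    apply (LinearMap.lTensor_inj_iff_rTensor_inj _ _).mp h2
    rw [map_zero, ← LinearMap.rTensor_comp_apply,
      show Jb.subtype.restrictScalars A ∘ₗ π =
        (Ideal.Quotient.mkₐ A I).toLinearMap ∘ₗ J.subtype from rfl,
      LinearMap.rTensor_comp_apply, hz, map_zero]
  obtain ⟨w, rfl⟩ := (rTensor_exact M hex hπ z).mp h3
  rw [← LinearMap.rTensor_comp_apply] at hz
  have : w = 0 := h1 (by rw [map_zero]; exact hz)
  rw [this, map_zero]

theorem lTensor_injective_of_flat_quotient {M : Type u} [AddCommGroup M] [Module A M] (I : Ideal A)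
    [Module.Flat (A ⧸ I) ((A ⧸ I) ⊗[A] M)] (Q : Submodule (A ⧸ I) (A ⧸ I)) :
    Function.Injective ((Q.subtype.restrictScalars A).lTensor M) :=
  (LinearMap.lTensor_inj_iff_rTensor_inj _ _).mpr
    (CAlgBasics.rTensor_injective_of_flat_baseChange (A ⧸ I) M Q.subtype Q.subtype_injective)

/-- Localization preserves injectivity after tensoring. -/
theorem lTensor_injective_localized {B M N P Q : Type u} [CommRing B] [Algebra A B]
    [AddCommGroup M] [Module B M] [Module A M] [IsScalarTower A B M]
    [AddCommGroup N] [Module B N] [Module A N] [IsScalarTower A B N] [AddCommGroup P] [Module A P]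
    [AddCommGroup Q] [Module A Q] (T : Submonoid B) (g : M →ₗ[B] N) [IsLocalizedModule T g]
    (u : P →ₗ[A] Q) (h : Function.Injective (u.lTensor M)) : Function.Injective (u.lTensor N) := by
  have h1 := IsLocalizedModule.map_injective T
    (AlgebraTensorModule.rTensor A P g) (AlgebraTensorModule.rTensor A Q g)
    (AlgebraTensorModule.lTensor B M u) h
  simpa [IsLocalizedModule.map_lTensor] using h1

/-- The fibrewise criterion of flatness at a prime. -/
theorem flat_fibrewise_fp {B M : Type u} [CommRing B] [Algebra A B] [Algebra.FinitePresentation A B]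
    [AddCommGroup M] [Module B M] [Module A M] [Module R M] [IsScalarTower A B M]
    [IsScalarTower R A M] [Algebra R B] [IsScalarTower R A B] [IsScalarTower R B M]
    [Module.FinitePresentation B M] (p : Ideal R) (q : Ideal B) [q.IsPrime]
    [Module.Flat R (LocalizedModule q.primeCompl M)]
    (hp : p.map (algebraMap R A) ≤ q.comap (algebraMap A B))
    (h2 : Module.Flat (A ⧸ p.map (algebraMap R A))
      ((A ⧸ p.map (algebraMap R A)) ⊗[A] LocalizedModule q.primeCompl M)) :
    Module.Flat A (LocalizedModule q.primeCompl M) :=
  flat_of_lTensor_injective_fp q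
    (lTensor_injective_of_fibre p _ hp (lTensor_injective_of_flat_quotient _ _))

/-- The fibrewise criterion of flatness, global form. -/
theorem flat_of_fibrewise_fp {B M : Type u} [CommRing B] [Algebra A B]
    [Algebra.FinitePresentation A B] [AddCommGroup M] [Module B M] [Module A M] [Module R M]
    [IsScalarTower A B M] [IsScalarTower R A M] [Algebra R B] [IsScalarTower R A B]
    [IsScalarTower R B M] [Module.FinitePresentation B M] (p : Ideal R) [Module.Flat R M]
    (hp : ∀ q : Ideal B, q.IsPrime → p.map (algebraMap R A) ≤ q.comap (algebraMap A B))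
    (h2 : Module.Flat (A ⧸ p.map (algebraMap R A)) ((A ⧸ p.map (algebraMap R A)) ⊗[A] M)) :
    Module.Flat A M := by
  refine Module.flat_of_isLocalized_maximal B M
    (fun P _ => LocalizedModule P.primeCompl M) (fun P _ => LocalizedModule.mkLinearMap _ _) fun P _ => ?_
  let g := LocalizedModule.mkLinearMap P.primeCompl M
  haveI : Module.Flat R (LocalizedModule P.primeCompl M) := by
    rw [Module.Flat.iff_lTensor_injective']
    exact fun I => lTensor_injective_localized P.primeCompl g I.subtype
      (Module.Flat.lTensor_preserves_injective_linearMap _ I.subtype_injective)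
  exact flat_of_lTensor_injective_fp P (lTensor_injective_of_fibre p _ (hp P inferInstance)
    (lTensor_injective_localized P.primeCompl g _ (lTensor_injective_of_flat_quotient _ _)))

end Groth.Agent.FlatLocus
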