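import Groth.Agent.FlatLocus.Scheme
import Groth.Agent.FlatLocus.Fibrewise
import Groth.Agent.FlatLocus.FibreStalk

set_option autoImplicit false
set_option linter.style.haveILetI false
set_option backward.isDefEq.respectTransparency false
set_option backward.defeqAttrib.useBackward true

/-!
# The fibrewise criterion of flatness for morphisms of schemes
-/

universe u

open CategoryTheory CategoryTheory.Limits AlgebraicGeometry TensorProduct IsLocalRing

namespace Groth.Agent.FlatLocus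

theorem quotLift_flat_iff {A B C : Type u} [CommRing A] [CommRing B] [CommRing C] [Algebra A B]
    (I : Ideal A) (φ : B →+* C) (hsurj : Function.Surjective φ)
    (hker : RingHom.ker φ = I.map (algebraMap A B)) (e : A ⧸ I →+* C)
    (he : e.comp (Ideal.Quotient.mk I) = φ.comp (algebraMap A B)) :
    e.Flat ↔ Module.Flat (A ⧸ I) ((A ⧸ I) ⊗[A] B) := by
  letI : Algebra A C := (φ.comp (algebraMap A B)).toAlgebra
  let φa : B →ₐ[A] C := { φ with commutes' := fun _ => rfl }
  let ea : A ⧸ I →ₐ[A] C := { e with commutes' := fun r => RingHom.congr_fun he r }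
  let Θ : (A ⧸ I) ⊗[A] B →ₐ[A] C := Algebra.TensorProduct.lift ea φa fun _ _ => .all _ _
  have h1 : ∀ t, ∃ b : B, t = (1 : A ⧸ I) ⊗ₜ[A] b :=
    fun t => (TensorProduct.mk_surjective (R := A) (M := B) (S := A ⧸ I) Ideal.Quotient.mk_surjective t).imp fun _ h => h.symm
  have hbij : Function.Bijective Θ := by
    refine ⟨(injective_iff_map_eq_zero Θ).mpr fun t ht => ?_, fun c => ?_⟩
    · obtain ⟨b, rfl⟩ := h1 t
      have hb : b ∈ RingHom.ker φ := by
        rw [RingHom.mem_ker]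
        simpa [Θ, φa, ea] using ht
      rw [hker] at hb
      suffices hle : I.map (algebraMap A B) ≤ RingHom.ker
          (Algebra.TensorProduct.includeRight : B →ₐ[A] (A ⧸ I) ⊗[A] B).toRingHom from hle hb
      rw [Ideal.map_le_iff_le_comap]
      intro a ha
      show (1 : A ⧸ I) ⊗ₜ[A] algebraMap A B a = 0
      rw [Algebra.algebraMap_eq_smul_one, ← TensorProduct.smul_tmul, Algebra.smul_def, mul_one,
        show algebraMap A (A ⧸ I) a = 0 from Ideal.Quotient.eq_zero_iff_mem.mpr ha,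
        TensorProduct.zero_tmul]
    · obtain ⟨b, rfl⟩ := hsurj c
      exact ⟨1 ⊗ₜ b, by simp [Θ, φa, ea]⟩
  have he' : e = Θ.toRingHom.comp (algebraMap (A ⧸ I) ((A ⧸ I) ⊗[A] B)) :=
    RingHom.ext fun x => by simp [Θ, φa, ea, Algebra.TensorProduct.algebraMap_apply]
  let ε := AlgEquiv.ofBijective Θ hbij
  rw [← RingHom.flat_algebraMap_iff]
  refine ⟨fun h => ?_, fun h => ?_⟩
  · have e2 : algebraMap (A ⧸ I) ((A ⧸ I) ⊗[A] B) = ε.symm.toRingEquiv.toRingHom.comp e :=
      RingHom.ext fun x => by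
        show _ = ε.symm (e x)
        rw [he']
        exact (ε.symm_apply_apply _).symm
    rw [e2]
    exact h.comp (RingHom.Flat.of_bijective ε.symm.bijective)
  · rw [he']
    exact h.comp (RingHom.Flat.of_bijective hbij)

/-- The map to the stalk of a fibre from the stalk at a point below. -/
noncomputable def toFiberStalk {Y S : Scheme.{u}} (g : Y ⟶ S) (s : S) (w : g.fiber s) (y : Y)
    (h : g.fiberι s w = y) : Y.presheaf.stalk y ⟶ (g.fiber s).presheaf.stalk w :=
  (Y.presheaf.stalkCongr (.of_eq h.symm)).hom ≫ (g.fiberι s).stalkMap w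

theorem toFiberStalk_spec {Y S : Scheme.{u}} (g : Y ⟶ S) (s : S) (w : g.fiber s) (y : Y)
    (h : g.fiberι s w = y) :
    Function.Surjective (toFiberStalk g s w y h) ∧ RingHom.ker (toFiberStalk g s w y h).hom =
      (maximalIdeal (S.presheaf.stalk (g y))).map (g.stalkMap y).hom := by
  subst h
  have e : toFiberStalk g s w _ rfl = (g.fiberι s).stalkMap w := by
    simp [toFiberStalk]
  rw [e]
  exact ⟨fiberι_stalkMap_surjective g s w, ker_fiberι_stalkMap g s w⟩

variable {X Y S : Scheme.{u}} (f : X ⟶ Y) (g : Y ⟶ S)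

theorem fiberMap_fiberι (s : S) :
    MoreMor.fiberMap f g s ≫ g.fiberι s = (f ≫ g).fiberι s ≫ f :=
  pullback.lift_fst _ _ _

theorem fiberι_fiberMap (s : S) (z : (f ≫ g).fiber s) :
    g.fiberι s (MoreMor.fiberMap f g s z) = f ((f ≫ g).fiberι s z) := by
  rw [← Scheme.Hom.comp_apply, fiberMap_fiberι, Scheme.Hom.comp_apply]

theorem toFiberStalk_comp (s : S) (z : (f ≫ g).fiber s) :
    toFiberStalk g s (MoreMor.fiberMap f g s z) _ (fiberι_fiberMap f g s z) ≫
        (MoreMor.fiberMap f g s).stalkMap z =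
      f.stalkMap ((f ≫ g).fiberι s z) ≫ ((f ≫ g).fiberι s).stalkMap z := by
  rw [toFiberStalk, Category.assoc, ← Scheme.Hom.stalkMap_comp,
    Scheme.Hom.stalkMap_congr_hom _ _ (fiberMap_fiberι f g s) z, ← Scheme.Hom.stalkMap_comp]
  simp

theorem flat_left_of_flat_comp (x : X) (hfg : ((f ≫ g).stalkMap x).hom.Flat)
    (hf : (f.stalkMap x).hom.Flat) : (g.stalkMap (f x)).hom.Flat := by
  letI := (g.stalkMap (f x)).hom.toAlgebra
  letI := (f.stalkMap x).hom.toAlgebra
  letI : Algebra (S.presheaf.stalk (g (f x))) (X.presheaf.stalk x) :=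
    ((f ≫ g).stalkMap x).hom.toAlgebra
  haveI : IsScalarTower (S.presheaf.stalk (g (f x))) (Y.presheaf.stalk (f x))
      (X.presheaf.stalk x) :=
    .of_algebraMap_eq fun r => ConcreteCategory.congr_hom (Scheme.Hom.stalkMap_comp f g x) r
  haveI : Module.Flat (Y.presheaf.stalk (f x)) (X.presheaf.stalk x) := hf
  haveI : Module.Flat (S.presheaf.stalk (g (f x))) (X.presheaf.stalk x) := hfg
  haveI : IsLocalHom (algebraMap (Y.presheaf.stalk (f x)) (X.presheaf.stalk x)) :=
    f.toLRSHom.prop x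
  haveI : Module.FaithfullyFlat (Y.presheaf.stalk (f x)) (X.presheaf.stalk x) :=
    Module.FaithfullyFlat.of_flat_of_isLocalHom
  exact LocFlat.flat_left_of_faithfullyFlat (M := X.presheaf.stalk x)

theorem fiberMap_stalkMap_flat_of_flat (s : S) (z : (f ≫ g).fiber s)
    (h : (f.stalkMap ((f ≫ g).fiberι s z)).hom.Flat) :
    ((MoreMor.fiberMap f g s).stalkMap z).hom.Flat := by
  let x := (f ≫ g).fiberι s z
  let y := f x
  let w := MoreMor.fiberMap f g s z
  let φY := toFiberStalk g s w y (fiberι_fiberMap f g s z)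
  let φX := ((f ≫ g).fiberι s).stalkMap z
  let ψ := (MoreMor.fiberMap f g s).stalkMap z
  obtain ⟨hYs, hYk⟩ := toFiberStalk_spec g s w y (fiberι_fiberMap f g s z)
  let I : Ideal (Y.presheaf.stalk y) := (maximalIdeal (S.presheaf.stalk (g y))).map (g.stalkMap y).hom
  letI := (f.stalkMap x).hom.toAlgebra
  haveI : Module.Flat (Y.presheaf.stalk y) (X.presheaf.stalk x) := h
  have hker : RingHom.ker φX.hom = I.map (algebraMap (Y.presheaf.stalk y) (X.presheaf.stalk x)) := by
    rw [ker_fiberι_stalkMap (f ≫ g) s z, Ideal.map_map, Scheme.Hom.stalkMap_comp]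
    rfl
  let eY : Y.presheaf.stalk y ⧸ I →+* (g.fiber s).presheaf.stalk w :=
    Ideal.Quotient.lift I φY.hom fun a ha => by rw [← RingHom.mem_ker, hYk]; exact ha
  have heY : Function.Bijective eY := by
    refine ⟨?_, fun c => ?_⟩
    · refine RingHom.lift_injective_of_ker_le_ideal I _ ?_
      rw [hYk]
    · obtain ⟨a, rfl⟩ := hYs c
      exact ⟨Ideal.Quotient.mk I a, rfl⟩
  have h1 : (ψ.hom.comp eY).Flat := by
    refine (quotLift_flat_iff I φX.hom (fiberι_stalkMap_surjective (f ≫ g) s z) hker _ ?_).mpr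
      inferInstance
    exact RingHom.ext fun a => ConcreteCategory.congr_hom (toFiberStalk_comp f g s z) a
  let εY := RingEquiv.ofBijective eY heY
  have e : ψ.hom = (ψ.hom.comp eY).comp εY.symm.toRingHom := RingHom.ext fun c => by
    show ψ c = ψ (eY (εY.symm c))
    rw [show eY (εY.symm c) = c from εY.apply_symm_apply c]
  show ψ.hom.Flat
  rw [e]
  exact (RingHom.Flat.of_bijective εY.symm.bijective).comp h1

theorem flat_stalkMap_of_fibre [LocallyOfFinitePresentation (f ≫ g)] [LocallyOfFiniteType g]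
    (s : S) (z : (f ≫ g).fiber s)
    (h1 : ((f ≫ g).stalkMap ((f ≫ g).fiberι s z)).hom.Flat)
    (h2 : ((MoreMor.fiberMap f g s).stalkMap z).hom.Flat) :
    (g.stalkMap (f ((f ≫ g).fiberι s z))).hom.Flat ∧
      (f.stalkMap ((f ≫ g).fiberι s z)).hom.Flat := by
  let x := (f ≫ g).fiberι s z
  let y := f x
  let w := MoreMor.fiberMap f g s z
  let φY := toFiberStalk g s w y (fiberι_fiberMap f g s z)
  let φX := ((f ≫ g).fiberι s).stalkMap z
  let ψ := (MoreMor.fiberMap f g s).stalkMap z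
  obtain ⟨hYs, hYk⟩ := toFiberStalk_spec g s w y (fiberι_fiberMap f g s z)
  obtain ⟨_, ⟨W : S.Opens, hW, rfl⟩, hsW, -⟩ :=
    S.isBasis_affineOpens.exists_subset_of_mem_open (Set.mem_univ (g y)) isOpen_univ
  obtain ⟨_, ⟨U : Y.Opens, hU, rfl⟩, hyU, hUW⟩ :=
    Y.isBasis_affineOpens.exists_subset_of_mem_open (a := y) (u := ↑(g ⁻¹ᵁ W)) hsW (g ⁻¹ᵁ W).2
  obtain ⟨_, ⟨V : X.Opens, hV, rfl⟩, hxV, hVU⟩ :=
    X.isBasis_affineOpens.exists_subset_of_mem_open (a := x) (u := ↑(f ⁻¹ᵁ U)) hyU (f ⁻¹ᵁ U).2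
  have hVW : V ≤ (f ≫ g) ⁻¹ᵁ W := fun a ha => hUW (hVU ha)
  have hflatR := (flat_stalkMap_iff (f ≫ g) hW hV hVW x hxV).mp h1
  have hfR : RingHom.FinitePresentation ((f ≫ g).appLE W V hVW).hom :=
    (f ≫ g).finitePresentation_appLE hW hV hVW
  have hgR : RingHom.FiniteType (g.appLE W U hUW).hom := g.finiteType_appLE hW hU hUW
  letI : Algebra Γ(S, W) Γ(Y, U) := (g.appLE W U hUW).hom.toAlgebra
  letI : Algebra Γ(Y, U) Γ(X, V) := (f.appLE U V hVU).hom.toAlgebra
  letI : Algebra Γ(S, W) Γ(X, V) := ((f ≫ g).appLE W V hVW).hom.toAlgebra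
  haveI : IsScalarTower Γ(S, W) Γ(Y, U) Γ(X, V) := .of_algebraMap_eq fun r =>
    (ConcreteCategory.congr_hom (Scheme.Hom.appLE_comp_appLE f g W U V hUW hVU) r).symm
  haveI : Algebra.FinitePresentation Γ(S, W) Γ(X, V) := hfR
  haveI : Algebra.FiniteType Γ(S, W) Γ(Y, U) := hgR
  haveI : Algebra.FinitePresentation Γ(Y, U) Γ(X, V) :=
    Algebra.FinitePresentation.of_restrict_scalars_finitePresentation Γ(S, W) Γ(Y, U) Γ(X, V)
  let q := (hV.primeIdealOf ⟨x, hxV⟩).asIdeal
  let p := (hW.primeIdealOf ⟨g y, hsW⟩).asIdeal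
  let I : Ideal Γ(Y, U) := p.map (algebraMap Γ(S, W) Γ(Y, U))
  haveI : Module.Flat Γ(S, W) (LocalizedModule q.primeCompl Γ(X, V)) := hflatR
  letI : Algebra Γ(X, V) (X.presheaf.stalk x) :=
    TopCat.Presheaf.algebra_section_stalk X.presheaf ⟨x, hxV⟩
  haveI : IsLocalization.AtPrime (X.presheaf.stalk x) q := hV.isLocalization_stalk ⟨x, hxV⟩
  letI : Algebra Γ(Y, U) (Y.presheaf.stalk y) :=
    TopCat.Presheaf.algebra_section_stalk Y.presheaf ⟨y, hyU⟩
  haveI : IsLocalization.AtPrime (Y.presheaf.stalk y) (hU.primeIdealOf ⟨y, hyU⟩).asIdeal :=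
    hU.isLocalization_stalk ⟨y, hyU⟩
  letI : Algebra Γ(S, W) (S.presheaf.stalk (g y)) :=
    TopCat.Presheaf.algebra_section_stalk S.presheaf ⟨g y, hsW⟩
  haveI : IsLocalization.AtPrime (S.presheaf.stalk (g y)) p := hW.isLocalization_stalk ⟨g y, hsW⟩
  letI : Algebra Γ(Y, U) (X.presheaf.stalk x) :=
    ((X.presheaf.germ V x hxV).hom.comp (f.appLE U V hVU).hom).toAlgebra
  haveI : IsScalarTower Γ(Y, U) Γ(X, V) (X.presheaf.stalk x) := .of_algebraMap_eq fun _ => rfl
  have hgermY : ∀ a : Γ(Y, U), f.stalkMap x (Y.presheaf.germ U y hyU a) =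
      X.presheaf.germ V x hxV (f.appLE U V hVU a) := fun a => by
    rw [Scheme.Hom.germ_stalkMap_apply, Scheme.Hom.appLE, CommRingCat.comp_apply,
      X.presheaf.germ_res_apply]
  have hgermS : ∀ r : Γ(S, W), g.stalkMap y (S.presheaf.germ W (g y) hsW r) =
      Y.presheaf.germ U y hyU (g.appLE W U hUW r) := fun r => by
    rw [Scheme.Hom.germ_stalkMap_apply, Scheme.Hom.appLE, CommRingCat.comp_apply,
      Y.presheaf.germ_res_apply]
  have hI : I.map (algebraMap Γ(Y, U) (Y.presheaf.stalk y)) =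
      (maximalIdeal (S.presheaf.stalk (g y))).map (g.stalkMap y).hom := by
    rw [← IsLocalization.AtPrime.map_eq_maximalIdeal p (S.presheaf.stalk (g y)), Ideal.map_map,
      Ideal.map_map]
    congr 1
    exact RingHom.ext fun r => (hgermS r).symm
  let eY : Γ(Y, U) ⧸ I →+* (g.fiber s).presheaf.stalk w :=
    Ideal.Quotient.lift I (φY.hom.comp (algebraMap Γ(Y, U) (Y.presheaf.stalk y))) fun a ha => by
      rw [RingHom.comp_apply, ← RingHom.mem_ker, hYk, ← hI]
      exact Ideal.mem_map_of_mem _ ha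
  have heY : eY.Flat := by
    haveI : Module.Flat Γ(Y, U) (Y.presheaf.stalk y) :=
      IsLocalization.flat _ (hU.primeIdealOf ⟨y, hyU⟩).asIdeal.primeCompl
    exact (quotLift_flat_iff I φY.hom hYs (hYk.trans hI.symm) eY rfl).mpr inferInstance
  have hkX : RingHom.ker φX.hom = I.map (algebraMap Γ(Y, U) (X.presheaf.stalk x)) := by
    rw [ker_fiberι_stalkMap (f ≫ g) s z, Scheme.Hom.stalkMap_comp,
      show (g.stalkMap y ≫ f.stalkMap x).hom = (f.stalkMap x).hom.comp (g.stalkMap y).hom from rfl,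
      ← Ideal.map_map]
    show ((maximalIdeal (S.presheaf.stalk (g y))).map (g.stalkMap y).hom).map (f.stalkMap x).hom = _
    rw [← hI, Ideal.map_map]
    congr 1
    exact RingHom.ext hgermY
  have hh2 : Module.Flat (Γ(Y, U) ⧸ I) ((Γ(Y, U) ⧸ I) ⊗[Γ(Y, U)] X.presheaf.stalk x) := by
    refine (quotLift_flat_iff I φX.hom (fiberι_stalkMap_surjective (f ≫ g) s z) hkX
      (ψ.hom.comp eY) (RingHom.ext fun a => ?_)).mp (heY.comp h2)
    show ψ (φY (algebraMap Γ(Y, U) (Y.presheaf.stalk y) a)) = _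
    rw [← CommRingCat.comp_apply, toFiberStalk_comp f g s z, CommRingCat.comp_apply]
    exact congrArg φX.hom (hgermY a)
  let el := (IsLocalizedModule.iso q.primeCompl
    (Algebra.linearMap Γ(X, V) (X.presheaf.stalk x))).restrictScalars Γ(Y, U)
  haveI := hh2
  have hflatA : Module.Flat Γ(Y, U) (LocalizedModule q.primeCompl Γ(X, V)) := by
    refine flat_fibrewise_fp p q ?_
      (Module.Flat.of_linearEquiv (el.baseChange Γ(Y, U) (Γ(Y, U) ⧸ I) _ _))
    rw [Ideal.map_le_iff_le_comap, Ideal.comap_comap, ← IsScalarTower.algebraMap_eq]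
    exact (congr($(IsAffineOpen.comap_primeIdealOf_appLE W hW V hV hVW hxV).1)).ge
  have hf := (flat_stalkMap_iff f hU hV hVU x hxV).mpr hflatA
  exact ⟨flat_left_of_flat_comp f g x h1 hf, hf⟩

theorem flat_comp_stalkMap (x : X) (hg : (g.stalkMap (f x)).hom.Flat)
    (hf : (f.stalkMap x).hom.Flat) : ((f ≫ g).stalkMap x).hom.Flat := by
  rw [Scheme.Hom.stalkMap_comp]
  exact hg.comp hf

theorem fibre_criterion [LocallyOfFinitePresentation (f ≫ g)] [LocallyOfFiniteType g] (s : S)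
    (z : (f ≫ g).fiber s) (x : X) (hx : (f ≫ g).fiberι s z = x) :
    ((f ≫ g).stalkMap x).hom.Flat ∧ ((MoreMor.fiberMap f g s).stalkMap z).hom.Flat ↔
      (g.stalkMap (f x)).hom.Flat ∧ (f.stalkMap x).hom.Flat := by
  subst hx
  exact ⟨fun h => flat_stalkMap_of_fibre f g s z h.1 h.2,
    fun h => ⟨flat_comp_stalkMap f g _ h.1 h.2, fiberMap_stalkMap_flat_of_flat f g s z h.2⟩⟩

theorem locallyOfFinitePresentation_of_comp [LocallyOfFinitePresentation (f ≫ g)]
    [LocallyOfFiniteType g] : LocallyOfFinitePresentation f := by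
  refine (HasRingHomProperty.iff_exists_appLE (P := @LocallyOfFinitePresentation)
    (RingHom.finitePresentation_stableUnderComposition.stableUnderCompositionWithLocalizationAway
      RingHom.finitePresentation_holdsForLocalizationAway).left).mpr fun x => ?_
  obtain ⟨_, ⟨W : S.Opens, hW, rfl⟩, hsW, -⟩ :=
    S.isBasis_affineOpens.exists_subset_of_mem_open (Set.mem_univ (g (f x))) isOpen_univ
  obtain ⟨_, ⟨U : Y.Opens, hU, rfl⟩, hyU, hUW⟩ :=
    Y.isBasis_affineOpens.exists_subset_of_mem_open (a := f x) (u := ↑(g ⁻¹ᵁ W)) hsW (g ⁻¹ᵁ W).2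
  obtain ⟨_, ⟨V : X.Opens, hV, rfl⟩, hxV, hVU⟩ :=
    X.isBasis_affineOpens.exists_subset_of_mem_open (a := x) (u := ↑(f ⁻¹ᵁ U)) hyU (f ⁻¹ᵁ U).2
  refine ⟨⟨U, hU⟩, ⟨V, hV⟩, hxV, hVU, RingHom.FinitePresentation.of_comp_finiteType
    (g.appLE W U hUW).hom ?_ (g.finiteType_appLE hW hU hUW)⟩
  rw [← CommRingCat.hom_comp, Scheme.Hom.appLE_comp_appLE]
  exact (f ≫ g).finitePresentation_appLE hW hV _

theorem isOpen_fibre_flat [LocallyOfFinitePresentation (f ≫ g)] [LocallyOfFinitePresentation f] :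
    IsOpen {x : X | (g.stalkMap (f x)).hom.Flat ∧ (f.stalkMap x).hom.Flat} := by
  have e : {x : X | (g.stalkMap (f x)).hom.Flat ∧ (f.stalkMap x).hom.Flat} =
      {x | ((f ≫ g).stalkMap x).hom.Flat} ∩ {x | (f.stalkMap x).hom.Flat} := by
    ext x
    exact ⟨fun h => ⟨flat_comp_stalkMap f g x h.1 h.2, h.2⟩,
      fun h => ⟨flat_left_of_flat_comp f g x h.1 h.2, h.2⟩⟩
  rw [e]
  exact (isOpen_flat_stalkMap _).inter (isOpen_flat_stalkMap _)

end Groth.Agent.FlatLocus
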