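import Groth.Agent.FlatLocus.FibreCrit

set_option autoImplicit false
set_option linter.style.haveILetI false
set_option backward.isDefEq.respectTransparency false
set_option backward.defeqAttrib.useBackward true

/-!
# Smoothness and unramifiedness of a local map detected on quotients
-/

universe u

open TensorProduct IsLocalRing

namespace Groth.Agent.FlatLocus

/-- A property of ring maps passes between a map induced on quotients and the base change. -/
theorem quotLift_iff {P : ∀ {R S : Type u} [CommRing R] [CommRing S], (R →+* S) → Prop}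
    (hP : RingHom.RespectsIso P) {A B C : Type u} [CommRing A] [CommRing B] [CommRing C]
    [Algebra A B] (I : Ideal A) (φ : B →+* C) (hsurj : Function.Surjective φ)
    (hker : RingHom.ker φ = I.map (algebraMap A B)) {A' : Type u} [CommRing A']
    (e : A' →+* C) (eA : A ⧸ I →+* A') (heA : Function.Bijective eA)
    (he : (e.comp eA).comp (Ideal.Quotient.mk I) = φ.comp (algebraMap A B)) :
    P e ↔ P (algebraMap (A ⧸ I) ((A ⧸ I) ⊗[A] B)) := by
  letI : Algebra A C := (φ.comp (algebraMap A B)).toAlgebra
  let φa : B →ₐ[A] C := { φ with commutes' := fun _ => rfl }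
  let ea : A ⧸ I →ₐ[A] C := { e.comp eA with commutes' := fun r => RingHom.congr_fun he r }
  let Θ : (A ⧸ I) ⊗[A] B →ₐ[A] C := Algebra.TensorProduct.lift ea φa fun _ _ => .all _ _
  have h1 : ∀ t, ∃ b : B, t = (1 : A ⧸ I) ⊗ₜ[A] b :=
    fun t => (TensorProduct.mk_surjective (R := A) (M := B) (S := A ⧸ I)
      Ideal.Quotient.mk_surjective t).imp fun _ h => h.symm
  have hbij : Function.Bijective Θ := by
    refine ⟨(injective_iff_map_eq_zero Θ).mpr fun t ht => ?_, fun c => ?_⟩
    · obtain ⟨b, rfl⟩ := h1 t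
      have hb : b ∈ RingHom.ker φ := by
        rw [RingHom.mem_ker]
        simpa [Θ, φa, ea] using ht
      rw [hker] at hb
      suffices hle : I.map (algebraMap A B) ≤ RingHom.ker
          (Algebra.TensorProduct.includeRight : B →ₐ[A] (A ⧸ I) ⊗[A] B).toRingHom from hle hb
      rw [Ideal.map_le_iff_le_comap]
      intro a ha
      show (1 : A ⧸ I) ⊗ₜ[A] algebraMap A B a = 0
      rw [Algebra.algebraMap_eq_smul_one, ← TensorProduct.smul_tmul, Algebra.smul_def, mul_one,
        show algebraMap A (A ⧸ I) a = 0 from Ideal.Quotient.eq_zero_iff_mem.mpr ha,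
        TensorProduct.zero_tmul]
    · obtain ⟨b, rfl⟩ := hsurj c
      exact ⟨1 ⊗ₜ b, by simp [Θ, φa, ea]⟩
  let ε : (A ⧸ I) ⊗[A] B ≃+* C := RingEquiv.ofBijective Θ hbij
  let εA : A ⧸ I ≃+* A' := RingEquiv.ofBijective eA heA
  have he' : e = (ε.toRingHom.comp (algebraMap (A ⧸ I) ((A ⧸ I) ⊗[A] B))).comp
      εA.symm.toRingHom := RingHom.ext fun c => by
    show e c = Θ (algebraMap (A ⧸ I) ((A ⧸ I) ⊗[A] B) (εA.symm c))
    rw [Algebra.TensorProduct.algebraMap_apply]
    simp only [Θ, Algebra.TensorProduct.lift_tmul, map_one, mul_one]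
    show e c = e (eA (εA.symm c))
    rw [show eA (εA.symm c) = c from εA.apply_symm_apply c]
  rw [he']
  refine ⟨fun h => ?_, fun h => hP.2 _ εA.symm (hP.1 _ ε h)⟩
  have h2 := hP.1 _ ε.symm (hP.2 _ εA h)
  convert h2 using 1
  ext x
  simp

/-- Formal smoothness of a flat local map essentially of finite presentation from its reduction. -/
theorem formallySmooth_of_quotient {A B A' B' : Type u} [CommRing A] [CommRing B] [Algebra A B]
    [Algebra.FinitePresentation A B] [CommRing A'] [CommRing B'] [IsLocalRing A'] [IsLocalRing B']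
    [Algebra A A'] [Algebra B B'] [Algebra A B'] [IsScalarTower A B B'] [Algebra A' B']
    [IsScalarTower A A' B'] [IsLocalHom (algebraMap A' B')] [Module.Flat A' B']
    (p : Ideal A) [p.IsPrime] [IsLocalization.AtPrime A' p] (q : Ideal B) [q.IsPrime]
    [IsLocalization.AtPrime B' q] (hpq : q.comap (algebraMap A B) = p)
    (I : Ideal A') (hI : I ≤ maximalIdeal A')
    (h : (algebraMap (A' ⧸ I) ((A' ⧸ I) ⊗[A'] B')).FormallySmooth) :
    Algebra.FormallySmooth A' B' := by
  haveI : Algebra.FormallySmooth (A' ⧸ I) ((A' ⧸ I) ⊗[A'] B') :=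
    RingHom.formallySmooth_algebraMap.mp h
  let k : A' ⧸ I →ₐ[A'] ResidueField A' :=
    Ideal.Quotient.liftₐ I (Algebra.ofId A' (ResidueField A')) fun a ha =>
      (IsLocalRing.residue_eq_zero_iff a).mpr (hI ha)
  letI : Algebra (A' ⧸ I) (ResidueField A') := k.toRingHom.toAlgebra
  haveI : IsScalarTower A' (A' ⧸ I) (ResidueField A') :=
    .of_algebraMap_eq fun r => (k.commutes r).symm
  haveI : Algebra.FormallySmooth (ResidueField A') (ResidueField A' ⊗[A'] B') :=
    .of_equiv (Algebra.TensorProduct.cancelBaseChange A' (A' ⧸ I) (ResidueField A')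
      (ResidueField A') B')
  let P := Localization (Algebra.algebraMapSubmonoid B p.primeCompl)
  let f : P →ₐ[B] B' := IsLocalization.liftAlgHom (M := Algebra.algebraMapSubmonoid B p.primeCompl)
    (f := Algebra.ofId _ _) (by
      rintro ⟨_, x, hx, rfl⟩
      have hx' : algebraMap A B x ∈ q.primeCompl := fun hmem => hx (hpq ▸ hmem)
      exact IsLocalization.map_units B' (⟨_, hx'⟩ : q.primeCompl))
  letI : Algebra P B' := f.toRingHom.toAlgebra
  haveI : IsScalarTower B P B' := .of_algebraMap_eq fun b => (f.commutes b).symm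
  letI : Algebra A' P := (IsLocalization.map (M := p.primeCompl) P (algebraMap A B)
    (T := Algebra.algebraMapSubmonoid B p.primeCompl)
    (Submonoid.le_comap_map _) : A' →+* P).toAlgebra
  haveI : IsScalarTower A A' P := .of_algebraMap_eq fun a => by
    rw [RingHom.algebraMap_toAlgebra, IsLocalization.map_eq]
    exact IsScalarTower.algebraMap_apply A B P a
  haveI : IsScalarTower A P B' := .of_algebraMap_eq fun a => by
    rw [IsScalarTower.algebraMap_apply A B P, ← IsScalarTower.algebraMap_apply B P B',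
      ← IsScalarTower.algebraMap_apply]
  haveI : IsScalarTower A' P B' := .of_algebraMap_eq' <| by
    apply IsLocalization.ringHom_ext p.primeCompl
    rw [RingHom.comp_assoc, ← IsScalarTower.algebraMap_eq, ← IsScalarTower.algebraMap_eq,
      ← IsScalarTower.algebraMap_eq]
  haveI : IsLocalization (Algebra.algebraMapSubmonoid P q.primeCompl) B' :=
    IsLocalization.isLocalization_of_submonoid_le _ _ (Algebra.algebraMapSubmonoid B p.primeCompl) _
      (by
        rintro _ ⟨x, hx, rfl⟩
        exact fun hmem => hx (hpq ▸ hmem))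
  haveI : Algebra.FinitePresentation A' P := by
    haveI : Algebra.IsPushout A A' B P :=
      .symm <| Algebra.isPushout_of_isLocalization p.primeCompl _ _ _
    exact .equiv (Algebra.IsPushout.equiv A A' B P)
  exact Algebra.FormallySmooth.of_formallySmooth_residueField_tensor
    (R := A') (S := B') (P := P) (Algebra.algebraMapSubmonoid P q.primeCompl)

/-- Formal unramifiedness of a local map essentially of finite type from its reduction. -/
theorem formallyUnramified_of_quotient {A' B' : Type u} [CommRing A'] [CommRing B']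
    [IsLocalRing A'] [IsLocalRing B'] [Algebra A' B'] [IsLocalHom (algebraMap A' B')]
    [Algebra.EssFiniteType A' B'] (I : Ideal A') (hI : I ≤ maximalIdeal A')
    (h : (algebraMap (A' ⧸ I) ((A' ⧸ I) ⊗[A'] B')).FormallyUnramified) :
    Algebra.FormallyUnramified A' B' := by
  haveI : Algebra.FormallyUnramified (A' ⧸ I) ((A' ⧸ I) ⊗[A'] B') :=
    RingHom.formallyUnramified_algebraMap.mp h
  letI : Algebra B' ((A' ⧸ I) ⊗[A'] B') := Algebra.TensorProduct.rightAlgebra
  refine ⟨?_⟩
  haveI hfin : Module.Finite B' (KaehlerDifferential A' B') := inferInstance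
  haveI : Subsingleton (((A' ⧸ I) ⊗[A'] B') ⊗[B'] KaehlerDifferential A' B') :=
    (KaehlerDifferential.tensorKaehlerEquiv A' (A' ⧸ I) B' ((A' ⧸ I) ⊗[A'] B')).toEquiv.subsingleton
  let ω := KaehlerDifferential A' B'
  let J : Ideal B' := I.map (algebraMap A' B')
  have hJ : J ≤ maximalIdeal B' := by
    rw [Ideal.map_le_iff_le_comap]
    exact fun a ha => map_nonunit (algebraMap A' B') a (hI ha)
  let j : (A' ⧸ I) ⊗[A'] B' →ₐ[B'] B' ⧸ J :=
    { Algebra.TensorProduct.lift
        (Ideal.Quotient.liftₐ I (Algebra.ofId A' (B' ⧸ J)) fun a ha =>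
          Ideal.Quotient.eq_zero_iff_mem.mpr (Ideal.mem_map_of_mem _ ha))
        (Ideal.Quotient.mkₐ A' J) (fun _ _ => .all _ _) with
      commutes' := fun b => by
        show Algebra.TensorProduct.lift _ _ _ ((1 : A' ⧸ I) ⊗ₜ[A'] b) = _
        rw [Algebra.TensorProduct.lift_tmul, map_one, one_mul]
        rfl }
  have hjsurj : Function.Surjective j := fun y => by
    obtain ⟨b, rfl⟩ := Ideal.Quotient.mk_surjective y
    exact ⟨algebraMap B' _ b, j.commutes b⟩
  haveI : Subsingleton ((B' ⧸ J) ⊗[B'] ω) :=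
    (LinearMap.rTensor_surjective ω (g := j.toLinearMap) hjsurj).subsingleton
  haveI : Subsingleton (ω ⧸ J • (⊤ : Submodule B' ω)) :=
    (TensorProduct.quotTensorEquivQuotSMul ω J).symm.toEquiv.subsingleton
  have htop : (⊤ : Submodule B' ω) ≤ J • ⊤ := fun x _ =>
    (Submodule.Quotient.mk_eq_zero _).mp (Subsingleton.elim _ _)
  have hbot := Submodule.eq_bot_of_le_smul_of_le_jacobson_bot J ⊤ Module.Finite.fg_top htop
    (by rw [IsLocalRing.jacobson_eq_maximalIdeal ⊥ bot_ne_top]; exact hJ)
  exact ⟨fun x y => by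
    have hx : x ∈ (⊤ : Submodule B' ω) := Submodule.mem_top
    have hy : y ∈ (⊤ : Submodule B' ω) := Submodule.mem_top
    rw [hbot, Submodule.mem_bot] at hx hy
    rw [hx, hy]⟩

end Groth.Agent.FlatLocus
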