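import Groth.Prelude.Def_ega3
import Groth.Agent.FlatLocus.PointAlg

set_option autoImplicit false
set_option linter.style.haveILetI false
set_option backward.isDefEq.respectTransparency false
set_option backward.defeqAttrib.useBackward true

/-!
# Smooth, etale and unramified points detected on fibres
-/

universe u

open CategoryTheory CategoryTheory.Limits AlgebraicGeometry TensorProduct IsLocalRing

namespace Groth.Agent.FlatLocus

variable {X Y S : Scheme.{u}} (f : X ⟶ Y) (g : Y ⟶ S)

theorem stalkMap_ι_comp_iff {P : ∀ {R S : Type u} [CommRing R] [CommRing S], (R →+* S) → Prop}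
    (hP : RingHom.RespectsIso P) (U : X.Opens) (u : U) :
    P ((U.ι ≫ f).stalkMap u).hom ↔ P (f.stalkMap (U.ι u)).hom := by
  rw [Scheme.Hom.stalkMap_comp, CommRingCat.hom_comp]
  exact hP.cancel_right_isIso (f.stalkMap (U.ι u)) (U.ι.stalkMap u)

theorem exists_smooth_nhd_iff [LocallyOfFinitePresentation f] (x : X) :
    (∃ U : X.Opens, x ∈ U ∧ Smooth (U.ι ≫ f)) ↔ (f.stalkMap x).hom.FormallySmooth := by
  refine ⟨fun ⟨U, hx, h⟩ => ?_, fun h => ⟨f.smoothLocus, h, ?_⟩⟩
  · have h1 : (⟨x, hx⟩ : U) ∈ (U.ι ≫ f).smoothLocus := by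
      rw [(Scheme.Hom.smoothLocus_eq_top_iff (f := U.ι ≫ f)).mpr h]; trivial
    exact (stalkMap_ι_comp_iff f RingHom.FormallySmooth.respectsIso U ⟨x, hx⟩).mp h1
  · rw [← Scheme.Hom.smoothLocus_eq_top_iff, ← Scheme.Hom.preimage_smoothLocus_eq]
    ext u
    exact ⟨fun _ => trivial, fun _ => u.2⟩

theorem isOpen_formallyUnramified_stalkMap [LocallyOfFiniteType f] :
    IsOpen {x : X | (f.stalkMap x).hom.FormallyUnramified} := by
  refine isOpen_iff_forall_mem_open.mpr fun x hx => ?_
  obtain ⟨_, ⟨U : Y.Opens, hU, rfl⟩, hxU, -⟩ :=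
    Y.isBasis_affineOpens.exists_subset_of_mem_open (Set.mem_univ (f x)) isOpen_univ
  obtain ⟨_, ⟨V : X.Opens, hV, rfl⟩, hxV, hVU⟩ :=
    X.isBasis_affineOpens.exists_subset_of_mem_open (a := x) (u := ↑(f ⁻¹ᵁ U)) hxU (f ⁻¹ᵁ U).2
  have hft := f.finiteType_appLE hU hV hVU
  algebraize [(f.appLE U V hVU).hom]
  have key : ∀ y (hy : y ∈ V), (f.stalkMap y).hom.FormallyUnramified ↔
      hV.primeIdealOf ⟨y, hy⟩ ∈ Algebra.unramifiedLocus Γ(Y, U) Γ(X, V) := by
    intro y hy
    let p := (hU.primeIdealOf ⟨f y, hVU hy⟩).asIdeal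
    let q := (hV.primeIdealOf ⟨y, hy⟩).asIdeal
    have : q.LiesOver p :=
      ⟨congr($(IsAffineOpen.comap_primeIdealOf_appLE U hU V hV hVU hy).1).symm⟩
    let := Localization.AtPrime.algebraOfLiesOver p q
    trans Algebra.FormallyUnramified (Localization.AtPrime p) (Localization.AtPrime q)
    · rw [← RingHom.formallyUnramified_algebraMap]
      exact RingHom.FormallyUnramified.respectsIso.arrow_mk_iso_iff
        (IsAffineOpen.arrowStalkMapIso f U hU V hV hVU hy)
    · exact ⟨fun _ => Algebra.FormallyUnramified.comp _ (Localization.AtPrime p) _,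
        fun (_ : Algebra.IsUnramifiedAt Γ(Y, U) q) =>
          .of_restrictScalars Γ(Y, U) _ _⟩
  refine ⟨hV.fromSpec '' Algebra.unramifiedLocus Γ(Y, U) Γ(X, V), ?_,
    hV.fromSpec.isOpenEmbedding.isOpenMap _ Algebra.isOpen_unramifiedLocus,
    hV.primeIdealOf ⟨x, hxV⟩, (key x hxV).mp hx, hV.fromSpec_primeIdealOf _⟩
  rintro _ ⟨q, hq, rfl⟩
  have hqV : hV.fromSpec q ∈ V := by
    rw [← SetLike.mem_coe, ← hV.range_fromSpec]
    exact ⟨q, rfl⟩
  refine (key _ hqV).mpr ?_
  rwa [show hV.primeIdealOf ⟨hV.fromSpec q, hqV⟩ = q from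
    hV.fromSpec.isOpenEmbedding.injective (hV.fromSpec_primeIdealOf _)]

/-- The open set of points at which the morphism is formally unramified. -/
def unramOpens [LocallyOfFiniteType f] : X.Opens :=
  ⟨{x : X | (f.stalkMap x).hom.FormallyUnramified}, isOpen_formallyUnramified_stalkMap f⟩

theorem exists_formallyUnramified_nhd_iff [LocallyOfFiniteType f] (x : X) :
    (∃ U : X.Opens, x ∈ U ∧ FormallyUnramified (U.ι ≫ f)) ↔
      (f.stalkMap x).hom.FormallyUnramified := by
  refine ⟨fun ⟨U, hx, h⟩ => ?_, fun h => ⟨unramOpens f, h, ?_⟩⟩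
  · exact (stalkMap_ι_comp_iff f RingHom.FormallyUnramified.respectsIso U ⟨x, hx⟩).mp
      (FormallyUnramified.stalkMap _ _)
  · exact HasRingHomProperty.of_stalkMap (P := @FormallyUnramified)
      RingHom.FormallyUnramified.ofLocalizationPrime fun u =>
        (stalkMap_ι_comp_iff f RingHom.FormallyUnramified.respectsIso _ u).mpr u.2

theorem exists_etale_nhd_iff [LocallyOfFinitePresentation f] (x : X) :
    (∃ U : X.Opens, x ∈ U ∧ Etale (U.ι ≫ f)) ↔
      (f.stalkMap x).hom.FormallySmooth ∧ (f.stalkMap x).hom.FormallyUnramified := by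
  refine ⟨fun ⟨U, hx, h⟩ => ⟨(exists_smooth_nhd_iff f x).mp ⟨U, hx, inferInstance⟩,
    (exists_formallyUnramified_nhd_iff f x).mp ⟨U, hx, inferInstance⟩⟩, fun h => ?_⟩
  refine ⟨f.smoothLocus ⊓ unramOpens f, ⟨h.1, h.2⟩, ?_⟩
  let W := f.smoothLocus ⊓ unramOpens f
  haveI : Smooth (W.ι ≫ f) := by
    rw [← Scheme.Hom.smoothLocus_eq_top_iff, ← Scheme.Hom.preimage_smoothLocus_eq]
    ext u
    exact ⟨fun _ => trivial, fun _ => u.2.1⟩
  haveI : FormallyUnramified (W.ι ≫ f) :=
    HasRingHomProperty.of_stalkMap (P := @FormallyUnramified)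
      RingHom.FormallyUnramified.ofLocalizationPrime fun u =>
        (stalkMap_ι_comp_iff f RingHom.FormallyUnramified.respectsIso _ u).mpr u.2.2
  exact Etale.of_formallyUnramified_of_flat _

/-- The map on stalks of fibres is the base change to the stalk modulo the maximal ideal below. -/
theorem fiberMap_stalk_iff {P : ∀ {R S : Type u} [CommRing R] [CommRing S], (R →+* S) → Prop}
    (hP : RingHom.RespectsIso P) (s : S) (z : (f ≫ g).fiber s) :
    letI := (f.stalkMap ((f ≫ g).fiberι s z)).hom.toAlgebra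
    P ((MoreMor.fiberMap f g s).stalkMap z).hom ↔
      P (algebraMap
        (Y.presheaf.stalk (f ((f ≫ g).fiberι s z)) ⧸
          (maximalIdeal (S.presheaf.stalk (g (f ((f ≫ g).fiberι s z))))).map
            (g.stalkMap (f ((f ≫ g).fiberι s z))).hom)
        ((Y.presheaf.stalk (f ((f ≫ g).fiberι s z)) ⧸
          (maximalIdeal (S.presheaf.stalk (g (f ((f ≫ g).fiberι s z))))).map
            (g.stalkMap (f ((f ≫ g).fiberι s z))).hom) ⊗[Y.presheaf.stalk (f ((f ≫ g).fiberι s z))]
          X.presheaf.stalk ((f ≫ g).fiberι s z))) := by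
  let x := (f ≫ g).fiberι s z
  let y := f x
  let w := MoreMor.fiberMap f g s z
  let φY := toFiberStalk g s w y (fiberι_fiberMap f g s z)
  let φX := ((f ≫ g).fiberι s).stalkMap z
  let ψ := (MoreMor.fiberMap f g s).stalkMap z
  obtain ⟨hYs, hYk⟩ := toFiberStalk_spec g s w y (fiberι_fiberMap f g s z)
  let I : Ideal (Y.presheaf.stalk y) :=
    (maximalIdeal (S.presheaf.stalk (g y))).map (g.stalkMap y).hom
  letI := (f.stalkMap x).hom.toAlgebra
  have hker : RingHom.ker φX.hom =
      I.map (algebraMap (Y.presheaf.stalk y) (X.presheaf.stalk x)) := by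
    rw [ker_fiberι_stalkMap (f ≫ g) s z, Ideal.map_map, Scheme.Hom.stalkMap_comp]
    rfl
  let eY : Y.presheaf.stalk y ⧸ I →+* (g.fiber s).presheaf.stalk w :=
    Ideal.Quotient.lift I φY.hom fun a ha => by rw [← RingHom.mem_ker, hYk]; exact ha
  have heY : Function.Bijective eY := by
    refine ⟨?_, fun c => ?_⟩
    · refine RingHom.lift_injective_of_ker_le_ideal I _ ?_
      rw [hYk]
    · obtain ⟨a, rfl⟩ := hYs c
      exact ⟨Ideal.Quotient.mk I a, rfl⟩
  exact quotLift_iff hP I φX.hom (fiberι_stalkMap_surjective (f ≫ g) s z) hker ψ.hom eY heY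
    (RingHom.ext fun a => ConcreteCategory.congr_hom (toFiberStalk_comp f g s z) a)

theorem formallySmooth_stalkMap_of_quotient [LocallyOfFinitePresentation f] (x : X)
    (hflat : (f.stalkMap x).hom.Flat) (I : Ideal (Y.presheaf.stalk (f x)))
    (hI : I ≤ maximalIdeal _)
    (h : letI := (f.stalkMap x).hom.toAlgebra
      (algebraMap (Y.presheaf.stalk (f x) ⧸ I)
        ((Y.presheaf.stalk (f x) ⧸ I) ⊗[Y.presheaf.stalk (f x)] X.presheaf.stalk x)).FormallySmooth) :
    (f.stalkMap x).hom.FormallySmooth := by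
  obtain ⟨_, ⟨U : Y.Opens, hU, rfl⟩, hxU, -⟩ :=
    Y.isBasis_affineOpens.exists_subset_of_mem_open (Set.mem_univ (f x)) isOpen_univ
  obtain ⟨_, ⟨V : X.Opens, hV, rfl⟩, hxV, hVU⟩ :=
    X.isBasis_affineOpens.exists_subset_of_mem_open (a := x) (u := ↑(f ⁻¹ᵁ U)) hxU (f ⁻¹ᵁ U).2
  have hfp := f.finitePresentation_appLE hU hV hVU
  algebraize [(f.appLE U V hVU).hom]
  letI : Algebra Γ(X, V) (X.presheaf.stalk x) :=
    TopCat.Presheaf.algebra_section_stalk X.presheaf ⟨x, hxV⟩
  letI : Algebra Γ(Y, U) (Y.presheaf.stalk (f x)) :=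
    TopCat.Presheaf.algebra_section_stalk Y.presheaf ⟨f x, hxU⟩
  haveI := hV.isLocalization_stalk ⟨x, hxV⟩
  haveI := hU.isLocalization_stalk ⟨f x, hxU⟩
  letI := (f.stalkMap x).hom.toAlgebra
  letI : Algebra Γ(Y, U) (X.presheaf.stalk x) :=
    ((X.presheaf.germ V x hxV).hom.comp (f.appLE U V hVU).hom).toAlgebra
  haveI : IsScalarTower Γ(Y, U) Γ(X, V) (X.presheaf.stalk x) := .of_algebraMap_eq fun _ => rfl
  haveI : IsScalarTower Γ(Y, U) (Y.presheaf.stalk (f x)) (X.presheaf.stalk x) :=
    .of_algebraMap_eq fun r => by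
      show X.presheaf.germ V x hxV (f.appLE U V hVU r) =
        f.stalkMap x (Y.presheaf.germ U (f x) hxU r)
      rw [Scheme.Hom.germ_stalkMap_apply, Scheme.Hom.appLE, CommRingCat.comp_apply,
        X.presheaf.germ_res_apply]
  haveI : IsLocalHom (algebraMap (Y.presheaf.stalk (f x)) (X.presheaf.stalk x)) :=
    f.toLRSHom.prop x
  haveI : Module.Flat (Y.presheaf.stalk (f x)) (X.presheaf.stalk x) := hflat
  exact formallySmooth_of_quotient (hU.primeIdealOf ⟨f x, hxU⟩).asIdeal
    (hV.primeIdealOf ⟨x, hxV⟩).asIdeal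
    congr($(IsAffineOpen.comap_primeIdealOf_appLE U hU V hV hVU hxV).1) I hI h

theorem formallyUnramified_stalkMap_of_quotient [LocallyOfFiniteType f] (x : X)
    (I : Ideal (Y.presheaf.stalk (f x))) (hI : I ≤ maximalIdeal _)
    (h : letI := (f.stalkMap x).hom.toAlgebra
      (algebraMap (Y.presheaf.stalk (f x) ⧸ I)
        ((Y.presheaf.stalk (f x) ⧸ I) ⊗[Y.presheaf.stalk (f x)]
          X.presheaf.stalk x)).FormallyUnramified) :
    (f.stalkMap x).hom.FormallyUnramified := by
  letI := (f.stalkMap x).hom.toAlgebra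
  haveI : IsLocalHom (algebraMap (Y.presheaf.stalk (f x)) (X.presheaf.stalk x)) :=
    f.toLRSHom.prop x
  haveI : Algebra.EssFiniteType (Y.presheaf.stalk (f x)) (X.presheaf.stalk x) :=
    LocallyOfFiniteType.stalkMap f x
  exact formallyUnramified_of_quotient I hI h

theorem map_maximalIdeal_le (x : X) :
    (maximalIdeal (Y.presheaf.stalk (f x))).map (f.stalkMap x).hom ≤
      maximalIdeal (X.presheaf.stalk x) := by
  rw [Ideal.map_le_iff_le_comap]
  exact fun a ha => map_nonunit (f.stalkMap x).hom a ha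

theorem formallyUnramified_stalk_iff_fibre [LocallyOfFiniteType f] (s : S)
    (z : (f ≫ g).fiber s) :
    (f.stalkMap ((f ≫ g).fiberι s z)).hom.FormallyUnramified ↔
      ((MoreMor.fiberMap f g s).stalkMap z).hom.FormallyUnramified := by
  rw [fiberMap_stalk_iff f g RingHom.FormallyUnramified.respectsIso s z]
  letI := (f.stalkMap ((f ≫ g).fiberι s z)).hom.toAlgebra
  refine ⟨fun h => ?_, fun h => formallyUnramified_stalkMap_of_quotient f _ _
    (map_maximalIdeal_le g _) h⟩
  haveI : Algebra.FormallyUnramified _ _ := h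
  exact RingHom.formallyUnramified_algebraMap.mpr inferInstance

theorem formallySmooth_stalk_of_flat {Z W : Scheme.{u}} (h : Z ⟶ W)
    [LocallyOfFinitePresentation h] (z : Z) (hs : (h.stalkMap z).hom.FormallySmooth) :
    (h.stalkMap z).hom.Flat := by
  obtain ⟨U, hzU, hU⟩ := (exists_smooth_nhd_iff h z).mpr hs
  haveI := hU
  exact (stalkMap_ι_comp_iff h RingHom.Flat.respectsIso U ⟨z, hzU⟩).mp
    (Flat.stalkMap (U.ι ≫ h) _)

theorem formallySmooth_stalk_iff_fibre [LocallyOfFinitePresentation g]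
    [LocallyOfFinitePresentation (f ≫ g)] (s : S) (z : (f ≫ g).fiber s)
    (hflat : ((f ≫ g).stalkMap ((f ≫ g).fiberι s z)).hom.Flat) :
    (f.stalkMap ((f ≫ g).fiberι s z)).hom.FormallySmooth ↔
      ((MoreMor.fiberMap f g s).stalkMap z).hom.FormallySmooth := by
  haveI := locallyOfFinitePresentation_of_comp f g
  have hiff := fiberMap_stalk_iff f g RingHom.FormallySmooth.respectsIso s z
  letI := (f.stalkMap ((f ≫ g).fiberι s z)).hom.toAlgebra
  refine ⟨fun h => hiff.mpr ?_, fun h => ?_⟩
  · haveI : Algebra.FormallySmooth _ _ := h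
    exact RingHom.formallySmooth_algebraMap.mpr inferInstance
  · haveI : LocallyOfFinitePresentation (MoreMor.fiberMap f g s ≫ g.fiberToSpecResidueField s) := by
      rw [show MoreMor.fiberMap f g s ≫ g.fiberToSpecResidueField s =
        (f ≫ g).fiberToSpecResidueField s from pullback.lift_snd _ _ _]
      exact MorphismProperty.pullback_snd _ _ inferInstance
    haveI : LocallyOfFiniteType (g.fiberToSpecResidueField s) :=
      MorphismProperty.pullback_snd _ _ inferInstance
    haveI := locallyOfFinitePresentation_of_comp (MoreMor.fiberMap f g s)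
      (g.fiberToSpecResidueField s)
    have hf : (f.stalkMap ((f ≫ g).fiberι s z)).hom.Flat :=
      (flat_stalkMap_of_fibre f g s z hflat (formallySmooth_stalk_of_flat _ _ h)).2
    exact formallySmooth_stalkMap_of_quotient f _ hf _ (map_maximalIdeal_le g _) (hiff.mp h)

theorem fiberMapOver_eq (s : S) :
    CohIII.fiberMapOver f (f ≫ g) g rfl s = MoreMor.fiberMap f g s := by
  apply pullback.hom_ext
  · exact (pullback.lift_fst _ _ _).trans (pullback.lift_fst _ _ _).symm
  · exact ((pullback.lift_snd _ _ _).trans (Category.comp_id _)).trans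
      (pullback.lift_snd _ _ _).symm

theorem locallyOfFinitePresentation_fiberMap [LocallyOfFinitePresentation g]
    [LocallyOfFinitePresentation (f ≫ g)] (s : S) :
    LocallyOfFinitePresentation (MoreMor.fiberMap f g s) := by
  haveI : LocallyOfFinitePresentation (MoreMor.fiberMap f g s ≫ g.fiberToSpecResidueField s) := by
    rw [show MoreMor.fiberMap f g s ≫ g.fiberToSpecResidueField s =
      (f ≫ g).fiberToSpecResidueField s from pullback.lift_snd _ _ _]
    exact MorphismProperty.pullback_snd _ _ inferInstance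
  haveI : LocallyOfFiniteType (g.fiberToSpecResidueField s) :=
    MorphismProperty.pullback_snd _ _ inferInstance
  exact locallyOfFinitePresentation_of_comp _ (g.fiberToSpecResidueField s)

theorem mem_smoothLocus_iff_fibre [LocallyOfFinitePresentation f] (s : Y) (z : f.fiber s)
    [LocallyOfFinitePresentation (f.fiberToSpecResidueField s)] :
    (f.stalkMap (f.fiberι s z)).hom.FormallySmooth ↔
      (f.stalkMap (f.fiberι s z)).hom.Flat ∧
        ((f.fiberToSpecResidueField s).stalkMap z).hom.FormallySmooth := by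
  let x := f.fiberι s z
  let w := f.fiberToSpecResidueField s z
  let K := (Spec (Y.residueField s)).presheaf.stalk w
  have hpt : Y.fromSpecResidueField s w = f x := by
    rw [← Scheme.Hom.comp_apply, ← Scheme.Hom.comp_apply, f.fiber_fac s]
  let φ : Y.presheaf.stalk (f x) ⟶ K :=
    (Y.presheaf.stalkCongr (.of_eq hpt.symm)).hom ≫ (Y.fromSpecResidueField s).stalkMap w
  have hcomp : φ ≫ (f.fiberToSpecResidueField s).stalkMap z =
      f.stalkMap x ≫ (f.fiberι s).stalkMap z := by
    rw [← Scheme.Hom.stalkMap_comp, Scheme.Hom.stalkMap_congr_hom _ _ (f.fiber_fac s) z,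
      Scheme.Hom.stalkMap_comp, Category.assoc]
  have hφs : Function.Surjective φ :=
    ((Y.fromSpecResidueField s).stalkMap_surjective w).comp
      (ConcreteCategory.bijective_of_isIso (Y.presheaf.stalkCongr (.of_eq hpt.symm)).hom).2
  have hK : IsField K := by
    have hw : w = closedPoint (Y.residueField s) := f.fiberToSpecResidueField_apply s z
    show IsField ((Spec (Y.residueField s)).presheaf.stalk w)
    rw [hw]
    exact MulEquiv.isField (Field.toIsField (Y.residueField s))
      (stalkClosedPointIso (Y.residueField s)).commRingCatIsoToRingEquiv.toMulEquiv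
  letI := hK.toField
  have hker : RingHom.ker φ.hom = maximalIdeal (Y.presheaf.stalk (f x)) :=
    IsLocalRing.eq_maximalIdeal (RingHom.ker_isMaximal_of_surjective φ.hom hφs)
  let I := maximalIdeal (Y.presheaf.stalk (f x))
  let eA : Y.presheaf.stalk (f x) ⧸ I →+* K :=
    Ideal.Quotient.lift I φ.hom fun a ha => by rw [← RingHom.mem_ker, hker]; exact ha
  have heA : Function.Bijective eA :=
    ⟨RingHom.lift_injective_of_ker_le_ideal I _ (le_of_eq hker), fun c => by
      obtain ⟨a, rfl⟩ := hφs c; exact ⟨Ideal.Quotient.mk I a, rfl⟩⟩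
  letI := (f.stalkMap x).hom.toAlgebra
  have hiff := quotLift_iff RingHom.FormallySmooth.respectsIso I ((f.fiberι s).stalkMap z).hom
    (fiberι_stalkMap_surjective f s z) (ker_fiberι_stalkMap f s z)
    ((f.fiberToSpecResidueField s).stalkMap z).hom eA heA
    (RingHom.ext fun a => ConcreteCategory.congr_hom hcomp a)
  refine ⟨fun h => ⟨formallySmooth_stalk_of_flat f _ h, hiff.mpr ?_⟩,
    fun h => formallySmooth_stalkMap_of_quotient f _ h.1 I le_rfl (hiff.mp h.2)⟩
  haveI : Algebra.FormallySmooth _ _ := h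
  exact RingHom.formallySmooth_algebraMap.mpr inferInstance

end Groth.Agent.FlatLocus
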