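import Groth.Agent.FlatLocus.Gen

set_option autoImplicit false
set_option linter.style.haveILetI false
set_option backward.isDefEq.respectTransparency false
set_option backward.defeqAttrib.useBackward true

/-!
# Syzygies near a point at which the quotient is flat over the base
-/

universe u

open MvPolynomial TensorProduct Groth.Agent.GenFree

namespace Groth.Agent.FlatLocus

/-- A kernel element of a tensored map is killed by a power of `h` when the cokernel becomes flat
after inverting `h`. -/
theorem exists_pow_smul_eq_zero_of_flat {A P F : Type u} [CommRing A] [CommRing P] [Algebra A P]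
    [AddCommGroup F] [Module P F] [Module A F] [IsScalarTower A P F] (K : Submodule P F) (h : P)
    [Module.Flat A (LocalizedModule.Away h (F ⧸ K))] {R : Type u} [AddCommGroup R] [Module A R]
    (w : K ⊗[A] R) (hw : AlgebraTensorModule.rTensor A R K.subtype w = 0) :
    ∃ N : ℕ, h ^ N • w = 0 := by
  let T := Submonoid.powers h
  let ι' : LocalizedModule T K →ₗ[P] LocalizedModule T F :=
    IsLocalizedModule.map T (LocalizedModule.mkLinearMap T K) (LocalizedModule.mkLinearMap T F)
      K.subtype
  let π' : LocalizedModule T F →ₗ[P] LocalizedModule T (F ⧸ K) :=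
    IsLocalizedModule.map T (LocalizedModule.mkLinearMap T F)
      (LocalizedModule.mkLinearMap T (F ⧸ K)) K.mkQ
  have hι : Function.Injective ι' :=
    IsLocalizedModule.map_injective T _ _ _ K.subtype_injective
  have hπ : Function.Surjective π' :=
    IsLocalizedModule.map_surjective T _ _ _ K.mkQ_surjective
  have hex : Function.Exact ι' π' :=
    IsLocalizedModule.map_exact T _ _ _ _ _ (LinearMap.exact_subtype_mkQ K)
  have h1 : Function.Injective ((ι'.restrictScalars A).lTensor R) :=
    LinearMap.lTensor_injective_of_exact_of_flat (π'.restrictScalars A) hπ (ι'.restrictScalars A)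
      hι hex R
  rw [LinearMap.lTensor_inj_iff_rTensor_inj] at h1
  let gK := AlgebraTensorModule.rTensor A R (LocalizedModule.mkLinearMap T K)
  let gF := AlgebraTensorModule.rTensor A R (LocalizedModule.mkLinearMap T F)
  have h2 : gK w = 0 := by
    apply h1
    rw [map_zero]
    have h3 : (ι'.restrictScalars A) ∘ₗ (LocalizedModule.mkLinearMap T K).restrictScalars A =
        (LocalizedModule.mkLinearMap T F).restrictScalars A ∘ₗ K.subtype.restrictScalars A :=
      LinearMap.ext fun x => IsLocalizedModule.map_apply T _ _ K.subtype x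
    show (ι'.restrictScalars A).rTensor R
      (((LocalizedModule.mkLinearMap T K).restrictScalars A).rTensor R w) = 0
    rw [← LinearMap.rTensor_comp_apply, h3, LinearMap.rTensor_comp_apply,
      show (K.subtype.restrictScalars A).rTensor R w = 0 from hw, map_zero]
  obtain ⟨⟨_, N, rfl⟩, hN⟩ := (IsLocalizedModule.eq_zero_iff T gK).mp h2
  exact ⟨N, hN⟩

theorem extMap_surjective {A R : Type u} [CommRing A] [CommRing R] [Algebra A R] {a n : ℕ}
    (v : FreeMod R a n) : ∃ z : FreeMod A a n ⊗[A] R, extMap R z = v := by
  refine ⟨∑ i ∈ (finite_support v).toFinset, single i ⊗ₜ[A] co i v, ?_⟩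
  simp only [map_sum, extMap_tmul, phi_single]
  exact (eq_sum_single v fun i hi => (finite_support v).mem_toFinset.mpr hi).symm

variable {R : Type u} [CommRing R] {a n k : ℕ}

/-- The linear map defined by a family of vectors. -/
noncomputable def combMap (v : Fin k → FreeMod R a n) :
    FreeMod R k n →ₗ[MvPolynomial (Fin n) R] FreeMod R a n :=
  Fintype.linearCombination (MvPolynomial (Fin n) R) v

theorem range_combMap (v : Fin k → FreeMod R a n) :
    LinearMap.range (combMap v) = Submodule.span _ (Set.range v) :=
  Fintype.range_linearCombination _ v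

theorem extMap_rTensor_combMap {A : Type u} [CommRing A] [Algebra A R]
    (v : Fin k → FreeMod A a n) (z : FreeMod A k n ⊗[A] R) :
    extMap R (AlgebraTensorModule.rTensor A R (combMap v) z) =
      combMap (fun j => phi R (v j)) (extMap R z) := by
  induction z using TensorProduct.induction_on with
  | zero => simp
  | tmul c r =>
    rw [AlgebraTensorModule.rTensor_tmul, extMap_tmul, extMap_tmul, LinearMap.map_smul_of_tower]
    congr 1
    simp only [combMap, Fintype.linearCombination_apply, map_sum, phi_smul]
    rfl
  | add x y hx hy => simp only [map_add, hx, hy]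

theorem locN_span {A : Type u} [CommRing A] [Algebra A R] (v : Fin k → FreeMod A a n) :
    locN R (Submodule.span _ (Set.range v)) = Submodule.span _ (Set.range fun j => phi R (v j)) := by
  refine le_antisymm (Submodule.span_le.mpr ?_) (Submodule.span_le.mpr ?_)
  · rintro _ ⟨x, hx, rfl⟩
    induction hx using Submodule.span_induction with
    | mem x hx =>
      obtain ⟨j, rfl⟩ := hx
      exact Submodule.subset_span ⟨j, rfl⟩
    | zero => rw [map_zero]; exact Submodule.zero_mem _
    | add x y _ _ hx hy => rw [map_add]; exact Submodule.add_mem _ hx hy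
    | smul p x _ hx => rw [phi_smul]; exact Submodule.smul_mem _ _ hx
  · rintro _ ⟨j, rfl⟩
    exact phi_mem R _ (Submodule.subset_span ⟨j, rfl⟩)

theorem exists_lift {A : Type u} [CommRing A] [Algebra A R] (v : FreeMod R a n)
    (h : ∀ i, ∃ x : A, algebraMap A R x = co i v) : ∃ v0 : FreeMod A a n, phi R v0 = v := by
  choose x hx using h
  refine ⟨∑ i ∈ (finite_support v).toFinset, x i • single i, ?_⟩
  have h1 : ∀ i, phi R (x i • single i : FreeMod A a n) = co i v • single i := fun i => by
    rw [map_smul, phi_single, ← hx i, algebraMap_smul]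
  simp only [map_sum, h1]
  exact (eq_sum_single v fun i hi => (finite_support v).mem_toFinset.mpr hi).symm

theorem exists_flat_data_of_lift {A0 : Type u} [CommRing A0] [IsNoetherianRing A0] [Algebra A0 R]
    (w0 : Fin k → FreeMod A0 a n) (q : PrimeSpectrum (MvPolynomial (Fin n) R))
    (hq : q ∈ flatSet (locN R (Submodule.span _ (Set.range w0)))) :
    ∃ (A : Type u) (_ : CommRing A) (_ : Algebra A R) (v0 : Fin k → FreeMod A a n),
      IsNoetherianRing A ∧ (∀ j, phi R (v0 j) = phi R (w0 j)) ∧
      PrimeSpectrum.comap (MvPolynomial.map (algebraMap A R)) q ∈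
        flatSet (Submodule.span _ (Set.range v0)) := by
  obtain ⟨S, hS, hq1⟩ := exists_subalgebra (Submodule.span _ (Set.range w0)) q
    (mem_flatSet_iff.mp hq _)
  rw [locN_span] at hq1
  exact ⟨S, inferInstance, inferInstance, fun j => phi S (w0 j), isNoetherianRing_of_fg hS,
    fun j => phi_phi (A := S) (w0 j), hq1⟩

theorem exists_flat_data (v : Fin k → FreeMod R a n) (q : PrimeSpectrum (MvPolynomial (Fin n) R))
    (hq : q ∈ flatSet (Submodule.span _ (Set.range v))) :
    ∃ (A : Type u) (_ : CommRing A) (_ : Algebra A R) (v0 : Fin k → FreeMod A a n),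
      IsNoetherianRing A ∧ (∀ j, phi R (v0 j) = v j) ∧
      PrimeSpectrum.comap (MvPolynomial.map (algebraMap A R)) q ∈
        flatSet (Submodule.span _ (Set.range v0)) := by
  classical
  obtain ⟨A0, _, _, hA0, hlift⟩ : ∃ (A0 : Type u) (_ : CommRing A0) (_ : Algebra A0 R),
      IsNoetherianRing A0 ∧ ∀ j, ∃ w, phi (R := A0) R w = v j := by
    let cs : Finset R := Finset.univ.biUnion fun j =>
      (finite_support (v j)).toFinset.image fun i => co i (v j)
    refine ⟨Algebra.adjoin ℤ (cs : Set R), inferInstance, inferInstance,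
      isNoetherianRing_of_fg (Subalgebra.fg_adjoin_finset cs), fun j => exists_lift (v j) fun i => ?_⟩
    refine ⟨⟨co i (v j), ?_⟩, rfl⟩
    by_cases h : co i (v j) = 0
    · rw [h]; exact Subalgebra.zero_mem _
    · exact Algebra.subset_adjoin (Finset.mem_biUnion.mpr ⟨j, Finset.mem_univ _,
        Finset.mem_image_of_mem _ ((finite_support (v j)).mem_toFinset.mpr h)⟩)
  choose w0 hw0 using hlift
  have hN : locN R (Submodule.span _ (Set.range w0)) = Submodule.span _ (Set.range v) := by
    rw [locN_span]
    simp only [hw0]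
  obtain ⟨A, i1, i2, v0, h1, h2, h3⟩ := exists_flat_data_of_lift w0 q (hN.symm ▸ hq)
  exact ⟨A, i1, i2, v0, h1, fun j => (h2 j).trans (hw0 j), h3⟩

/-- Near a point of flatness of the quotient the syzygies are finitely generated. -/
theorem exists_syzygy_generators (v : Fin k → FreeMod R a n)
    (q : PrimeSpectrum (MvPolynomial (Fin n) R))
    (hq : q ∈ flatSet (Submodule.span _ (Set.range v))) :
    ∃ (G : Finset (FreeMod R k n)) (h : MvPolynomial (Fin n) R), h ∉ q.asIdeal ∧
      (∀ σ ∈ G, combMap v σ = 0) ∧
      ∀ c, combMap v c = 0 → ∃ N : ℕ, h ^ N • c ∈ Submodule.span (MvPolynomial (Fin n) R)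
        (G : Set (FreeMod R k n)) := by
  classical
  obtain ⟨A, _, _, v0, hA, hv, hq1⟩ := exists_flat_data v q hq
  haveI := hA
  obtain ⟨_, ⟨h0, rfl⟩, hqh, hsub⟩ :=
    PrimeSpectrum.isTopologicalBasis_basic_opens.exists_subset_of_mem_open hq1
      (isOpen_flatSet_noeth (Submodule.span _ (Set.range v0)))
  let K := LinearMap.range (combMap v0)
  have hK : K = Submodule.span _ (Set.range v0) := range_combMap v0
  haveI : Module.Flat A (LocalizedModule.Away h0 (FreeMod A a n ⧸ K)) := by
    refine flat_localized_of_forall_prime (Submonoid.powers h0)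
      (LocalizedModule.mkLinearMap (Submonoid.powers h0) (FreeMod A a n ⧸ K)) fun P hP hdis => ?_
    have h1 : (⟨P, hP⟩ : PrimeSpectrum _) ∈ flatSet (Submodule.span _ (Set.range v0)) :=
      hsub fun hh => Set.disjoint_left.mp hdis (Submonoid.mem_powers h0) hh
    rw [← hK] at h1
    exact h1
  obtain ⟨G0, hG0⟩ : (LinearMap.ker (combMap v0)).FG := IsNoetherian.noetherian _
  have hcomb : ∀ c : FreeMod A k n, combMap v (phi R c) = phi R (combMap v0 c) := fun c => by
    simp only [combMap, Fintype.linearCombination_apply, map_sum, phi_smul, hv]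
    rfl
  refine ⟨G0.image (phi R), MvPolynomial.map (algebraMap A R) h0, hqh, fun σ hσ => ?_,
    fun c hc => ?_⟩
  · obtain ⟨σ0, hσ0, rfl⟩ := Finset.mem_image.mp hσ
    have : σ0 ∈ LinearMap.ker (combMap v0) := hG0 ▸ Submodule.subset_span hσ0
    rw [hcomb, LinearMap.mem_ker.mp this, map_zero]
  obtain ⟨z, rfl⟩ := extMap_surjective (A := A) c
  have h1 : AlgebraTensorModule.rTensor A R (combMap v0) z = 0 := extMap_injective R (by
    rw [extMap_rTensor_combMap, map_zero]
    simp only [hv]
    exact hc)
  let F' := (combMap v0).rangeRestrict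
  obtain ⟨N, hN⟩ := exists_pow_smul_eq_zero_of_flat K h0
    (AlgebraTensorModule.rTensor A R F' z) (by
      rw [← LinearMap.comp_apply, ← AlgebraTensorModule.rTensor_comp]
      exact h1)
  refine ⟨N, ?_⟩
  rw [← map_smul] at hN
  replace hN : (F'.restrictScalars A).rTensor R (h0 ^ N • z) = 0 := hN
  obtain ⟨t, ht⟩ := (rTensor_exact (f := (LinearMap.ker (combMap v0)).subtype.restrictScalars A)
    (g := F'.restrictScalars A) R (fun x => ⟨fun hx => ⟨⟨x, congrArg Subtype.val hx⟩, rfl⟩, by
      rintro ⟨y, rfl⟩; exact Subtype.ext y.2⟩) (combMap v0).surjective_rangeRestrict _).mp hN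
  rw [← map_pow, ← extMap_smul, ← ht]
  clear ht
  induction t using TensorProduct.induction_on with
  | zero => simp
  | tmul y r =>
    rw [LinearMap.rTensor_tmul, extMap_tmul, ← algebraMap_smul (MvPolynomial (Fin n) R) r]
    refine Submodule.smul_mem _ _ ?_
    obtain ⟨y, hy⟩ := y
    show phi R y ∈ _
    rw [← hG0] at hy
    induction hy using Submodule.span_induction with
    | mem x hx => exact Submodule.subset_span (Finset.mem_image_of_mem _ hx)
    | zero => rw [map_zero]; exact Submodule.zero_mem _
    | add x y _ _ hx hy => rw [map_add]; exact Submodule.add_mem _ hx hy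
    | smul p x _ hx => rw [phi_smul]; exact Submodule.smul_mem _ _ hx
  | add x y hx hy => simp only [map_add]; exact Submodule.add_mem _ hx hy

end Groth.Agent.FlatLocus
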