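import Groth.Agent.FlatLocus.Basic
import Groth.Agent.LocFlat.Basic
import Groth.Agent.GenFree.Modules
import Groth.Agent.ConstrNoeth.Basic

set_option autoImplicit false
set_option linter.style.haveILetI false
set_option backward.isDefEq.respectTransparency false
set_option backward.defeqAttrib.useBackward true

/-!
# The flat locus over a noetherian ring
-/

universe u

open MvPolynomial TensorProduct Groth.Agent.GenFree

namespace Groth.Agent.FlatLocus

/-- Local criterion of flatness at a prime. -/
theorem flat_of_lTensor_injective {R B : Type u} [CommRing R] [CommRing B] [Algebra R B]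
    [IsNoetherianRing R] [IsNoetherianRing B] {M : Type u} [AddCommGroup M] [Module B M]
    [Module R M] [IsScalarTower R B M] [Module.Finite B M] (q : Ideal B) [q.IsPrime]
    (h : Function.Injective
      ((q.comap (algebraMap R B)).subtype.lTensor (LocalizedModule q.primeCompl M))) :
    Module.Flat R (LocalizedModule q.primeCompl M) := by
  let p := q.comap (algebraMap R B)
  let R' := Localization.AtPrime p
  let S' := Localization.AtPrime q
  letI : Algebra R' S' := (Localization.localRingHom p q (algebraMap R B) rfl).toAlgebra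
  haveI : IsScalarTower R R' S' := .of_algebraMap_eq fun r => by
    rw [RingHom.algebraMap_toAlgebra, Localization.localRingHom_to_map,
      ← IsScalarTower.algebraMap_apply]
  haveI : IsLocalHom (algebraMap R' S') := by
    rw [RingHom.algebraMap_toAlgebra]; infer_instance
  let M' := LocalizedModule q.primeCompl M
  haveI : IsScalarTower R S' M' := .of_algebraMap_smul fun r m => by
    rw [IsScalarTower.algebraMap_apply R B S', algebraMap_smul, algebraMap_smul]
  letI : Module R' M' := Module.compHom M' (algebraMap R' S')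
  haveI : IsScalarTower R' S' M' := .of_algebraMap_smul fun _ _ => rfl
  haveI : IsScalarTower R R' M' := .of_algebraMap_smul fun r m => by
    show algebraMap R' S' (algebraMap R R' r) • m = _
    rw [← IsScalarTower.algebraMap_apply, algebraMap_smul]
  haveI : Module.Finite S' M' :=
    Module.Finite.of_isLocalizedModule q.primeCompl (LocalizedModule.mkLinearMap q.primeCompl M)
  haveI : IsNoetherianRing R' := IsLocalization.isNoetherianRing p.primeCompl _ ‹_›
  haveI : IsNoetherianRing S' := IsLocalization.isNoetherianRing q.primeCompl _ ‹_›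
  refine (Module.flat_iff_of_isLocalization R' p.primeCompl M').mp
    (LocFlat.flat_of_maximalIdeal (S := S') ?_)
  let m := IsLocalRing.maximalIdeal R'
  have hm : ∀ c : p, algebraMap R R' c ∈ m := fun c =>
    (IsLocalization.AtPrime.to_map_mem_maximal_iff R' p c.1).mpr c.2
  let φ : M' ⊗[R] p →ₗ[R] M' ⊗[R'] m :=
    TensorProduct.lift (LinearMap.mk₂ R (fun x c => x ⊗ₜ[R'] (⟨algebraMap R R' c, hm c⟩ : m))
      (fun x y c => TensorProduct.add_tmul x y _)
      (fun r x c => (TensorProduct.smul_tmul' r x _).symm)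
      (fun x c d => by
        rw [← TensorProduct.tmul_add]
        congr 1
        exact Subtype.ext (map_add (algebraMap R R') c.1 d.1))
      (fun r x c => by
        rw [← TensorProduct.tmul_smul]
        congr 1
        refine Subtype.ext ?_
        show algebraMap R R' (r • (c : R)) = r • algebraMap R R' c
        rw [smul_eq_mul, map_mul, Algebra.smul_def]))
  have hφ : Function.Surjective φ := by
    intro z
    induction z using TensorProduct.induction_on with
    | zero => exact ⟨0, map_zero _⟩
    | tmul x c =>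
      obtain ⟨a, s, hc⟩ := IsLocalization.exists_mk'_eq p.primeCompl c.1
      have ha : a ∈ p := (IsLocalization.AtPrime.mk'_mem_maximal_iff R' p a s).mp (hc ▸ c.2)
      refine ⟨(IsLocalization.mk' R' (1 : R) s • x) ⊗ₜ ⟨a, ha⟩, ?_⟩
      show (IsLocalization.mk' R' (1 : R) s • x) ⊗ₜ[R'] (⟨algebraMap R R' a, hm ⟨a, ha⟩⟩ : m) = _
      rw [TensorProduct.smul_tmul]
      congr 1
      refine Subtype.ext ?_
      show IsLocalization.mk' R' (1 : R) s • algebraMap R R' a = _
      rw [smul_eq_mul, mul_comm, IsLocalization.mul_mk'_eq_mk'_of_mul, mul_one, hc]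
    | add x y hx hy =>
      obtain ⟨x', rfl⟩ := hx
      obtain ⟨y', rfl⟩ := hy
      exact ⟨x' + y', map_add _ _ _⟩
  rw [injective_iff_map_eq_zero]
  intro z hz
  obtain ⟨w, rfl⟩ := hφ z
  have key : ∀ w, TensorProduct.rid R' M' (m.subtype.lTensor M' (φ w)) =
      TensorProduct.rid R M' (p.subtype.lTensor M' w) := fun w => by
    induction w using TensorProduct.induction_on with
    | zero => simp
    | tmul x c =>
      simp only [φ, TensorProduct.lift.tmul, LinearMap.mk₂_apply, LinearMap.lTensor_tmul,
        Submodule.subtype_apply, TensorProduct.rid_tmul, algebraMap_smul]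
    | add x y hx hy => simp only [map_add, hx, hy]
  have hw : w = 0 := h (by
    apply (TensorProduct.rid R M').injective
    rw [← key, hz]
    simp)
  rw [hw, map_zero]

variable {R : Type u} [CommRing R] {a n : ℕ}

/-- The primes at which the quotient is flat over the base. -/
def flatSet (N : Submodule (MvPolynomial (Fin n) R) (FreeMod R a n)) :
    Set (PrimeSpectrum (MvPolynomial (Fin n) R)) :=
  {q | Module.Flat R (LocalizedModule q.asIdeal.primeCompl (FreeMod R a n ⧸ N))}

theorem mem_flatSet_iff {N : Submodule (MvPolynomial (Fin n) R) (FreeMod R a n)}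
    {q : PrimeSpectrum (MvPolynomial (Fin n) R)} :
    q ∈ flatSet N ↔ ∀ I : Ideal R, Rel q.asIdeal.primeCompl I N :=
  flat_iff_rel N _ (LocalizedModule.mkLinearMap q.asIdeal.primeCompl (FreeMod R a n ⧸ N))

theorem mem_flatSet_of_rel [IsNoetherianRing R]
    {N : Submodule (MvPolynomial (Fin n) R) (FreeMod R a n)}
    {q : PrimeSpectrum (MvPolynomial (Fin n) R)}
    (h : Rel q.asIdeal.primeCompl (q.asIdeal.comap (C : R →+* MvPolynomial (Fin n) R)) N) :
    q ∈ flatSet N :=
  flat_of_lTensor_injective q.asIdeal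
    (injective_localized _ _ (LocalizedModule.mkLinearMap q.asIdeal.primeCompl _)
      fun z hz => killed_of_rel N _ _ h z hz)

theorem exists_uniform {B M : Type u} [CommRing B] [AddCommGroup M] [Module B M] {T : Submonoid B}
    {L P : Submodule B M} (hL : L.FG) (h : L ≤ Sat T P) : ∃ t ∈ T, ∀ x ∈ L, t • x ∈ P := by
  obtain ⟨s, rfl⟩ := hL
  classical
  induction s using Finset.induction_on with
  | empty => exact ⟨1, T.one_mem, fun x hx => by simp_all⟩
  | insert b s hb ih =>
    rw [Finset.coe_insert, Submodule.span_insert] at h ⊢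
    obtain ⟨t, ht, hts⟩ := ih (le_sup_right.trans h)
    obtain ⟨t', ht', htb⟩ := h (Submodule.mem_sup_left (Submodule.mem_span_singleton_self b))
    refine ⟨t * t', T.mul_mem ht ht', fun x hx => ?_⟩
    obtain ⟨y, hy, z, hz, rfl⟩ := Submodule.mem_sup.mp hx
    obtain ⟨c, rfl⟩ := Submodule.mem_span_singleton.mp hy
    rw [smul_add]
    refine P.add_mem ?_ ?_
    · rw [smul_comm, mul_smul]; exact P.smul_mem _ (P.smul_mem _ htb)
    · rw [mul_comm, mul_smul]; exact P.smul_mem _ (hts z hz)

theorem smul_locN_le (A : Type u) [CommRing A] [Algebra R A] (J : Ideal (MvPolynomial (Fin n) R))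
    (N : Submodule (MvPolynomial (Fin n) R) (FreeMod R a n)) :
    J.map (MvPolynomial.map (algebraMap R A)) • locN A N ≤ locN A (J • N) := by
  rw [Ideal.map, Ideal.span, locN, Submodule.span_smul_span, Submodule.span_le]
  rintro _ ⟨_, ⟨j, hj, rfl⟩, _, ⟨v, hv, rfl⟩, rfl⟩
  show _ • phi A v ∈ _
  rw [← phi_smul]
  exact phi_mem A _ (Submodule.smul_mem_smul hj hv)

theorem map_map_C (A : Type u) [CommRing A] [Algebra R A] (I : Ideal R) :
    (I.map (C : R →+* MvPolynomial (Fin n) R)).map (MvPolynomial.map (algebraMap R A)) =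
      (I.map (algebraMap R A)).map (C : A →+* MvPolynomial (Fin n) A) := by
  rw [Ideal.map_map, Ideal.map_map]
  congr 1
  ext r
  simp

theorem mem_image_of_mem_locN (A : Type u) [CommRing A] [Algebra R A]
    (hA : Function.Surjective (algebraMap R A))
    (N : Submodule (MvPolynomial (Fin n) R) (FreeMod R a n)) {x : FreeMod A a n}
    (hx : x ∈ locN A N) : ∃ v ∈ N, phi A v = x := by
  replace hx := mem_span_of_mem_locN A N hx
  induction hx using Submodule.span_induction with
  | mem x hx => exact hx
  | zero => exact ⟨0, N.zero_mem, map_zero _⟩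
  | add x y _ _ hx hy =>
    obtain ⟨v, hv, rfl⟩ := hx
    obtain ⟨w, hw, rfl⟩ := hy
    exact ⟨v + w, N.add_mem hv hw, map_add _ _ _⟩
  | smul c x _ hx =>
    obtain ⟨v, hv, rfl⟩ := hx
    obtain ⟨r, rfl⟩ := hA c
    exact ⟨r • v, N.smul_of_tower_mem r hv, by rw [map_smul, algebraMap_smul]⟩

/-- A neighbourhood in the closure of a point of the flat locus. -/
theorem exists_basicOpen [IsNoetherianRing R]
    (N : Submodule (MvPolynomial (Fin n) R) (FreeMod R a n))
    {q : PrimeSpectrum (MvPolynomial (Fin n) R)} (hq : q ∈ flatSet N) :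
    ∃ g ∉ q.asIdeal, ∀ q' : PrimeSpectrum (MvPolynomial (Fin n) R),
      q.asIdeal ≤ q'.asIdeal → g ∉ q'.asIdeal → q' ∈ flatSet N := by
  let p := q.asIdeal.comap (C : R →+* MvPolynomial (Fin n) R)
  let D := R ⧸ p
  obtain ⟨g, hg, hgK⟩ := exists_uniform (IsNoetherian.noetherian (N ⊓ cf p))
    (mem_flatSet_iff.mp hq p)
  obtain ⟨fb, -, hfb, hfree, -⟩ := exists_good (locN D N) (one_ne_zero (α := D))
  obtain ⟨f, hf⟩ := Ideal.Quotient.mk_surjective fb
  have hfq : (C f : MvPolynomial (Fin n) R) ∉ q.asIdeal := fun h => hfb (by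
    rw [← hf, Ideal.Quotient.eq_zero_iff_mem]; exact h)
  refine ⟨g * C f, fun h => (q.2.mem_or_mem h).elim hg hfq, fun q' hle hnot => ?_⟩
  let p' := q'.asIdeal.comap (C : R →+* MvPolynomial (Fin n) R)
  have hpp : p ≤ p' := Ideal.comap_mono hle
  refine mem_flatSet_of_rel ?_
  rintro y ⟨hyN, hyp⟩
  rw [SetLike.mem_coe, mem_cf] at hyp
  let Tb := Submonoid.powers (C fb : MvPolynomial (Fin n) D)
  let gb := LocalizedModule.mkLinearMap Tb (FreeMod D a n ⧸ locN D N)
  haveI : Module.Flat D (LocalizedModule Tb (FreeMod D a n ⧸ locN D N)) :=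
    flat_localized_of_freeAt fb hfree Tb ⟨1, pow_one _⟩ gb
  obtain ⟨_, ⟨k, rfl⟩, hk⟩ := (flat_iff_rel (locN D N) Tb gb).mp inferInstance
    (p'.map (algebraMap R D))
    (show phi D y ∈ locN D N ⊓ cf (p'.map (algebraMap R D)) from ⟨phi_mem D N hyN,
      mem_cf.mpr fun i => by rw [co_phi]; exact Ideal.mem_map_of_mem _ (hyp i)⟩)
  rw [← map_map_C] at hk
  obtain ⟨z, hz, hzy⟩ := mem_image_of_mem_locN D Ideal.Quotient.mk_surjective _
    (smul_locN_le D _ N hk)
  let e : MvPolynomial (Fin n) R := C f ^ k
  have hu : e • y - z ∈ N ⊓ cf p := by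
    refine ⟨N.sub_mem (N.smul_mem _ hyN) (Submodule.smul_le_right hz), mem_cf.mpr fun i => ?_⟩
    rw [← Ideal.Quotient.eq_zero_iff_mem]
    show algebraMap R D (co i (e • y - z)) = 0
    rw [← co_phi, map_sub, phi_smul, hzy]
    simp [e, ← hf, D]
  refine ⟨g * e, ?_, ?_⟩
  · have hg' : g ∈ q'.asIdeal.primeCompl := fun h => hnot (Ideal.mul_mem_right _ _ h)
    have hf' : C f ∈ q'.asIdeal.primeCompl := fun h => hnot (Ideal.mul_mem_left _ _ h)
    exact Submonoid.mul_mem _ hg' (Submonoid.pow_mem _ hf' k)
  · have h1 := Submodule.smul_mono_left (Ideal.map_mono (f := C) hpp) (hgK _ hu)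
    rw [mul_smul, show e • y = (e • y - z) + z by rw [sub_add_cancel], smul_add]
    exact Submodule.add_mem _ h1 (Submodule.smul_mem _ _ hz)

theorem stableUnderGeneralization_flatSet
    (N : Submodule (MvPolynomial (Fin n) R) (FreeMod R a n)) :
    StableUnderGeneralization (flatSet N) := by
  intro x y h hx
  rw [← PrimeSpectrum.le_iff_specializes] at h
  rw [mem_flatSet_iff] at hx ⊢
  exact fun I => (hx I).mono fun t ht hy => ht (h hy)

/-- The flat locus is open over a noetherian ring. -/
theorem isOpen_flatSet_noeth [IsNoetherianRing R]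
    (N : Submodule (MvPolynomial (Fin n) R) (FreeMod R a n)) : IsOpen (flatSet N) := by
  have hst := stableUnderGeneralization_flatSet N
  have hE : Topology.IsConstructible (flatSet N) := by
    refine ConstrNoeth.isConstructible_of_irreducible fun Y hY hirr hd => ?_
    have hξ := hirr.isGenericPoint_genericPoint hY
    obtain ⟨x, hx⟩ := hirr.nonempty
    obtain ⟨z, -, hzE, hzY⟩ := mem_closure_iff.mp (hd hx) _ isOpen_univ trivial
    have hmem := hst (hξ.specializes hzY) hzE
    obtain ⟨g, hg, hgE⟩ := exists_basicOpen N hmem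
    refine ⟨PrimeSpectrum.basicOpen g, (PrimeSpectrum.basicOpen g).2,
      ⟨_, hg, hξ.mem⟩, fun w hw => hgE w ?_ hw.1⟩
    exact (PrimeSpectrum.le_iff_specializes _ _).mpr (hξ.specializes hw.2)
  exact isClosed_compl_iff.mp (ConstrNoeth.isClosed_of_stableUnderSpecialization
    (Topology.IsConstructible.compl hE) hst.compl)

end Groth.Agent.FlatLocus
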