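import Groth.Agent.FlatLocus.SmoothFibres

set_option autoImplicit false
set_option linter.style.haveILetI false
set_option backward.isDefEq.respectTransparency false
set_option backward.defeqAttrib.useBackward true

/-!
# Open immersions and isomorphisms detected on fibres
-/

universe u

open CategoryTheory CategoryTheory.Limits AlgebraicGeometry

namespace Groth.Agent.FlatLocus

variable {X Y S : Scheme.{u}} (f : X ⟶ Y) (g : Y ⟶ S)

theorem isOpenImmersion_of_fibres [LocallyOfFinitePresentation (f ≫ g)] [LocallyOfFiniteType g]
    [Flat (f ≫ g)] (h : ∀ s : S, IsOpenImmersion (pullback.snd f (g.fiberι s))) :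
    IsOpenImmersion f := by
  haveI : Etale f := etale_of_fibres f g fun s => by haveI := h s; infer_instance
  have h1 : IsOpenImmersion (pullback.diagonal f) := inferInstance
  have h2 : Surjective (pullback.diagonal f) := by
    refine ⟨fun p => ?_⟩
    let c := pullback.fst f f ≫ f ≫ g
    let t := (pullback f f).fromSpecResidueField p
    let k := Spec.map (c.residueFieldMap p)
    have hk : k ≫ S.fromSpecResidueField (c p) = t ≫ c :=
      Scheme.Hom.SpecMap_residueFieldMap_fromSpecResidueField c p
    let a : Spec ((pullback f f).residueField p) ⟶ (f ≫ g).fiber (c p) :=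
      pullback.lift (t ≫ pullback.fst f f) k (by rw [hk]; simp [c])
    let b : Spec ((pullback f f).residueField p) ⟶ (f ≫ g).fiber (c p) :=
      pullback.lift (t ≫ pullback.snd f f) k (by
        rw [hk]
        simp only [c, Category.assoc]
        rw [pullback.condition_assoc])
    haveI : IsOpenImmersion (MoreMor.fiberMap f g (c p)) :=
      fiberMap_of_pullback f g @IsOpenImmersion h _
    have hab : a ≫ MoreMor.fiberMap f g (c p) = b ≫ MoreMor.fiberMap f g (c p) := by
      apply pullback.hom_ext
      · simp only [a, b, MoreMor.fiberMap, Category.assoc, pullback.lift_fst,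
          Scheme.Hom.fiberι, pullback.lift_fst_assoc, pullback.condition]
      · simp only [a, b, MoreMor.fiberMap, Category.assoc, pullback.lift_snd,
          Scheme.Hom.fiberToSpecResidueField, pullback.lift_snd]
    rw [cancel_mono] at hab
    have h3 : t ≫ pullback.fst f f = t ≫ pullback.snd f f := by
      have := congrArg (· ≫ pullback.fst (f ≫ g) (S.fromSpecResidueField (c p))) hab
      simpa [a, b] using this
    have h4 : (t ≫ pullback.fst f f) ≫ pullback.diagonal f = t := by
      apply pullback.hom_ext
      · simp
      · simp [h3]
    refine ⟨pullback.fst f f p, ?_⟩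
    have h5 := congrArg (fun (m : Spec ((pullback f f).residueField p) ⟶ pullback f f) =>
      m (IsLocalRing.closedPoint _)) h4
    simpa [t, Scheme.fromSpecResidueField_apply] using h5
  have : IsIso (pullback.diagonal f) :=
    (isIso_iff_isOpenImmersion_and_surjective _).mpr ⟨h1, h2⟩
  have : Mono f := (pullback.isIso_diagonal_iff f).mp this
  exact IsOpenImmersion.of_flat_of_mono f

theorem surjective_of_fibres (h : ∀ s : S, Surjective (pullback.snd f (g.fiberι s))) :
    Surjective f := by
  refine ⟨fun y => ?_⟩
  obtain ⟨z, hz⟩ := (h (g y)).surj (g.asFiber y)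
  refine ⟨pullback.fst f (g.fiberι (g y)) z, ?_⟩
  rw [← Scheme.Hom.comp_apply, pullback.condition, Scheme.Hom.comp_apply, hz,
    Scheme.Hom.fiberι_asFiber]

theorem isIso_of_fibres [LocallyOfFinitePresentation (f ≫ g)] [LocallyOfFiniteType g]
    [Flat (f ≫ g)] (h : ∀ s : S, IsIso (pullback.snd f (g.fiberι s))) : IsIso f :=
  (isIso_iff_isOpenImmersion_and_surjective _).mpr
    ⟨isOpenImmersion_of_fibres f g fun s => by haveI := h s; infer_instance,
      surjective_of_fibres f g fun s => by haveI := h s; infer_instance⟩

end Groth.Agent.FlatLocus
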