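import Groth.Agent.FlatLocus.Main
import Groth.Agent.FlatLocus.Fibrewise

set_option autoImplicit false
set_option linter.style.haveILetI false
set_option backward.isDefEq.respectTransparency false
set_option backward.defeqAttrib.useBackward true

/-!
# Flatness of localizations at the primes of a lower ring
-/

universe u

open TensorProduct

namespace Groth.Agent.FlatLocus

variable {A C : Type u} [CommRing A] [CommRing C] [Algebra A C] {M : Type u} [AddCommGroup M]
  [Module C M] [Module A M] [IsScalarTower A C M]

/-- A localization is flat when all smaller localizations at primes are. -/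
theorem flat_localized_of_forall_prime {N : Type u} [AddCommGroup N] [Module C N] [Module A N]
    [IsScalarTower A C N] (T : Submonoid C) (g : M →ₗ[C] N) [IsLocalizedModule T g]
    (h : ∀ P : Ideal C, [P.IsPrime] → Disjoint (T : Set C) (P : Set C) →
      Module.Flat A (LocalizedModule P.primeCompl M)) : Module.Flat A N := by
  rw [Module.Flat.iff_lTensor_injective']
  intro I
  refine injective_localized I T g fun z hz => ?_
  let ann : Ideal C := LinearMap.ker (LinearMap.toSpanSingleton C (M ⊗[A] I) z)
  by_contra hcon
  push Not at hcon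
  have hdis : Disjoint (ann : Set C) (T : Set C) :=
    Set.disjoint_left.mpr fun c hc hcT => hcon c hcT hc
  obtain ⟨P, hPp, hle, hP⟩ := Ideal.exists_le_prime_disjoint ann T hdis
  haveI := hPp
  haveI := h P hP.symm
  let gP := LocalizedModule.mkLinearMap P.primeCompl M
  have h1 : AlgebraTensorModule.rTensor A I gP z = 0 := by
    apply Module.Flat.lTensor_preserves_injective_linearMap
      (M := LocalizedModule P.primeCompl M) I.subtype I.subtype_injective
    rw [map_zero]
    show I.subtype.lTensor _ ((gP.restrictScalars A).rTensor I z) = 0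
    rw [← LinearMap.comp_apply, LinearMap.lTensor_comp_rTensor, ← LinearMap.rTensor_comp_lTensor,
      LinearMap.comp_apply, hz, map_zero]
  obtain ⟨t, ht⟩ := (IsLocalizedModule.eq_zero_iff P.primeCompl
    (AlgebraTensorModule.rTensor A I gP)).mp h1
  exact t.2 (hle ht)

/-- A further localization of a flat localization is flat. -/
theorem flat_localized_of_le {N N' : Type u} [AddCommGroup N] [Module C N] [Module A N]
    [IsScalarTower A C N] [AddCommGroup N'] [Module C N'] [Module A N'] [IsScalarTower A C N']
    (T T' : Submonoid C) (hT : T ≤ T') (g : M →ₗ[C] N) [IsLocalizedModule T g]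
    (g' : M →ₗ[C] N') [IsLocalizedModule T' g'] [Module.Flat A N] : Module.Flat A N' := by
  rw [Module.Flat.iff_lTensor_injective']
  intro I
  refine injective_localized I T' g' fun z hz => ?_
  have h1 : AlgebraTensorModule.rTensor A I g z = 0 := by
    apply Module.Flat.lTensor_preserves_injective_linearMap (M := N) I.subtype I.subtype_injective
    rw [map_zero]
    show I.subtype.lTensor _ ((g.restrictScalars A).rTensor I z) = 0
    rw [← LinearMap.comp_apply, LinearMap.lTensor_comp_rTensor, ← LinearMap.rTensor_comp_lTensor,
      LinearMap.comp_apply, hz, map_zero]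
  obtain ⟨t, ht⟩ := (IsLocalizedModule.eq_zero_iff T (AlgebraTensorModule.rTensor A I g)).mp h1
  exact ⟨t, hT t.2, ht⟩

/-- The primes of a lower ring at which a module over an upper ring is flat form an open set. -/
theorem isOpen_flat_locus_below {B : Type u} [CommRing B] [Algebra B C] [Algebra A B]
    [IsScalarTower A B C] [Algebra.FinitePresentation A B] [Algebra.FinitePresentation B C]
    [Module B M] [IsScalarTower B C M] [IsScalarTower A B M] [Module.FinitePresentation C M] :
    IsOpen {q : PrimeSpectrum B | Module.Flat A (LocalizedModule q.asIdeal.primeCompl M)} := by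
  haveI : Algebra.FinitePresentation A C := Algebra.FinitePresentation.trans A B C
  have hU := isOpen_flat_locus (R := A) (S := C) (M := M)
  obtain ⟨s, hs⟩ := (PrimeSpectrum.isOpen_iff _).mp hU
  refine isOpen_iff_forall_mem_open.mpr fun q hq => ?_
  have key : ∀ q : PrimeSpectrum B, Module.Flat A (LocalizedModule q.asIdeal.primeCompl M) ↔
      ∀ P : PrimeSpectrum C, (∀ t ∉ q.asIdeal, algebraMap B C t ∉ P.asIdeal) →
        Module.Flat A (LocalizedModule P.asIdeal.primeCompl M) := by
    intro q
    let T := Algebra.algebraMapSubmonoid C q.asIdeal.primeCompl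
    let g := LocalizedModule.mkLinearMap T M
    haveI : IsLocalizedModule q.asIdeal.primeCompl (g.restrictScalars B) :=
      IsLocalizedModule.restrictScalars _ _
    let e := (IsLocalizedModule.iso q.asIdeal.primeCompl (g.restrictScalars B)).restrictScalars A
    constructor
    · intro h P hP
      haveI : Module.Flat A (LocalizedModule T M) := Module.Flat.of_linearEquiv e.symm
      refine flat_localized_of_le T P.asIdeal.primeCompl ?_ g
        (LocalizedModule.mkLinearMap P.asIdeal.primeCompl M)
      rintro _ ⟨t, ht, rfl⟩
      exact hP t ht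
    · intro h
      haveI : Module.Flat A (LocalizedModule T M) :=
        flat_localized_of_forall_prime T g fun P _ hP => h ⟨P, ‹_›⟩ fun t ht hmem =>
          Set.disjoint_left.mp hP ⟨t, ht, rfl⟩ hmem
      exact Module.Flat.of_linearEquiv e
  have hq' := (key q).mp hq
  obtain ⟨g, hgq, hg⟩ : ∃ g ∉ q.asIdeal, algebraMap B C g ∈ Ideal.span s := by
    by_contra hcon
    push Not at hcon
    obtain ⟨P, hPp, hle, hP⟩ := Ideal.exists_le_prime_disjoint (Ideal.span s)
      (Algebra.algebraMapSubmonoid C q.asIdeal.primeCompl) (Set.disjoint_right.mpr (by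
        rintro _ ⟨t, ht, rfl⟩ hmem
        exact hcon t ht hmem))
    have hflat := hq' ⟨P, hPp⟩ fun t ht hmem =>
      Set.disjoint_left.mp hP hmem ⟨t, ht, rfl⟩
    have : (⟨P, hPp⟩ : PrimeSpectrum C) ∈ PrimeSpectrum.zeroLocus s :=
      (Ideal.span_le.mp hle)
    rw [← hs] at this
    exact this hflat
  refine ⟨PrimeSpectrum.basicOpen g, fun q' hq'' => (key q').mpr fun P hP => ?_,
    (PrimeSpectrum.basicOpen g).2, hgq⟩
  by_contra hnot
  have h1 : P ∈ PrimeSpectrum.zeroLocus s := hs ▸ hnot
  exact hP g hq'' (Ideal.span_le.mpr h1 hg)

end Groth.Agent.FlatLocus
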