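import Groth.Agent.FlatLocus.Descent

set_option autoImplicit false
set_option linter.style.haveILetI false
set_option backward.isDefEq.respectTransparency false
set_option backward.defeqAttrib.useBackward true

/-!
# Openness of the flat locus
-/

universe u

open MvPolynomial Groth.Agent.GenFree

namespace Groth.Agent.FlatLocus

/-- A presentation over a polynomial ring computing flatness of the localizations. -/
theorem exists_presentation {R S M : Type u} [CommRing R] [CommRing S] [Algebra R S]
    [Algebra.FinitePresentation R S] [AddCommGroup M] [Module S M] [Module R M]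
    [IsScalarTower R S M] [Module.FinitePresentation S M] :
    ∃ (n a : ℕ) (π : MvPolynomial (Fin n) R →+* S)
      (K : Submodule (MvPolynomial (Fin n) R) (FreeMod R a n)), K.FG ∧ ∀ q : PrimeSpectrum S,
        (Module.Flat R (LocalizedModule q.asIdeal.primeCompl M) ↔
          PrimeSpectrum.comap π q ∈ flatSet K) ∧
        (Function.Injective ((q.asIdeal.comap (algebraMap R S)).subtype.lTensor
            (LocalizedModule q.asIdeal.primeCompl M)) →
          Rel (PrimeSpectrum.comap π q).asIdeal.primeCompl
            ((PrimeSpectrum.comap π q).asIdeal.comap (C : R →+* MvPolynomial (Fin n) R)) K) := by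
  obtain ⟨n, π, hπ, hker⟩ := Algebra.FinitePresentation.out (R := R) (A := S)
  letI : Algebra (MvPolynomial (Fin n) R) S := π.toRingHom.toAlgebra
  haveI : IsScalarTower R (MvPolynomial (Fin n) R) S :=
    .of_algebraMap_eq fun r => (π.commutes r).symm
  letI : Module (MvPolynomial (Fin n) R) M := Module.compHom M π.toRingHom
  haveI : IsScalarTower (MvPolynomial (Fin n) R) S M := .of_algebraMap_smul fun _ _ => rfl
  haveI : IsScalarTower R (MvPolynomial (Fin n) R) M := .of_algebraMap_smul fun r m => by
    show π (algebraMap R (MvPolynomial (Fin n) R) r) • m = r • m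
    rw [π.commutes, algebraMap_smul]
  haveI : Module.FinitePresentation (MvPolynomial (Fin n) R) S :=
    Module.finitePresentation_of_surjective (Algebra.linearMap (MvPolynomial (Fin n) R) S) hπ hker
  haveI : Module.FinitePresentation (MvPolynomial (Fin n) R) M :=
    Module.FinitePresentation.trans (R := MvPolynomial (Fin n) R) (S := S) (M := M)
  obtain ⟨a, K, e, hK⟩ := Module.FinitePresentation.exists_fin (MvPolynomial (Fin n) R) M
  refine ⟨n, a, π.toRingHom, K, hK, fun q => ?_⟩
  let P := PrimeSpectrum.comap π.toRingHom q
  have hP : Algebra.algebraMapSubmonoid S P.asIdeal.primeCompl = q.asIdeal.primeCompl := by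
    ext x
    constructor
    · rintro ⟨y, hy, rfl⟩; exact hy
    · intro hx
      obtain ⟨y, rfl⟩ := hπ x
      exact ⟨y, hx, rfl⟩
  haveI : IsLocalizedModule (Algebra.algebraMapSubmonoid S P.asIdeal.primeCompl)
      (LocalizedModule.mkLinearMap q.asIdeal.primeCompl M) := by
    rw [hP]; infer_instance
  let g : M →ₗ[MvPolynomial (Fin n) R] LocalizedModule q.asIdeal.primeCompl M :=
    (LocalizedModule.mkLinearMap q.asIdeal.primeCompl M).restrictScalars _
  haveI : IsLocalizedModule P.asIdeal.primeCompl g := IsLocalizedModule.restrictScalars _ _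
  haveI : IsLocalizedModule P.asIdeal.primeCompl (g ∘ₗ e.symm.toLinearMap) :=
    IsLocalizedModule.of_linearEquiv_right _ _ _
  refine ⟨by rw [mem_flatSet_iff]; exact flat_iff_rel K _ (g ∘ₗ e.symm.toLinearMap), fun h => ?_⟩
  have hc : P.asIdeal.comap (C : R →+* MvPolynomial (Fin n) R) =
      q.asIdeal.comap (algebraMap R S) := by
    ext r
    show π (C r) ∈ q.asIdeal ↔ algebraMap R S r ∈ q.asIdeal
    rw [← π.commutes r]
    rfl
  exact rel_of_lTensor_injective K _ (g ∘ₗ e.symm.toLinearMap) _ (by rw [hc]; exact h)

/-- The flat locus of a finitely presented module over a finitely presented algebra is open. -/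
theorem isOpen_flat_locus {R S M : Type u} [CommRing R] [CommRing S] [Algebra R S]
    [Algebra.FinitePresentation R S] [AddCommGroup M] [Module S M] [Module R M]
    [IsScalarTower R S M] [Module.FinitePresentation S M] :
    IsOpen {q : PrimeSpectrum S | Module.Flat R (LocalizedModule q.asIdeal.primeCompl M)} := by
  obtain ⟨n, a, π, K, hK, h⟩ := exists_presentation (R := R) (S := S) (M := M)
  simp_rw [fun q => (h q).1]
  exact (isOpen_flatSet K hK).preimage (PrimeSpectrum.continuous_comap _)

/-- Local criterion of flatness for finitely presented modules over finitely presented algebras. -/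
theorem flat_of_lTensor_injective_fp {R S M : Type u} [CommRing R] [CommRing S] [Algebra R S]
    [Algebra.FinitePresentation R S] [AddCommGroup M] [Module S M] [Module R M]
    [IsScalarTower R S M] [Module.FinitePresentation S M] (q : Ideal S) [hq : q.IsPrime]
    (h : Function.Injective
      ((q.comap (algebraMap R S)).subtype.lTensor (LocalizedModule q.primeCompl M))) :
    Module.Flat R (LocalizedModule q.primeCompl M) := by
  obtain ⟨n, a, π, K, hK, h'⟩ := exists_presentation (R := R) (S := S) (M := M)
  exact (h' ⟨q, hq⟩).1.mpr (mem_flatSet_of_rel_fg K hK _ ((h' ⟨q, hq⟩).2 h))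

end Groth.Agent.FlatLocus
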