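import Groth.Agent.FlatLocus.Syzygy

set_option autoImplicit false
set_option linter.style.haveILetI false
set_option backward.isDefEq.respectTransparency false
set_option backward.defeqAttrib.useBackward true

/-!
# Openness of the locus where a map is injective with flat cokernel
-/

universe u

open MvPolynomial Groth.Agent.GenFree

namespace Groth.Agent.FlatLocus

theorem isOpen_injective_and_flat {R S M' M : Type u} [CommRing R] [CommRing S] [Algebra R S]
    [Algebra.FinitePresentation R S] [AddCommGroup M] [Module S M] [Module R M]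
    [IsScalarTower R S M] [Module.FinitePresentation S M] [AddCommGroup M'] [Module S M']
    [Module.Finite S M'] (u : M' →ₗ[S] M) :
    IsOpen {q : PrimeSpectrum S | (∀ m, u m = 0 → ∃ s ∉ q.asIdeal, s • m = 0) ∧
      Module.Flat R (LocalizedModule q.asIdeal.primeCompl (M ⧸ LinearMap.range u))} := by
  classical
  obtain ⟨n, π, hπ, hker⟩ := Algebra.FinitePresentation.out (R := R) (A := S)
  letI : Algebra (MvPolynomial (Fin n) R) S := π.toRingHom.toAlgebra
  haveI : IsScalarTower R (MvPolynomial (Fin n) R) S :=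
    .of_algebraMap_eq fun r => (π.commutes r).symm
  letI : Module (MvPolynomial (Fin n) R) M := Module.compHom M π.toRingHom
  haveI : IsScalarTower (MvPolynomial (Fin n) R) S M := .of_algebraMap_smul fun _ _ => rfl
  haveI : IsScalarTower R (MvPolynomial (Fin n) R) M := .of_algebraMap_smul fun r m => by
    show π (algebraMap R (MvPolynomial (Fin n) R) r) • m = r • m
    rw [π.commutes, algebraMap_smul]
  letI : Module (MvPolynomial (Fin n) R) M' := Module.compHom M' π.toRingHom
  haveI : IsScalarTower (MvPolynomial (Fin n) R) S M' := .of_algebraMap_smul fun _ _ => rfl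
  haveI : Module.FinitePresentation (MvPolynomial (Fin n) R) S :=
    Module.finitePresentation_of_surjective (Algebra.linearMap (MvPolynomial (Fin n) R) S) hπ hker
  haveI : Module.FinitePresentation (MvPolynomial (Fin n) R) M :=
    Module.FinitePresentation.trans (R := MvPolynomial (Fin n) R) (S := S) (M := M)
  haveI : Module.Finite (MvPolynomial (Fin n) R) M' := Module.Finite.trans S M'
  obtain ⟨a, K, e, hK⟩ := Module.FinitePresentation.exists_fin (MvPolynomial (Fin n) R) M
  obtain ⟨b, ψ, hψ⟩ := Module.Finite.exists_fin' (MvPolynomial (Fin n) R) M'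
  obtain ⟨t, w, hw⟩ := Submodule.fg_iff_exists_fin_generating_family.mp hK
  let φ : FreeMod R a n →ₗ[MvPolynomial (Fin n) R] M := e.symm.toLinearMap ∘ₗ K.mkQ
  have hφ : Function.Surjective φ := e.symm.surjective.comp K.mkQ_surjective
  have hφ0 : ∀ x, φ x = 0 ↔ x ∈ K := fun x => by
    simp [φ]
  let uP := u.restrictScalars (MvPolynomial (Fin n) R)
  choose d hd using fun j : Fin b => hφ (uP (ψ (Pi.single j 1)))
  let v : Fin (t + b) → FreeMod R a n := Fin.append w d
  let μ : FreeMod R (t + b) n →ₗ[MvPolynomial (Fin n) R] M' :=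
    ψ ∘ₗ LinearMap.funLeft _ _ (Fin.natAdd t)
  have hψsum : ∀ x : Fin b → MvPolynomial (Fin n) R, ψ x = ∑ j, x j • ψ (Pi.single j 1) := by
    intro x
    conv_lhs => rw [pi_eq_sum_univ x]
    rw [map_sum]
    refine Finset.sum_congr rfl fun j _ => ?_
    rw [map_smul]
    congr 2
    ext i
    simp [Pi.single_apply, eq_comm]
  have hcomb : ∀ c, φ (combMap v c) = uP (μ c) := by
    intro c
    rw [show μ c = ψ (fun j => c (Fin.natAdd t j)) from rfl, hψsum, map_sum, combMap,
      Fintype.linearCombination_apply, Fin.sum_univ_add, map_add, map_sum, map_sum]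
    simp only [v, Fin.append_left, Fin.append_right, map_smul, hd]
    rw [show ∑ i, c (Fin.castAdd b i) • φ (w i) = 0 from Finset.sum_eq_zero fun i _ => by
      rw [(hφ0 _).mpr (hw ▸ Submodule.subset_span ⟨i, rfl⟩), smul_zero], zero_add]
  have hsurj : ∀ m' x, φ x = uP m' → ∃ c, combMap v c = x ∧ μ c = m' := by
    intro m' x hx
    obtain ⟨y, rfl⟩ := hψ m'
    have hxK : x - ∑ j, y j • d j ∈ K := by
      rw [← hφ0, map_sub, map_sum, hx, hψsum, map_sum]
      simp [hd]
    rw [← hw, Submodule.mem_span_range_iff_exists_fun] at hxK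
    obtain ⟨cw, hcw⟩ := hxK
    refine ⟨Fin.append cw y, ?_, ?_⟩
    · rw [combMap, Fintype.linearCombination_apply, Fin.sum_univ_add]
      simp only [v, Fin.append_left, Fin.append_right, hcw, sub_add_cancel]
    · show ψ (fun j => Fin.append cw y (Fin.natAdd t j)) = ψ y
      simp only [Fin.append_right]
  let K' := Submodule.span (MvPolynomial (Fin n) R) (Set.range v)
  let mk : M →ₗ[MvPolynomial (Fin n) R] M ⧸ LinearMap.range u :=
    (LinearMap.range u).mkQ.restrictScalars (MvPolynomial (Fin n) R)
  have hmk : LinearMap.ker (mk ∘ₗ φ) = K' := by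
    ext x
    rw [LinearMap.mem_ker, show K' = LinearMap.range (combMap v) from (range_combMap v).symm]
    constructor
    · intro h
      obtain ⟨m', hm'⟩ := (Submodule.Quotient.mk_eq_zero _).mp h
      obtain ⟨c, hc, -⟩ := hsurj m' x hm'.symm
      exact ⟨c, hc⟩
    · rintro ⟨c, rfl⟩
      exact (Submodule.Quotient.mk_eq_zero _).mpr ⟨μ c, (hcomb c).symm⟩
  let eC : (FreeMod R a n ⧸ K') ≃ₗ[MvPolynomial (Fin n) R] (M ⧸ LinearMap.range u) :=
    (Submodule.quotEquivOfEq _ _ hmk.symm).trans (LinearMap.quotKerEquivOfSurjective (mk ∘ₗ φ)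
      ((LinearMap.range u).mkQ_surjective.comp hφ))
  have hflat : ∀ q : PrimeSpectrum S,
      Module.Flat R (LocalizedModule q.asIdeal.primeCompl (M ⧸ LinearMap.range u)) ↔
        PrimeSpectrum.comap π.toRingHom q ∈ flatSet K' := by
    intro q
    let P := PrimeSpectrum.comap π.toRingHom q
    have hP : Algebra.algebraMapSubmonoid S P.asIdeal.primeCompl = q.asIdeal.primeCompl := by
      ext x
      constructor
      · rintro ⟨y, hy, rfl⟩; exact hy
      · intro hx
        obtain ⟨y, rfl⟩ := hπ x
        exact ⟨y, hx, rfl⟩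
    haveI : IsLocalizedModule (Algebra.algebraMapSubmonoid S P.asIdeal.primeCompl)
        (LocalizedModule.mkLinearMap q.asIdeal.primeCompl (M ⧸ LinearMap.range u)) := by
      rw [hP]; infer_instance
    let g : (M ⧸ LinearMap.range u) →ₗ[MvPolynomial (Fin n) R]
        LocalizedModule q.asIdeal.primeCompl (M ⧸ LinearMap.range u) :=
      (LocalizedModule.mkLinearMap q.asIdeal.primeCompl _).restrictScalars _
    haveI : IsLocalizedModule P.asIdeal.primeCompl g := IsLocalizedModule.restrictScalars _ _
    haveI : IsLocalizedModule P.asIdeal.primeCompl (g ∘ₗ eC.toLinearMap) :=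
      IsLocalizedModule.of_linearEquiv_right _ _ _
    rw [mem_flatSet_iff]
    exact flat_iff_rel K' _ (g ∘ₗ eC.toLinearMap)
  refine isOpen_iff_forall_mem_open.mpr fun q hq => ?_
  obtain ⟨G, h, hhq, hG, hgen⟩ := exists_syzygy_generators v _ ((hflat q).mp hq.2)
  choose s hs hsm using fun σ (hσ : σ ∈ G) => hq.1 (μ σ) (by
    show uP (μ σ) = 0
    rw [← hcomb, hG σ hσ, map_zero])
  let F := π h * ∏ σ : G, s σ.1 σ.2
  have hFq : F ∉ q.asIdeal := q.asIdeal.primeCompl.mul_mem hhq
    (Submonoid.prod_mem _ fun σ _ => hs σ.1 σ.2)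
  refine ⟨(PrimeSpectrum.basicOpen F : Set (PrimeSpectrum S)) ∩
      PrimeSpectrum.comap π.toRingHom ⁻¹' flatSet K', fun q' hq' => ⟨fun m hm => ?_,
      (hflat q').mpr hq'.2⟩, (PrimeSpectrum.basicOpen F).isOpen.inter
        ((isOpen_flatSet K' (Submodule.fg_span (Set.finite_range v))).preimage
          (PrimeSpectrum.continuous_comap _)),
    hFq, (hflat q).mp hq.2⟩
  obtain ⟨c, hc, rfl⟩ := hsurj m 0 (by rw [map_zero]; exact hm.symm)
  obtain ⟨N, hN⟩ := hgen c hc
  have hkill : ∀ z ∈ Submodule.span (MvPolynomial (Fin n) R) (G : Set (FreeMod R (t + b) n)),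
      (∏ σ : G, s σ.1 σ.2) • μ z = 0 := by
    intro z hz
    induction hz using Submodule.span_induction with
    | mem x hx =>
      rw [← Finset.prod_erase_mul _ _ (Finset.mem_univ (⟨x, hx⟩ : G)), mul_smul, hsm x hx,
        smul_zero]
    | zero => rw [map_zero, smul_zero]
    | add x y _ _ hx hy => rw [map_add, smul_add, hx, hy, add_zero]
    | smul p x _ hx => rw [map_smul, ← algebraMap_smul S p (μ x), smul_comm, hx, smul_zero]
  refine ⟨π (h ^ N) * ∏ σ : G, s σ.1 σ.2, ?_, ?_⟩
  · have hF : F ∉ q'.asIdeal := hq'.1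
    rw [map_pow]
    intro hmem
    rcases q'.isPrime.mem_or_mem hmem with h1 | h1
    · exact hF (Ideal.mul_mem_right _ _ (q'.isPrime.mem_of_pow_mem N h1))
    · exact hF (Ideal.mul_mem_left _ _ h1)
  · rw [mul_comm, mul_smul, show π (h ^ N) • μ c = h ^ N • μ c from rfl, ← map_smul]
    exact hkill _ hN

end Groth.Agent.FlatLocus
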