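import Groth.Agent.FlatLocus.Noeth

set_option autoImplicit false
set_option linter.style.haveILetI false
set_option backward.isDefEq.respectTransparency false
set_option backward.defeqAttrib.useBackward true

/-!
# Descending flatness at a prime to a finitely generated subring
-/

universe u

open MvPolynomial TensorProduct Groth.Agent.GenFree

namespace Groth.Agent.FlatLocus

/-- A matrix over a domain has a generalized inverse up to a nonzero factor. -/
theorem exists_gen_inverse {D : Type u} [CommRing D] [IsDomain D] {U T : Type*} [Fintype U]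
    [Fintype T] [DecidableEq U] [DecidableEq T] (M : Matrix U T D) :
    ∃ h : D, h ≠ 0 ∧ ∃ G : Matrix T U D, M * G * M = h • M := by
  let K := FractionRing D
  let φ : (T → K) →ₗ[K] U → K := Matrix.toLin' (M.map (algebraMap D K))
  obtain ⟨s, hs⟩ := LinearMap.exists_rightInverse_of_surjective φ.rangeRestrict
    φ.range_rangeRestrict
  obtain ⟨ψ, hψ⟩ := LinearMap.exists_extend s
  have hφ : φ ∘ₗ ψ ∘ₗ φ = φ := by
    refine LinearMap.ext fun x => ?_
    have h1 : ψ (φ x) = s (φ.rangeRestrict x) := LinearMap.congr_fun hψ (φ.rangeRestrict x)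
    have h2 := congrArg Subtype.val (LinearMap.congr_fun hs (φ.rangeRestrict x))
    show φ (ψ (φ x)) = φ x
    rw [h1]
    exact h2
  obtain ⟨b, hb⟩ := IsLocalization.exist_integer_multiples_of_finite (nonZeroDivisors D)
    (fun p : T × U => LinearMap.toMatrix' ψ p.1 p.2)
  choose G hG using fun t u => hb (t, u)
  refine ⟨(b : D), nonZeroDivisors.coe_ne_zero b, Matrix.of G, ?_⟩
  apply Matrix.map_injective (IsFractionRing.injective D K)
  have hM : M.map (algebraMap D K) * LinearMap.toMatrix' ψ * M.map (algebraMap D K) =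
      M.map (algebraMap D K) := by
    apply Matrix.toLin'.injective
    rw [Matrix.toLin'_mul, Matrix.toLin'_mul, Matrix.toLin'_toMatrix', LinearMap.comp_assoc]
    exact hφ
  have hG' : (Matrix.of G).map (algebraMap D K) = (b : D) • LinearMap.toMatrix' ψ :=
    Matrix.ext fun t u => hG t u
  dsimp only
  rw [Matrix.map_mul, Matrix.map_mul, hG', Matrix.mul_smul, Matrix.smul_mul, hM]
  ext u t
  simp [Algebra.smul_def]

variable {R0 : Type u} [CommRing R0] {a n : ℕ}

/-- Relations over an extension come from relations modulo `p` over the base. -/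
theorem rel_of_sat {R1 : Type u} [CommRing R1] [Algebra R0 R1]
    (N0 : Submodule (MvPolynomial (Fin n) R0) (FreeMod R0 a n))
    (q : Ideal (MvPolynomial (Fin n) R1)) [q.IsPrime] (p0 : Ideal R0) [p0.IsPrime]
    (hp : (q.comap (C : R1 →+* MvPolynomial (Fin n) R1)).comap (algebraMap R0 R1) = p0)
    (h : ∀ z ∈ N0 ⊓ cf p0, phi R1 z ∈ Sat q.primeCompl
      ((q.comap (C : R1 →+* MvPolynomial (Fin n) R1)).map (C : R1 →+* MvPolynomial (Fin n) R1) •
        locN R1 N0)) :
    Rel q.primeCompl (q.comap (C : R1 →+* MvPolynomial (Fin n) R1)) (locN R1 N0) := by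
  classical
  let p1 := q.comap (C : R1 →+* MvPolynomial (Fin n) R1)
  let L := p1.map (C : R1 →+* MvPolynomial (Fin n) R1) • locN R1 N0
  rintro y ⟨hyN, hyp⟩
  rw [SetLike.mem_coe, mem_cf] at hyp
  obtain ⟨k, c, w, hy⟩ := Submodule.mem_span_set'.mp (mem_span_of_mem_locN R1 N0 hyN)
  choose v hv hvw using fun j => (w j).2
  let U : Finset (Idx a n) := Finset.univ.biUnion fun t => (finite_support (v t)).toFinset
  let D := R0 ⧸ p0
  let M : Matrix U (Fin k) D := Matrix.of fun i t => Ideal.Quotient.mk p0 (co i.1 (v t))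
  obtain ⟨hb, hb0, Gb, hG⟩ := exists_gen_inverse M
  obtain ⟨hh, rfl⟩ := Ideal.Quotient.mk_surjective hb
  choose G hGG using fun t i => Ideal.Quotient.mk_surjective (Gb t i)
  let B : Fin k → Fin k → R0 := fun t j => ∑ i : U, G t i * co i.1 (v j)
  let x : Fin k → FreeMod R0 a n := fun j => hh • v j - ∑ t, B t j • v t
  have hx : ∀ j, x j ∈ N0 ⊓ cf p0 := by
    intro j
    refine ⟨N0.sub_mem (N0.smul_of_tower_mem _ (hv j))
      (N0.sum_mem fun t _ => N0.smul_of_tower_mem _ (hv t)), mem_cf.mpr fun i => ?_⟩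
    by_cases hi : i ∈ U
    · rw [← Ideal.Quotient.eq_zero_iff_mem]
      have h1 : ∑ i' : U, (∑ t, Ideal.Quotient.mk p0 (co i (v t)) * Gb t i') *
          Ideal.Quotient.mk p0 (co i'.1 (v j)) =
          Ideal.Quotient.mk p0 hh * Ideal.Quotient.mk p0 (co i (v j)) :=
        congrFun (congrFun hG ⟨i, hi⟩) j
      simp only [x, B, map_sub, map_sum, map_smul, smul_eq_mul, map_mul, hGG]
      rw [← h1, sub_eq_zero]
      simp only [Finset.sum_mul]
      rw [Finset.sum_comm]
      exact Finset.sum_congr rfl fun t _ => Finset.sum_congr rfl fun i' _ => by ring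
    · have h0 : ∀ t, co i (v t) = 0 := fun t => by
        by_contra hne
        exact hi (Finset.mem_biUnion.mpr
          ⟨t, Finset.mem_univ _, (finite_support (v t)).mem_toFinset.mpr hne⟩)
      simp [x, h0]
  have hcoef : ∀ t, ∑ j, c j * algebraMap R0 R1 (B t j) ∈ p1 := by
    intro t
    have h1 : ∑ j, c j * algebraMap R0 R1 (B t j) =
        ∑ i : U, algebraMap R0 R1 (G t i) * co i.1 y := by
      simp only [B, map_sum, map_mul, Finset.mul_sum, ← hy, map_smul, ← hvw, co_phi, smul_eq_mul]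
      rw [Finset.sum_comm]
      exact Finset.sum_congr rfl fun i _ => Finset.sum_congr rfl fun j _ => by ring
    rw [h1]
    exact p1.sum_mem fun i _ => p1.mul_mem_left _ (hyp _)
  have key : algebraMap R0 R1 hh • y =
      ∑ j, c j • phi R1 (x j) + ∑ t, (∑ j, c j * algebraMap R0 R1 (B t j)) • phi R1 (v t) := by
    have h1 : ∀ j, phi R1 (x j) = algebraMap R0 R1 hh • phi R1 (v j) -
        ∑ t, algebraMap R0 R1 (B t j) • phi R1 (v t) := fun j => by
      simp only [x, map_sub, map_sum, map_smul, algebraMap_smul]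
    simp only [h1, smul_sub, Finset.sum_sub_distrib, Finset.smul_sum, Finset.sum_smul, smul_smul]
    rw [Finset.sum_comm (γ := Fin k) (f := fun j t => (c j * algebraMap R0 R1 (B t j)) • phi R1 (v t)),
      sub_add_cancel, ← hy, Finset.smul_sum]
    exact Finset.sum_congr rfl fun j _ => by rw [smul_smul, mul_comm, hvw]
  refine mem_sat_of_smul (s := C (algebraMap R0 R1 hh)) (fun hmem => hb0 ?_) ?_
  · rw [Ideal.Quotient.eq_zero_iff_mem, ← hp]
    exact hmem
  · rw [show (C (algebraMap R0 R1 hh) : MvPolynomial (Fin n) R1) • y = algebraMap R0 R1 hh • y from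
      algebraMap_smul (MvPolynomial (Fin n) R1) (algebraMap R0 R1 hh) y, key]
    refine Submodule.add_mem _ (Submodule.sum_mem _ fun j _ =>
      Submodule.smul_of_tower_mem _ _ (h _ (hx j))) (Submodule.sum_mem _ fun t _ => le_sat _ _ ?_)
    rw [← algebraMap_smul (MvPolynomial (Fin n) R1)]
    exact Submodule.smul_mem_smul (Ideal.mem_map_of_mem _ (hcoef t)) (phi_mem R1 N0 (hv t))

variable {R : Type u} [CommRing R] [Algebra R0 R]

theorem exists_map_eq (S : Subalgebra R0 R) (s : MvPolynomial (Fin n) R)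
    (h : ∀ m, coeff m s ∈ S) : ∃ s1, MvPolynomial.map (algebraMap S R) s1 = s := by
  classical
  refine ⟨∑ m ∈ s.support, monomial m (⟨coeff m s, h m⟩ : S), ?_⟩
  rw [map_sum]
  simp only [map_monomial]
  exact s.as_sum.symm

theorem phi_phi {A : Type u} [CommRing A] [Algebra R0 A] [Algebra A R] [IsScalarTower R0 A R]
    (v : FreeMod R0 a n) : phi R (phi A v) = phi R v :=
  ext_co fun i => by rw [co_phi, co_phi, co_phi, ← IsScalarTower.algebraMap_apply]

theorem locN_locN (A : Type u) [CommRing A] [Algebra R0 A] [Algebra A R] [IsScalarTower R0 A R]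
    (N0 : Submodule (MvPolynomial (Fin n) R0) (FreeMod R0 a n)) :
    locN R (locN A N0) = locN R N0 := by
  refine le_antisymm (Submodule.span_le.mpr ?_) (Submodule.span_le.mpr ?_)
  · rintro _ ⟨v, hv, rfl⟩
    induction hv using Submodule.span_induction with
    | mem x hx =>
      obtain ⟨u, hu, rfl⟩ := hx
      rw [phi_phi]
      exact phi_mem R N0 hu
    | zero => rw [map_zero]; exact Submodule.zero_mem _
    | add x y _ _ hx hy => rw [map_add]; exact Submodule.add_mem _ hx hy
    | smul p x _ hx => rw [phi_smul]; exact Submodule.smul_mem _ _ hx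
  · rintro _ ⟨v, hv, rfl⟩
    rw [← phi_phi (A := A) v]
    exact phi_mem R _ (phi_mem A N0 hv)

/-- Flatness at a prime over a noetherian subring containing enough coefficients. -/
theorem mem_flatSet_of_data (A : Type u) [CommRing A] [Algebra R0 A] [Algebra A R]
    [IsScalarTower R0 A R] [IsNoetherianRing A] (hinj : Function.Injective (algebraMap A R))
    (N0 : Submodule (MvPolynomial (Fin n) R0) (FreeMod R0 a n))
    (q : PrimeSpectrum (MvPolynomial (Fin n) R)) (p0 : Ideal R0) [p0.IsPrime]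
    (hp : (q.asIdeal.comap (C : R →+* MvPolynomial (Fin n) R)).comap (algebraMap R0 R) = p0)
    (Z : Finset (FreeMod R0 a n))
    (hZ : Submodule.span (MvPolynomial (Fin n) R0) (Z : Set (FreeMod R0 a n)) = N0 ⊓ cf p0)
    (h : ∀ z ∈ Z, ∃ s1 : MvPolynomial (Fin n) A, MvPolynomial.map (algebraMap A R) s1 ∉ q.asIdeal ∧
      ∃ (k : ℕ) (c : Fin k → A) (v : Fin k → FreeMod R0 a n),
        (∀ j, v j ∈ N0 ∧ (C (algebraMap A R (c j)) : MvPolynomial (Fin n) R) ∈ q.asIdeal) ∧
          MvPolynomial.map (algebraMap A R) s1 • phi R z =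
            ∑ j, algebraMap A R (c j) • phi R (v j)) :
    PrimeSpectrum.comap (MvPolynomial.map (algebraMap A R)) q ∈ flatSet (locN A N0) := by
  let q1 := PrimeSpectrum.comap (MvPolynomial.map (algebraMap A R)) q
  refine mem_flatSet_of_rel (rel_of_sat N0 q1.asIdeal p0 ?_ ?_)
  · rw [← hp]
    ext x
    show MvPolynomial.map (algebraMap A R) (C (algebraMap R0 A x)) ∈ q.asIdeal ↔
      C (algebraMap R0 R x) ∈ q.asIdeal
    rw [map_C, ← IsScalarTower.algebraMap_apply]
  intro z hz
  rw [← hZ] at hz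
  induction hz using Submodule.span_induction with
  | zero => rw [map_zero]; exact Submodule.zero_mem _
  | add x y _ _ hx hy => rw [map_add]; exact Submodule.add_mem _ hx hy
  | smul p x _ hx => rw [phi_smul]; exact Submodule.smul_mem _ _ hx
  | mem z hz =>
    obtain ⟨s1, hs, k, c, v, hv, hsum⟩ := h z hz
    refine ⟨s1, hs, ?_⟩
    have he : s1 • phi A z = ∑ j, c j • phi A (v j) := by
      refine ext_co fun i => hinj ?_
      rw [← co_phi, ← co_phi, phi_smul, phi_phi, hsum, map_sum]
      simp only [map_sum, map_smul, phi_phi, algebraMap_smul]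
    rw [he]
    refine Submodule.sum_mem _ fun j _ => ?_
    rw [← algebraMap_smul (MvPolynomial (Fin n) A) (c j)]
    refine Submodule.smul_mem_smul (Ideal.mem_map_of_mem _ ?_) (phi_mem A N0 (hv j).1)
    show MvPolynomial.map (algebraMap A R) (C (c j)) ∈ q.asIdeal
    rw [map_C]
    exact (hv j).2

/-- Flatness at a prime descends to a finitely generated subring. -/
theorem exists_subalgebra [IsNoetherianRing R0]
    (N0 : Submodule (MvPolynomial (Fin n) R0) (FreeMod R0 a n))
    (q : PrimeSpectrum (MvPolynomial (Fin n) R))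
    (hq : Rel q.asIdeal.primeCompl (q.asIdeal.comap (C : R →+* MvPolynomial (Fin n) R))
      (locN R N0)) :
    ∃ S : Subalgebra R0 R, S.FG ∧
      PrimeSpectrum.comap (MvPolynomial.map (algebraMap S R)) q ∈ flatSet (locN S N0) := by
  classical
  let p0 := (q.asIdeal.comap (C : R →+* MvPolynomial (Fin n) R)).comap (algebraMap R0 R)
  obtain ⟨Z, hZ⟩ := IsNoetherian.noetherian (N0 ⊓ cf p0)
  have hgen : ∀ z ∈ Z, ∃ s ∉ q.asIdeal, ∃ (k : ℕ) (c : Fin k → R) (v : Fin k → FreeMod R0 a n),
      (∀ j, v j ∈ N0 ∧ (C (c j) : MvPolynomial (Fin n) R) ∈ q.asIdeal) ∧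
        s • phi R z = ∑ j, c j • phi R (v j) := by
    intro z hz
    obtain ⟨hzN, hzp⟩ : z ∈ N0 ⊓ cf p0 := hZ ▸ Submodule.subset_span hz
    rw [SetLike.mem_coe, mem_cf] at hzp
    obtain ⟨s, hs, hsz⟩ := hq
      (show phi R z ∈ locN R N0 ⊓ cf (q.asIdeal.comap (C : R →+* MvPolynomial (Fin n) R)) from
        ⟨phi_mem R N0 hzN, mem_cf.mpr fun i => by rw [co_phi]; exact hzp i⟩)
    have h2 : s • phi R z ∈ (q.asIdeal.comap (C : R →+* MvPolynomial (Fin n) R)) •
        Submodule.span R (phi R '' (N0 : Set (FreeMod R0 a n))) := by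
      refine Submodule.smul_mono le_rfl
        (show (locN R N0).restrictScalars R ≤ _ from fun x hx => mem_span_of_mem_locN R N0 hx) ?_
      rw [← Submodule.restrictScalars_map_smul_eq (R := MvPolynomial (Fin n) R)]
      exact hsz
    obtain ⟨f, hf, hfz⟩ := (Submodule.mem_ideal_smul_span_iff_exists_sum' _ _ _ _).mp h2
    classical
    refine ⟨s, hs, f.support.card, fun j => f (f.support.equivFin.symm j).1,
      fun j => ((f.support.equivFin.symm j).1 : FreeMod R0 a n),
      fun j => ⟨(f.support.equivFin.symm j).1.2, hf _⟩, ?_⟩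
    rw [← hfz, Finsupp.sum, ← Finset.sum_coe_sort, ← f.support.equivFin.symm.sum_comp]
  choose s hs k c v hv hsum using hgen
  obtain ⟨cs, hcs⟩ : ∃ cs : Finset R, ∀ z (hz : z ∈ Z),
      (∀ m, coeff m (s z hz) = 0 ∨ coeff m (s z hz) ∈ cs) ∧ ∀ j, c z hz j ∈ cs := by
    refine ⟨Z.attach.biUnion fun z => (s z.1 z.2).support.image (fun m => coeff m (s z.1 z.2)) ∪
      Finset.univ.image (c z.1 z.2), fun z hz => ⟨fun m => ?_, fun j => ?_⟩⟩
    · exact or_iff_not_imp_left.mpr fun hm => Finset.mem_biUnion.mpr ⟨⟨z, hz⟩,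
        Finset.mem_attach _ _, Finset.mem_union_left _
          (Finset.mem_image_of_mem _ (mem_support_iff.mpr hm))⟩
    · exact Finset.mem_biUnion.mpr ⟨⟨z, hz⟩, Finset.mem_attach _ _,
        Finset.mem_union_right _ (Finset.mem_image_of_mem _ (Finset.mem_univ j))⟩
  obtain ⟨S, hS, hmem⟩ : ∃ S : Subalgebra R0 R, S.FG ∧ ∀ r ∈ cs, r ∈ S :=
    ⟨Algebra.adjoin R0 (cs : Set R), Subalgebra.fg_adjoin_finset cs,
      fun r hr => Algebra.subset_adjoin hr⟩
  haveI : IsNoetherianRing S := isNoetherianRing_of_fg hS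
  refine ⟨S, hS, mem_flatSet_of_data S Subtype.val_injective N0 q p0 rfl Z hZ fun z hz => ?_⟩
  obtain ⟨s1, hs1⟩ := exists_map_eq S (s z hz) fun m => (hcs z hz).1 m |>.elim
    (fun h => by rw [h]; exact S.zero_mem) (hmem _)
  refine ⟨s1, by rw [hs1]; exact hs z hz, k z hz,
    fun j => ⟨c z hz j, hmem _ ((hcs z hz).2 j)⟩, v z hz, hv z hz, ?_⟩
  rw [hs1]
  exact hsum z hz

theorem mem_flatSet_of_comap (A : Type u) [CommRing A] [Algebra A R]
    (N1 : Submodule (MvPolynomial (Fin n) A) (FreeMod A a n))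
    (q : PrimeSpectrum (MvPolynomial (Fin n) R))
    (hq : PrimeSpectrum.comap (MvPolynomial.map (algebraMap A R)) q ∈ flatSet N1) :
    q ∈ flatSet (locN R N1) := by
  rw [mem_flatSet_iff]
  intro I
  haveI : Module.Flat A (LocalizedModule
      (PrimeSpectrum.comap (MvPolynomial.map (algebraMap A R)) q).asIdeal.primeCompl
      (FreeMod A a n ⧸ N1)) := hq
  have h := rel_of_flat R N1
    (PrimeSpectrum.comap (MvPolynomial.map (algebraMap A R)) q).asIdeal.primeCompl
    (LocalizedModule.mkLinearMap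
    (PrimeSpectrum.comap (MvPolynomial.map (algebraMap A R)) q).asIdeal.primeCompl
    (FreeMod A a n ⧸ N1)) I
  exact h.mono (by rintro _ ⟨t, ht, rfl⟩; exact ht)

theorem isOpen_flatSet_locN [IsNoetherianRing R0]
    (N0 : Submodule (MvPolynomial (Fin n) R0) (FreeMod R0 a n)) :
    IsOpen (flatSet (locN R N0)) := by
  refine isOpen_iff_forall_mem_open.mpr fun q hq => ?_
  obtain ⟨S, hS, hq1⟩ := exists_subalgebra N0 q (mem_flatSet_iff.mp hq _)
  haveI : IsNoetherianRing S := isNoetherianRing_of_fg hS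
  refine ⟨PrimeSpectrum.comap (MvPolynomial.map (algebraMap S R)) ⁻¹' flatSet (locN S N0),
    fun q' hq' => ?_,
    (isOpen_flatSet_noeth (locN S N0)).preimage (PrimeSpectrum.continuous_comap _), hq1⟩
  rw [← locN_locN S N0]
  exact mem_flatSet_of_comap S _ q' hq'

theorem exists_locN_eq (A : Type u) [CommRing A] [Algebra A R]
    (N : Submodule (MvPolynomial (Fin n) R) (FreeMod R a n)) (G : Set (FreeMod R a n))
    (hG : Submodule.span (MvPolynomial (Fin n) R) G = N)
    (h : ∀ g ∈ G, ∀ i, ∃ x : A, algebraMap A R x = co i g) :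
    ∃ N0 : Submodule (MvPolynomial (Fin n) A) (FreeMod A a n), locN R N0 = N := by
  classical
  refine ⟨Submodule.span _ {v | phi R v ∈ G}, le_antisymm (Submodule.span_le.mpr ?_) ?_⟩
  · rintro _ ⟨v, hv, rfl⟩
    induction hv using Submodule.span_induction with
    | mem x hx => exact hG ▸ Submodule.subset_span hx
    | zero => rw [map_zero]; exact Submodule.zero_mem _
    | add x y _ _ hx hy => rw [map_add]; exact Submodule.add_mem _ hx hy
    | smul p x _ hx => rw [phi_smul]; exact Submodule.smul_mem _ _ hx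
  · rw [← hG, Submodule.span_le]
    intro g hg
    choose x hx using h g hg
    let v : FreeMod A a n := ∑ i ∈ (finite_support g).toFinset, x i • single i
    have hv : phi R v = g := by
      have h1 : ∀ i, phi R (x i • single i : FreeMod A a n) = co i g • single i := fun i => by
        rw [map_smul, phi_single, ← hx i, algebraMap_smul]
      simp only [v, map_sum, h1]
      exact (eq_sum_single g fun i hi => (finite_support g).mem_toFinset.mpr hi).symm
    rw [SetLike.mem_coe, ← hv]
    exact phi_mem R _ (Submodule.subset_span (show phi R v ∈ G from hv ▸ hg))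

theorem exists_base (N : Submodule (MvPolynomial (Fin n) R) (FreeMod R a n)) (hN : N.FG) :
    ∃ (S : Subalgebra ℤ R) (N0 : Submodule (MvPolynomial (Fin n) S) (FreeMod S a n)),
      IsNoetherianRing S ∧ locN R N0 = N := by
  classical
  obtain ⟨G, hG⟩ := hN
  obtain ⟨cs, hcs⟩ : ∃ cs : Finset R, ∀ g ∈ G, ∀ i, co i g = 0 ∨ co i g ∈ cs :=
    ⟨G.biUnion fun g => (finite_support g).toFinset.image fun i => co i g, fun g hg i =>
      or_iff_not_imp_left.mpr fun hi => Finset.mem_biUnion.mpr
        ⟨g, hg, Finset.mem_image_of_mem _ ((finite_support g).mem_toFinset.mpr hi)⟩⟩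
  obtain ⟨S, hS, hmem⟩ : ∃ S : Subalgebra ℤ R, S.FG ∧ ∀ r ∈ cs, r ∈ S :=
    ⟨Algebra.adjoin ℤ (cs : Set R), Subalgebra.fg_adjoin_finset cs,
      fun r hr => Algebra.subset_adjoin hr⟩
  obtain ⟨N0, h⟩ := exists_locN_eq S N G hG fun g hg i =>
    ⟨⟨co i g, (hcs g hg i).elim (fun h => h ▸ S.zero_mem) (hmem _)⟩, rfl⟩
  exact ⟨S, N0, isNoetherianRing_of_fg hS, h⟩

/-- Flatness only needs the relations at one ideal. -/
theorem mem_flatSet_of_rel_fg (N : Submodule (MvPolynomial (Fin n) R) (FreeMod R a n)) (hN : N.FG)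
    (q : PrimeSpectrum (MvPolynomial (Fin n) R))
    (h : Rel q.asIdeal.primeCompl (q.asIdeal.comap (C : R →+* MvPolynomial (Fin n) R)) N) :
    q ∈ flatSet N := by
  obtain ⟨S0, N0, hS0, rfl⟩ := exists_base N hN
  haveI := hS0
  obtain ⟨S, -, hq1⟩ := exists_subalgebra N0 q h
  rw [← locN_locN S N0]
  exact mem_flatSet_of_comap S _ q hq1

/-- The flat locus is open. -/
theorem isOpen_flatSet (N : Submodule (MvPolynomial (Fin n) R) (FreeMod R a n)) (hN : N.FG) :
    IsOpen (flatSet N) := by
  obtain ⟨S, N0, hS, rfl⟩ := exists_base N hN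
  haveI := hS
  exact isOpen_flatSet_locN N0

end Groth.Agent.FlatLocus
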