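import Mathlib
import Groth.Agent.GenFree.Main

set_option autoImplicit false
set_option linter.style.haveILetI false
set_option backward.isDefEq.respectTransparency false
set_option backward.defeqAttrib.useBackward true

/-!
# Relations detecting flatness of localized quotients of free modules
-/

universe u

open MvPolynomial TensorProduct Groth.Agent.GenFree

namespace Groth.Agent.FlatLocus

variable {R : Type u} [CommRing R] {a n : ℕ}

/-- Vectors with all coefficients in `I`. -/
noncomputable def cf (I : Ideal R) : Submodule (MvPolynomial (Fin n) R) (FreeMod R a n) :=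
  Submodule.pi Set.univ fun _ => I.map (C : R →+* MvPolynomial (Fin n) R)

theorem mem_cf {I : Ideal R} {v : FreeMod R a n} : v ∈ cf I ↔ ∀ i, co i v ∈ I := by
  simp only [cf, Submodule.mem_pi, Set.mem_univ, forall_true_left, mem_map_C_iff, co_apply,
    Prod.forall]

/-- Saturation of a submodule. -/
def Sat {B M : Type u} [CommRing B] [AddCommGroup M] [Module B M] (T : Submonoid B)
    (L : Submodule B M) : Submodule B M where
  carrier := {y | ∃ s ∈ T, s • y ∈ L}
  zero_mem' := ⟨1, T.one_mem, by rw [smul_zero]; exact L.zero_mem⟩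
  add_mem' := by
    rintro x y ⟨s, hs, hx⟩ ⟨t, ht, hy⟩
    refine ⟨s * t, T.mul_mem hs ht, ?_⟩
    rw [smul_add]
    refine L.add_mem ?_ ?_
    · rw [mul_comm, mul_smul]; exact L.smul_mem _ hx
    · rw [mul_smul]; exact L.smul_mem _ hy
  smul_mem' := by
    rintro c x ⟨s, hs, hx⟩
    exact ⟨s, hs, by rw [smul_comm]; exact L.smul_mem _ hx⟩

theorem mem_sat {B M : Type u} [CommRing B] [AddCommGroup M] [Module B M] {T : Submonoid B}
    {L : Submodule B M} {y : M} : y ∈ Sat T L ↔ ∃ s ∈ T, s • y ∈ L := Iff.rfl

theorem le_sat {B M : Type u} [CommRing B] [AddCommGroup M] [Module B M] (T : Submonoid B)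
    (L : Submodule B M) : L ≤ Sat T L := fun y hy => ⟨1, T.one_mem, by rwa [one_smul]⟩

theorem mem_sat_of_smul {B M : Type u} [CommRing B] [AddCommGroup M] [Module B M] {T : Submonoid B}
    {L : Submodule B M} {y : M} {s : B} (hs : s ∈ T) (hy : s • y ∈ Sat T L) : y ∈ Sat T L := by
  obtain ⟨t, ht, hty⟩ := hy
  exact ⟨t * s, T.mul_mem ht hs, by rwa [mul_smul]⟩

theorem sat_mono {B M : Type u} [CommRing B] [AddCommGroup M] [Module B M] {T T' : Submonoid B}
    (hT : T ≤ T') {L L' : Submodule B M} (hL : L ≤ L') : Sat T L ≤ Sat T' L' :=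
  fun _ ⟨s, hs, hy⟩ => ⟨s, hT hs, hL hy⟩

/-- Every relation with coefficients in `I` lies in `I N` after localization at `T`. -/
def Rel (T : Submonoid (MvPolynomial (Fin n) R)) (I : Ideal R)
    (N : Submodule (MvPolynomial (Fin n) R) (FreeMod R a n)) : Prop :=
  N ⊓ cf I ≤ Sat T (I.map (C : R →+* MvPolynomial (Fin n) R) • N)

theorem Rel.mono {T T' : Submonoid (MvPolynomial (Fin n) R)} {I : Ideal R}
    {N : Submodule (MvPolynomial (Fin n) R) (FreeMod R a n)} (h : Rel T I N) (hT : T ≤ T') :
    Rel T' I N :=
  h.trans (sat_mono hT le_rfl)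

theorem eq_sum_single (v : FreeMod R a n) {s : Finset (Idx a n)}
    (hs : ∀ i, co i v ≠ 0 → i ∈ s) : v = ∑ i ∈ s, co i v • single i := by
  classical
  refine ext_co fun j => ?_
  simp only [map_sum, map_smul, co_single, smul_eq_mul, mul_ite, mul_one, mul_zero,
    Finset.sum_ite_eq']
  split_ifs with h
  · rfl
  · by_contra h'
    exact h (hs j h')

section Alg

variable (A : Type u) [CommRing A] [Algebra R A]

theorem phi_single (i : Idx a n) : phi A (single i : FreeMod R a n) = single i := by
  classical
  refine ext_co fun j => ?_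
  rw [co_phi, co_single, co_single]
  split_ifs <;> simp

theorem span_phi_mul (N : Submodule (MvPolynomial (Fin n) R) (FreeMod R a n))
    {x : FreeMod A a n} (hx : x ∈ Submodule.span A (phi A '' (N : Set (FreeMod R a n))))
    (p : MvPolynomial (Fin n) A) :
    p • x ∈ Submodule.span A (phi A '' (N : Set (FreeMod R a n))) := by
  induction p using MvPolynomial.induction_on generalizing x with
  | C c =>
    rw [show (C c : MvPolynomial (Fin n) A) • x = c • x by
      rw [← algebraMap_smul (MvPolynomial (Fin n) A) c x]; rfl]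
    exact Submodule.smul_mem _ _ hx
  | add p q hp hq => rw [add_smul]; exact add_mem (hp hx) (hq hx)
  | mul_X p i hp =>
    rw [mul_smul]
    refine hp ?_
    induction hx using Submodule.span_induction with
    | mem y hy =>
      obtain ⟨v, hv, rfl⟩ := hy
      refine Submodule.subset_span ⟨(X i : MvPolynomial (Fin n) R) • v, N.smul_mem _ hv, ?_⟩
      rw [phi_smul, map_X]
    | zero => rw [smul_zero]; exact zero_mem _
    | add y z _ _ hy hz => rw [smul_add]; exact add_mem hy hz
    | smul c y _ hy => rw [smul_comm]; exact Submodule.smul_mem _ _ hy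

theorem mem_span_of_mem_locN (N : Submodule (MvPolynomial (Fin n) R) (FreeMod R a n))
    {x : FreeMod A a n} (hx : x ∈ locN A N) :
    x ∈ Submodule.span A (phi A '' (N : Set (FreeMod R a n))) := by
  induction hx using Submodule.span_induction with
  | mem x hx => exact Submodule.subset_span hx
  | zero => exact zero_mem _
  | add x y _ _ hx hy => exact add_mem hx hy
  | smul p x _ hx => exact span_phi_mul A N hx p

theorem locN_self (N : Submodule (MvPolynomial (Fin n) R) (FreeMod R a n)) : locN R N = N := by
  have h : ∀ v : FreeMod R a n, phi R v = v := fun v => ext_co fun i => by rw [co_phi]; rfl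
  rw [locN, Set.image_congr fun v _ => h v, Set.image_id', Submodule.span_eq]

/-- Coefficient extension as a map out of a tensor product. -/
noncomputable def extMap : FreeMod R a n ⊗[R] A →ₗ[R] FreeMod A a n :=
  TensorProduct.lift (LinearMap.mk₂ R (fun v c => c • phi A v)
    (fun v w c => by rw [map_add, smul_add])
    (fun r v c => by rw [map_smul, smul_comm])
    (fun v c d => by rw [add_smul])
    (fun r v c => by rw [smul_assoc]))

@[simp] theorem extMap_tmul (v : FreeMod R a n) (c : A) :
    extMap A (v ⊗ₜ c) = c • phi A v := rfl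

theorem extMap_smul (p : MvPolynomial (Fin n) R) (z : FreeMod R a n ⊗[R] A) :
    extMap A (p • z) = MvPolynomial.map (algebraMap R A) p • extMap A z := by
  induction z using TensorProduct.induction_on with
  | zero => simp
  | tmul v c => rw [TensorProduct.smul_tmul', extMap_tmul, extMap_tmul, phi_smul, smul_comm]
  | add x y hx hy => rw [smul_add, map_add, map_add, hx, hy, smul_add]

theorem extMap_expand (z : FreeMod R a n ⊗[R] A) :
    ∃ s : Finset (Idx a n), ∀ s', s ⊆ s' →
      z = ∑ i ∈ s', single i ⊗ₜ[R] co i (extMap A z) := by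
  classical
  induction z using TensorProduct.induction_on with
  | zero => exact ⟨∅, fun s' _ => by simp⟩
  | tmul v c =>
    refine ⟨(finite_support v).toFinset, fun s' hs' => ?_⟩
    conv_lhs => rw [eq_sum_single v fun i hi => hs' ((finite_support v).mem_toFinset.mpr hi)]
    rw [TensorProduct.sum_tmul]
    refine Finset.sum_congr rfl fun i _ => ?_
    rw [TensorProduct.smul_tmul, extMap_tmul, map_smul, co_phi, Algebra.smul_def, smul_eq_mul,
      mul_comm]
  | add x y hx hy =>
    obtain ⟨s, hs⟩ := hx
    obtain ⟨t, ht⟩ := hy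
    refine ⟨s ∪ t, fun s' hs' => ?_⟩
    conv_lhs => rw [hs s' (Finset.union_subset_left hs'), ht s' (Finset.union_subset_right hs')]
    simp only [map_add, TensorProduct.tmul_add, Finset.sum_add_distrib]

theorem extMap_injective : Function.Injective (extMap A : FreeMod R a n ⊗[R] A → _) := by
  rw [injective_iff_map_eq_zero]
  intro z hz
  obtain ⟨s, hs⟩ := extMap_expand A z
  rw [hs s subset_rfl, hz]
  simp

/-- Injectivity at an ideal for a localization gives relations after extending scalars. -/
theorem rel_of_injective (N : Submodule (MvPolynomial (Fin n) R) (FreeMod R a n))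
    (T : Submonoid (MvPolynomial (Fin n) R)) {M' : Type u} [AddCommGroup M']
    [Module (MvPolynomial (Fin n) R) M'] [Module R M'] [IsScalarTower R (MvPolynomial (Fin n) R) M']
    (g : (FreeMod R a n ⧸ N) →ₗ[MvPolynomial (Fin n) R] M') [IsLocalizedModule T g]
    (I : Ideal A) (hinjI : Function.Injective ((I.restrictScalars R).subtype.lTensor M')) :
    Rel (T.map (MvPolynomial.map (algebraMap R A))) I (locN A N) := by
  classical
  rintro y ⟨hyN, hyI⟩
  rw [SetLike.mem_coe, mem_cf] at hyI
  let I' : Submodule R A := I.restrictScalars R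
  let s := (finite_support y).toFinset
  let zt : FreeMod R a n ⊗[R] I' := ∑ i ∈ s, single i ⊗ₜ[R] (⟨co i y, hyI i⟩ : I')
  have hys : extMap A (I'.subtype.lTensor _ zt) = y := by
    simp only [zt, map_sum, LinearMap.lTensor_tmul, Submodule.subtype_apply, extMap_tmul, phi_single]
    exact (eq_sum_single y fun i hi => (finite_support y).mem_toFinset.mpr hi).symm
  obtain ⟨w, hw⟩ : ∃ w : N ⊗[R] A,
      extMap A ((N.subtype.restrictScalars R).rTensor A w) = y := by
    obtain ⟨k, c, v, hv⟩ := Submodule.mem_span_set'.mp (mem_span_of_mem_locN A N hyN)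
    choose u hu hu' using fun j => (v j).2
    refine ⟨∑ j, (⟨u j, hu j⟩ : N) ⊗ₜ[R] c j, ?_⟩
    simp only [map_sum, LinearMap.rTensor_tmul, LinearMap.coe_restrictScalars,
      Submodule.subtype_apply, extMap_tmul, hu']
    exact hv
  let q := N.mkQ.restrictScalars R
  have hex : Function.Exact (N.subtype.restrictScalars R) q := LinearMap.exact_subtype_mkQ N
  have h0 : I'.subtype.lTensor _ (q.rTensor I' zt) = 0 := by
    rw [← LinearMap.comp_apply, LinearMap.lTensor_comp_rTensor, ← LinearMap.rTensor_comp_lTensor,
      LinearMap.comp_apply, extMap_injective A (hys.trans hw.symm)]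
    exact (rTensor_exact A hex N.mkQ_surjective).apply_apply_eq_zero w
  have h1 : (AlgebraTensorModule.rTensor R I' g) (q.rTensor I' zt) = 0 := by
    refine hinjI ?_
    rw [map_zero]
    show I'.subtype.lTensor M' ((g.restrictScalars R).rTensor I' (q.rTensor I' zt)) = 0
    rw [← LinearMap.comp_apply, LinearMap.lTensor_comp_rTensor, ← LinearMap.rTensor_comp_lTensor,
      LinearMap.comp_apply, h0, map_zero]
  obtain ⟨t, ht⟩ := (IsLocalizedModule.eq_zero_iff T (AlgebraTensorModule.rTensor R I' g)).mp h1
  have h2 : q.rTensor I' ((t : MvPolynomial (Fin n) R) • zt) = 0 := by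
    show AlgebraTensorModule.rTensor R I' N.mkQ _ = 0
    rw [map_smul]
    exact ht
  obtain ⟨w', hw'⟩ := (rTensor_exact I' hex N.mkQ_surjective _).mp h2
  refine ⟨_, ⟨t, t.2, rfl⟩, ?_⟩
  rw [← hys, ← extMap_smul, ← AlgebraTensorModule.coe_lTensor (A := MvPolynomial (Fin n) R),
    ← map_smul, AlgebraTensorModule.coe_lTensor, ← hw']
  clear hw'
  induction w' using TensorProduct.induction_on with
  | zero => simp
  | tmul v c =>
    rw [LinearMap.rTensor_tmul, LinearMap.lTensor_tmul, extMap_tmul,
      ← algebraMap_smul (MvPolynomial (Fin n) A) (I'.subtype c)]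
    exact Submodule.smul_mem_smul (Ideal.mem_map_of_mem _ c.2) (phi_mem A N v.2)
  | add x y hx hy => simp only [map_add]; exact add_mem hx hy

/-- Flatness of a localization gives relations after extending scalars. -/
theorem rel_of_flat (N : Submodule (MvPolynomial (Fin n) R) (FreeMod R a n))
    (T : Submonoid (MvPolynomial (Fin n) R)) {M' : Type u} [AddCommGroup M']
    [Module (MvPolynomial (Fin n) R) M'] [Module R M'] [IsScalarTower R (MvPolynomial (Fin n) R) M']
    (g : (FreeMod R a n ⧸ N) →ₗ[MvPolynomial (Fin n) R] M') [IsLocalizedModule T g]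
    [Module.Flat R M'] (I : Ideal A) :
    Rel (T.map (MvPolynomial.map (algebraMap R A))) I (locN A N) :=
  rel_of_injective A N T g I (Module.Flat.lTensor_preserves_injective_linearMap _
    (I.restrictScalars R).subtype_injective)

end Alg

/-- Injectivity for a localized module, checked up to `T`. -/
theorem injective_localized {B M N P : Type u} [CommRing B] [Algebra R B]
    [AddCommGroup M] [Module B M] [Module R M] [IsScalarTower R B M]
    [AddCommGroup N] [Module B N] [Module R N] [IsScalarTower R B N]
    [AddCommGroup P] [Module R P] (Q : Submodule R P) (T : Submonoid B)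
    (g : M →ₗ[B] N) [IsLocalizedModule T g]
    (h : ∀ z : M ⊗[R] Q, Q.subtype.lTensor M z = 0 → ∃ t ∈ T, t • z = 0) :
    Function.Injective (Q.subtype.lTensor N) := by
  rw [injective_iff_map_eq_zero]
  intro z hz
  let gQ := AlgebraTensorModule.rTensor R Q g
  let gP := AlgebraTensorModule.rTensor R P g
  obtain ⟨⟨z₀, s⟩, hs⟩ := IsLocalizedModule.surj T gQ z
  have h1 : gP (Q.subtype.lTensor M z₀) = 0 := by
    have h2 : gP (Q.subtype.lTensor M z₀) = Q.subtype.lTensor N (gQ z₀) := by
      show (g.restrictScalars R).rTensor P (Q.subtype.lTensor M z₀) =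
        Q.subtype.lTensor N ((g.restrictScalars R).rTensor Q z₀)
      rw [← LinearMap.comp_apply, LinearMap.rTensor_comp_lTensor,
        ← LinearMap.lTensor_comp_rTensor, LinearMap.comp_apply]
    rw [h2, ← hs, ← AlgebraTensorModule.coe_lTensor (A := B), Submonoid.smul_def, map_smul,
      AlgebraTensorModule.coe_lTensor, hz, smul_zero]
  obtain ⟨t, ht⟩ := (IsLocalizedModule.eq_zero_iff T gP).mp h1
  obtain ⟨t', ht', hk⟩ := h ((t : B) • z₀) (by
    rw [← AlgebraTensorModule.coe_lTensor (A := B), map_smul, AlgebraTensorModule.coe_lTensor]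
    exact ht)
  have hu := IsLocalizedModule.map_units gQ ⟨_, T.mul_mem (T.mul_mem ht' t.2) s.2⟩
  apply ((Module.End.isUnit_iff _).mp hu).1
  rw [map_zero, Module.algebraMap_end_apply, mul_smul, ← Submonoid.smul_def, hs, ← map_smul,
    mul_smul, hk, map_zero]

/-- Relations give vanishing of kernels up to `T`. -/
theorem killed_of_rel (N : Submodule (MvPolynomial (Fin n) R) (FreeMod R a n))
    (T : Submonoid (MvPolynomial (Fin n) R)) (I : Ideal R) (hI : Rel T I N)
    (z : (FreeMod R a n ⧸ N) ⊗[R] I) (hz : I.subtype.lTensor _ z = 0) :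
    ∃ t ∈ T, t • z = 0 := by
  let q := AlgebraTensorModule.rTensor R I N.mkQ
  let ψ : FreeMod R a n ⊗[R] I →ₗ[MvPolynomial (Fin n) R] FreeMod R a n :=
    (AlgebraTensorModule.rid R (MvPolynomial (Fin n) R) _).toLinearMap ∘ₗ
      AlgebraTensorModule.lTensor (MvPolynomial (Fin n) R) _ I.subtype
  obtain ⟨zt, rfl⟩ : ∃ zt, q zt = z := LinearMap.rTensor_surjective I (g := N.mkQ.restrictScalars R) N.mkQ_surjective z
  have hψ : ∀ x, N.mkQ (ψ x) = TensorProduct.rid R _ (I.subtype.lTensor _ (q x)) := fun x => by
    induction x using TensorProduct.induction_on with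
    | zero => simp
    | tmul v c => simp [ψ, q, LinearMap.map_smul_of_tower]
    | add x y hx hy => simp only [map_add, hx, hy]
  have hN : ψ zt ∈ N := by
    rw [← Submodule.Quotient.mk_eq_zero]
    exact (hψ zt).trans (by rw [hz, map_zero])
  have hcf : ψ zt ∈ cf I := by
    clear hN hz
    induction zt using TensorProduct.induction_on with
    | zero => simp
    | tmul v c =>
      rw [mem_cf]
      intro i
      simpa [ψ] using I.mul_mem_right (co i v) c.2
    | add x y hx hy => rw [map_add]; exact add_mem hx hy
  obtain ⟨t, ht, htI⟩ := hI ⟨hN, hcf⟩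
  have hle : I.map (C : R →+* MvPolynomial (Fin n) R) • N ≤
      LinearMap.range (ψ ∘ₗ AlgebraTensorModule.rTensor R I N.subtype) := by
    refine Submodule.smul_le.mpr fun b hb v hv => ?_
    suffices h : I.map (C : R →+* MvPolynomial (Fin n) R) ≤ (LinearMap.range
        (ψ ∘ₗ AlgebraTensorModule.rTensor R I N.subtype)).comap
        (LinearMap.toSpanSingleton (MvPolynomial (Fin n) R) _ v) from h hb
    refine Ideal.map_le_iff_le_comap.mpr fun c hc => ?_
    refine ⟨(⟨v, hv⟩ : N) ⊗ₜ[R] ⟨c, hc⟩, ?_⟩
    simp only [ψ, LinearMap.comp_apply, LinearEquiv.coe_coe, AlgebraTensorModule.rTensor_tmul,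
      AlgebraTensorModule.lTensor_tmul, Submodule.subtype_apply, AlgebraTensorModule.rid_tmul,
      LinearMap.toSpanSingleton_apply]
    exact (algebraMap_smul (MvPolynomial (Fin n) R) c v).symm
  obtain ⟨w, hw⟩ := hle htI
  refine ⟨t, ht, ?_⟩
  have hinj : Function.Injective ψ :=
    (AlgebraTensorModule.rid R (MvPolynomial (Fin n) R) _).injective.comp
      (Module.Flat.lTensor_preserves_injective_linearMap (M := FreeMod R a n) I.subtype
        I.subtype_injective)
  rw [← map_smul]
  rw [← map_smul] at hw
  rw [← hinj hw]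
  exact (rTensor_exact I (f := N.subtype.restrictScalars R) (g := N.mkQ.restrictScalars R)
    (LinearMap.exact_subtype_mkQ N) N.mkQ_surjective).apply_apply_eq_zero w

/-- Injectivity at an ideal gives the relations. -/
theorem rel_of_lTensor_injective (N : Submodule (MvPolynomial (Fin n) R) (FreeMod R a n))
    (T : Submonoid (MvPolynomial (Fin n) R)) {M' : Type u} [AddCommGroup M']
    [Module (MvPolynomial (Fin n) R) M'] [Module R M'] [IsScalarTower R (MvPolynomial (Fin n) R) M']
    (g : (FreeMod R a n ⧸ N) →ₗ[MvPolynomial (Fin n) R] M') [IsLocalizedModule T g] (I : Ideal R)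
    (h : Function.Injective (I.subtype.lTensor M')) : Rel T I N := by
  have := rel_of_injective R N T g I h
  have e : MvPolynomial.map (algebraMap R R) = RingHom.id (MvPolynomial (Fin n) R) := by
    ext <;> simp
  rw [e, locN_self] at this
  exact this.mono (by rintro _ ⟨t, ht, rfl⟩; exact ht)

/-- Flatness of a localized quotient in terms of relations. -/
theorem flat_iff_rel (N : Submodule (MvPolynomial (Fin n) R) (FreeMod R a n))
    (T : Submonoid (MvPolynomial (Fin n) R)) {M' : Type u} [AddCommGroup M']
    [Module (MvPolynomial (Fin n) R) M'] [Module R M'] [IsScalarTower R (MvPolynomial (Fin n) R) M']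
    (g : (FreeMod R a n ⧸ N) →ₗ[MvPolynomial (Fin n) R] M') [IsLocalizedModule T g] :
    Module.Flat R M' ↔ ∀ I : Ideal R, Rel T I N := by
  refine ⟨fun _ I => rel_of_lTensor_injective N T g I
    (Module.Flat.lTensor_preserves_injective_linearMap _ I.subtype_injective), fun h => ?_⟩
  · rw [Module.Flat.iff_lTensor_injective']
    exact fun I => injective_localized I T g fun z hz => killed_of_rel N T I (h I) z hz

end Groth.Agent.FlatLocus
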