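import Groth.Agent.FlatLocus.PointScheme

set_option autoImplicit false
set_option linter.style.haveILetI false
set_option backward.isDefEq.respectTransparency false
set_option backward.defeqAttrib.useBackward true

/-!
# Smooth and etale points descend along flat base change
-/

universe u

open CategoryTheory CategoryTheory.Limits AlgebraicGeometry TensorProduct

namespace Groth.Agent.FlatLocus

section Alg

variable {A B : Type u} [CommRing A] [CommRing B] [Algebra A B]

/-- Faithfully flat descent of vanishing between localizations. -/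
theorem subsingleton_localized_of_baseChange {B2 M : Type u} [CommRing B2] [Algebra B B2]
    [Module.Flat B B2] [AddCommGroup M] [Module B M] (q2 : Ideal B2) [q2.IsPrime]
    (h : Subsingleton (LocalizedModule q2.primeCompl (B2 ⊗[B] M))) :
    Subsingleton (LocalizedModule (q2.comap (algebraMap B B2)).primeCompl M) := by
  let q := q2.comap (algebraMap B B2)
  rw [LocalizedModule.subsingleton_iff] at h ⊢
  intro m
  obtain ⟨b, hb, hbm⟩ := h (1 ⊗ₜ m)
  by_contra hcon
  push Not at hcon
  let ann : Ideal B := LinearMap.ker (LinearMap.toSpanSingleton B M m)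
  have hann : ann ≤ q := fun r hr => by
    by_contra hrq
    exact hcon r hrq hr
  have hker : b ∈ ann.map (algebraMap B B2) := by
    let l : (B ⧸ ann) →ₗ[B] M := Submodule.liftQ ann (LinearMap.toSpanSingleton B M m) le_rfl
    have hl : Function.Injective l := LinearMap.ker_eq_bot.mp
      (Submodule.ker_liftQ_eq_bot _ _ _ le_rfl)
    have h1 : l.lTensor B2 (b ⊗ₜ (1 : B ⧸ ann)) = 0 := by
      rw [LinearMap.lTensor_tmul]
      show b ⊗ₜ[B] ((1 : B) • m) = 0
      rw [one_smul]
      rw [TensorProduct.smul_tmul'] at hbm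
      simpa using hbm
    have h2 := Module.Flat.lTensor_preserves_injective_linearMap (M := B2) l hl
      (a₁ := b ⊗ₜ (1 : B ⧸ ann)) (a₂ := 0) (by rw [map_zero]; exact h1)
    have h3 := congrArg (tensorQuotEquivQuotSMul B2 ann) h2
    rw [map_zero] at h3
    have h4 : tensorQuotEquivQuotSMul B2 ann (b ⊗ₜ (1 : B ⧸ ann)) =
        Submodule.Quotient.mk ((1 : B) • b) := tensorQuotEquivQuotSMul_tmul_mk _ _ _
    rw [h4, one_smul, Submodule.Quotient.mk_eq_zero, Ideal.smul_top_eq_map] at h3
    exact h3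
  exact hb ((Ideal.map_mono hann).trans Ideal.map_comap_le hker)

/-- Faithfully flat descent of local freeness. -/
theorem mem_freeLocus_of_baseChange {B2 M : Type u} [CommRing B2] [Algebra B B2]
    [Module.Flat B B2] [AddCommGroup M] [Module B M] [Module.Finite B M] (q2 : PrimeSpectrum B2)
    (h : q2 ∈ Module.freeLocus B2 (B2 ⊗[B] M)) :
    PrimeSpectrum.comap (algebraMap B B2) q2 ∈ Module.freeLocus B M := by
  let q := (PrimeSpectrum.comap (algebraMap B B2) q2).asIdeal
  let Bq := Localization.AtPrime q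
  let S := Localization.AtPrime q2.asIdeal
  letI : Algebra Bq S :=
    (Localization.localRingHom q q2.asIdeal (algebraMap B B2) rfl).toAlgebra
  haveI : IsScalarTower B Bq S := IsScalarTower.of_algebraMap_eq fun x => by
    rw [IsScalarTower.algebraMap_apply B B2 S]
    exact (Localization.localRingHom_to_map q q2.asIdeal (algebraMap B B2) rfl x).symm
  haveI : IsLocalHom (algebraMap Bq S) :=
    Localization.isLocalHom_localRingHom q q2.asIdeal (algebraMap B B2) rfl
  haveI : Module.Flat Bq S := RingHom.Flat.localRingHom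
    (RingHom.flat_algebraMap_iff.mpr inferInstance) q2.asIdeal q rfl
  haveI : Module.FaithfullyFlat Bq S := Module.FaithfullyFlat.of_flat_of_isLocalHom
  rw [Module.mem_freeLocus_iff_tensor _ S] at h
  rw [Module.mem_freeLocus_iff_tensor _ Bq]
  let e : S ⊗[Bq] (Bq ⊗[B] M) ≃ₗ[S] S ⊗[B2] (B2 ⊗[B] M) :=
    AlgebraTensorModule.cancelBaseChange B Bq S S M ≪≫ₗ
      (AlgebraTensorModule.cancelBaseChange B B2 S S M).symm
  haveI : Module.Free S (S ⊗[Bq] (Bq ⊗[B] M)) := .of_equiv e.symm
  haveI : Module.Flat Bq (Bq ⊗[B] M) := Module.Flat.of_flat_tensorProduct Bq _ S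
  exact Module.free_of_flat_of_isLocalRing

attribute [local instance] Algebra.TensorProduct.rightAlgebra

theorem isUnramifiedAt_of_baseChange [Algebra.EssFiniteType A B] (A2 : Type u) [CommRing A2]
    [Algebra A A2] [Module.Flat A A2] (q2 : PrimeSpectrum (A2 ⊗[A] B))
    (h : q2 ∈ Algebra.unramifiedLocus A2 (A2 ⊗[A] B)) :
    PrimeSpectrum.comap (algebraMap B (A2 ⊗[A] B)) q2 ∈ Algebra.unramifiedLocus A B := by
  haveI : Module.Flat B (A2 ⊗[A] B) :=
    Module.Flat.of_linearEquiv
      (R := B) (M := B ⊗[A] A2)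
      ({ __ := Algebra.TensorProduct.comm A A2 B
         map_smul' := fun b x => by
           simp [Algebra.smul_def, RingHom.algebraMap_toAlgebra,
             Algebra.TensorProduct.algebraMap_apply] } : A2 ⊗[A] B ≃ₗ[B] B ⊗[A] A2)
  rw [Algebra.unramifiedLocus_eq_compl_support, Set.mem_compl_iff,
    Module.notMem_support_iff] at h ⊢
  refine subsingleton_localized_of_baseChange (B2 := A2 ⊗[A] B) q2.asIdeal ?_
  exact (IsLocalizedModule.iso q2.asIdeal.primeCompl
    ((LocalizedModule.mkLinearMap q2.asIdeal.primeCompl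
      (KaehlerDifferential A2 (A2 ⊗[A] B))) ∘ₗ
      (KaehlerDifferential.tensorKaehlerEquiv A A2 B (A2 ⊗[A] B)).toLinearMap)).toEquiv.subsingleton

/-- The base change map on first homology of the naive cotangent complex, linear over the
base changed algebra. -/
theorem exists_h1Cotangent_baseChange_equiv (A2 : Type u) [CommRing A2] [Algebra A A2]
    [Module.Flat A A2] :
    Nonempty ((A2 ⊗[A] B) ⊗[B] Algebra.H1Cotangent A B ≃ₗ[A2 ⊗[A] B]
      Algebra.H1Cotangent A2 (A2 ⊗[A] B)) := by
  let L := LinearMap.liftBaseChange (A2 ⊗[A] B) (Algebra.H1Cotangent.map A A2 B (A2 ⊗[A] B))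
  let c := Algebra.IsPushout.cancelBaseChange A A2 B (A2 ⊗[A] B) (Algebra.H1Cotangent A B)
  let e := c.trans (Algebra.tensorH1CotangentOfFlat A B A2)
  have he : ∀ z, L z = e z := by
    intro z
    obtain ⟨w, rfl⟩ := c.symm.surjective z
    induction w with
    | zero => simp
    | add x y hx hy => simp only [map_add, hx, hy]
    | tmul t x =>
      simp only [e, LinearEquiv.trans_apply, LinearEquiv.apply_symm_apply]
      rw [Algebra.tensorH1CotangentOfFlat_tmul, Algebra.IsPushout.cancelBaseChange_symm_tmul]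
      simp [L]
      exact algebraMap_smul (A2 ⊗[A] B) t _
  refine ⟨LinearEquiv.ofBijective L ?_⟩
  rw [show (L : _ → _) = e from funext he]
  exact e.bijective

theorem isSmoothAt_of_baseChange [Algebra.FinitePresentation A B] (A2 : Type u) [CommRing A2]
    [Algebra A A2] [Module.Flat A A2] (q2 : PrimeSpectrum (A2 ⊗[A] B))
    (h : q2 ∈ Algebra.smoothLocus A2 (A2 ⊗[A] B)) :
    PrimeSpectrum.comap (algebraMap B (A2 ⊗[A] B)) q2 ∈ Algebra.smoothLocus A B := by
  haveI : Module.Flat B (A2 ⊗[A] B) :=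
    Module.Flat.of_linearEquiv
      (R := B) (M := B ⊗[A] A2)
      ({ __ := Algebra.TensorProduct.comm A A2 B
         map_smul' := fun b x => by
           simp [Algebra.smul_def, RingHom.algebraMap_toAlgebra,
             Algebra.TensorProduct.algebraMap_apply] } : A2 ⊗[A] B ≃ₗ[B] B ⊗[A] A2)
  rw [Algebra.smoothLocus_eq_compl_support_inter] at h ⊢
  obtain ⟨hH, hΩ⟩ := h
  obtain ⟨e⟩ := exists_h1Cotangent_baseChange_equiv (A := A) (B := B) A2
  refine ⟨?_, ?_⟩
  · rw [Set.mem_compl_iff, Module.notMem_support_iff] at hH ⊢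
    refine subsingleton_localized_of_baseChange (B2 := A2 ⊗[A] B) q2.asIdeal ?_
    exact (IsLocalizedModule.iso q2.asIdeal.primeCompl
      ((LocalizedModule.mkLinearMap q2.asIdeal.primeCompl
        (Algebra.H1Cotangent A2 (A2 ⊗[A] B))) ∘ₗ e.toLinearMap)).toEquiv.subsingleton
  · refine mem_freeLocus_of_baseChange q2 ?_
    rwa [Module.freeLocus_congr
      (KaehlerDifferential.tensorKaehlerEquiv A A2 B (A2 ⊗[A] B))]

end Alg

section Scheme

variable {X Y Y' : Scheme.{u}} (f : X ⟶ Y) (g : Y' ⟶ Y)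

theorem exists_nhd_of_isPullback {P : MorphismProperty Scheme.{u}} [P.IsStableUnderBaseChange]
    {Z W Z' W' : Scheme.{u}} {m : Z' ⟶ Z} {p : Z' ⟶ W'} {q : Z ⟶ W} {j : W' ⟶ W}
    (sq : IsPullback m p q j) (z : Z') (h : ∃ U : Z.Opens, m z ∈ U ∧ P (U.ι ≫ q)) :
    ∃ U : Z'.Opens, z ∈ U ∧ P (U.ι ≫ p) := by
  obtain ⟨U, hz, hU⟩ := h
  exact ⟨m ⁻¹ᵁ U, hz, P.of_isPullback ((isPullback_morphismRestrict m U).paste_vert sq) hU⟩

/-- A point of `pullback j f` over an affine chart `Spec B → Spec A` of `f` comes from a prime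
of `A2 ⊗[A] B`, compatibly with the stalk maps of the projection to `Spec A2`. -/
theorem exists_tensor_point {A A2 B : Type u} [CommRing A] [CommRing A2] [CommRing B]
    [Algebra A A2] [Algebra A B] (j : Spec (CommRingCat.of A2) ⟶ Y)
    (oA : Spec (CommRingCat.of A) ⟶ Y) [Mono oA]
    (oB : Spec (CommRingCat.of B) ⟶ X) [IsOpenImmersion oB]
    (hA : Spec.map (CommRingCat.ofHom (algebraMap A A2)) ≫ oA = j)
    (hB : Spec.map (CommRingCat.ofHom (algebraMap A B)) ≫ oA = oB ≫ f)
    (w : ↑(pullback j f)) (hw : pullback.snd j f w ∈ Set.range oB) :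
    ∃ z : PrimeSpectrum (A2 ⊗[A] B),
      oB (PrimeSpectrum.comap (Algebra.TensorProduct.includeRight
        (R := A) (A := A2) (B := B)).toRingHom z) = pullback.snd j f w ∧
      ∀ {P : ∀ {R S : Type u} [CommRing R] [CommRing S], (R →+* S) → Prop},
        RingHom.RespectsIso P → P ((pullback.fst j f).stalkMap w).hom →
        P (Localization.localRingHom (z.asIdeal.comap (algebraMap A2 (A2 ⊗[A] B))) z.asIdeal
          (algebraMap A2 (A2 ⊗[A] B)) rfl) := by
  let k₀ := pullback.map (Spec.map (CommRingCat.ofHom (algebraMap A A2)))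
    (Spec.map (CommRingCat.ofHom (algebraMap A B))) j f
    (𝟙 _) oB oA (by rw [hA, Category.id_comp]) hB
  let k := (pullbackSpecIso A A2 B).inv ≫ k₀
  obtain ⟨z₀, hz₀⟩ : w ∈ Set.range k₀ := by
    rw [Scheme.Pullback.range_map]
    exact ⟨⟨pullback.fst j f w, rfl⟩, hw⟩
  obtain ⟨z, hz⟩ : ∃ z, k z = w :=
    ⟨(pullbackSpecIso A A2 B).hom z₀, by
      rw [← hz₀, ← Scheme.Hom.comp_apply]
      simp [k]⟩
  have hkfst : k ≫ pullback.fst j f =
      Spec.map (CommRingCat.ofHom (algebraMap A2 (A2 ⊗[A] B))) := by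
    simp only [k, k₀, Category.assoc, pullback.lift_fst, Category.comp_id]
    exact pullbackSpecIso_inv_fst' _ _ _
  refine ⟨z, ?_, fun {P} hP h => ?_⟩
  · show (Spec.map (CommRingCat.ofHom
      (Algebra.TensorProduct.includeRight (R := A) (A := A2) (B := B)).toRingHom) ≫ oB) z = _
    erw [← pullbackSpecIso_inv_snd]
    rw [← hz, ← Scheme.Hom.comp_apply, Category.assoc]
    simp only [k, k₀, Category.assoc, pullback.lift_snd]
  · rw [← hz] at h
    have h2 : P ((k ≫ pullback.fst j f).stalkMap z).hom := by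
      rw [Scheme.Hom.stalkMap_comp, CommRingCat.hom_comp]
      exact (hP.cancel_right_isIso _ (k.stalkMap z)).mpr h
    rw [hkfst] at h2
    exact (hP.arrow_mk_iso_iff (Scheme.arrowStalkMapSpecIso _ z)).mp h2

theorem stalkMap_of_baseChange_flat [LocallyOfFinitePresentation f] (x' : ↑(pullback f g))
    (hg : (g.stalkMap (pullback.snd f g x')).hom.Flat) :
    ((∃ U' : (pullback f g).Opens, x' ∈ U' ∧ Smooth (U'.ι ≫ pullback.snd f g)) →
      (f.stalkMap (pullback.fst f g x')).hom.FormallySmooth) ∧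
    ((∃ U' : (pullback f g).Opens, x' ∈ U' ∧ FormallyUnramified (U'.ι ≫ pullback.snd f g)) →
      (f.stalkMap (pullback.fst f g x')).hom.FormallyUnramified) := by
  generalize hy' : pullback.snd f g x' = y' at hg
  have hxy : f (pullback.fst f g x') = g y' := by
    rw [← hy', ← Scheme.Hom.comp_apply, ← Scheme.Hom.comp_apply, pullback.condition]
  obtain ⟨_, ⟨V : Y.Opens, (hV : IsAffineOpen V), rfl⟩, hyV, -⟩ :=
    Y.isBasis_affineOpens.exists_subset_of_mem_open (Set.mem_univ (g y')) isOpen_univ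
  obtain ⟨_, ⟨U : X.Opens, (hU : IsAffineOpen U), rfl⟩, hxU, hUV⟩ :=
    X.isBasis_affineOpens.exists_subset_of_mem_open (a := pullback.fst f g x')
      (u := ↑(f ⁻¹ᵁ V)) (show f (pullback.fst f g x') ∈ V from hxy ▸ hyV) (f ⁻¹ᵁ V).2
  let A2 := Y'.presheaf.stalk y'
  let φ : Γ(Y, V) ⟶ A2 := Y.presheaf.germ V (g y') hyV ≫ g.stalkMap y'
  have hφ : φ.hom.Flat := by
    refine RingHom.Flat.comp ?_ hg
    letI : Algebra Γ(Y, V) (Y.presheaf.stalk (g y')) :=
      TopCat.Presheaf.algebra_section_stalk Y.presheaf ⟨g y', hyV⟩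
    haveI : IsLocalization.AtPrime (Y.presheaf.stalk (g y')) (hV.primeIdealOf ⟨g y', hyV⟩).asIdeal :=
      hV.isLocalization_stalk ⟨g y', hyV⟩
    exact RingHom.flat_algebraMap_iff.mpr
      (IsLocalization.flat _ (hV.primeIdealOf ⟨g y', hyV⟩).asIdeal.primeCompl)
  have hfp := f.finitePresentation_appLE hV hU hUV
  algebraize [(f.appLE V U hUV).hom, φ.hom]
  -- the base change of the affine charts
  let j := Y'.fromSpecStalk y'
  have hA : Spec.map (CommRingCat.ofHom (algebraMap Γ(Y, V) A2)) ≫ hV.fromSpec = j ≫ g := by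
    show Spec.map φ ≫ hV.fromSpec = _
    rw [← Scheme.SpecMap_stalkMap_fromSpecStalk, ← hV.fromSpecStalk_eq_fromSpecStalk hyV,
      IsAffineOpen.fromSpecStalk, Spec.map_comp_assoc]
  let m : pullback (j ≫ g) f ⟶ pullback f g :=
    pullback.lift (pullback.snd _ _) (pullback.fst _ _ ≫ j) (by
      rw [Category.assoc, pullback.condition])
  have hm : IsPullback m (pullback.fst (j ≫ g) f) (pullback.snd f g) j := by
    refine IsPullback.of_right ?_ (pullback.lift_snd _ _ _) (IsPullback.of_hasPullback f g)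
    rw [pullback.lift_fst]
    exact (IsPullback.of_hasPullback (j ≫ g) f).flip
  obtain ⟨w, hw, -⟩ := Scheme.exists_preimage_of_isPullback hm x' (IsLocalRing.closedPoint A2)
    (by rw [Scheme.fromSpecStalk_closedPoint]; exact hy')
  have hsnd : pullback.snd (j ≫ g) f w = pullback.fst f g x' := by
    rw [← hw, ← Scheme.Hom.comp_apply, pullback.lift_fst]
  obtain ⟨z, hz, key⟩ := exists_tensor_point (A2 := A2) f (j ≫ g) hV.fromSpec hU.fromSpec hA
    (IsAffineOpen.SpecMap_appLE_fromSpec f hV hU hUV) w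
    ⟨hU.primeIdealOf ⟨_, hxU⟩, (hU.fromSpec_primeIdealOf _).trans hsnd.symm⟩
  letI : Algebra Γ(X, U) (A2 ⊗[Γ(Y, V)] Γ(X, U)) := Algebra.TensorProduct.rightAlgebra
  have hx : hU.primeIdealOf ⟨pullback.fst f g x', hxU⟩ =
      PrimeSpectrum.comap (algebraMap Γ(X, U) (A2 ⊗[Γ(Y, V)] Γ(X, U))) z :=
    hU.fromSpec.isOpenEmbedding.injective
      ((hU.fromSpec_primeIdealOf _).trans (hsnd.symm.trans hz.symm))
  let p := (PrimeSpectrum.comap (algebraMap A2 (A2 ⊗[Γ(Y, V)] Γ(X, U))) z).asIdeal
  haveI : z.asIdeal.LiesOver p := ⟨rfl⟩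
  letI := Localization.AtPrime.algebraOfLiesOver p z.asIdeal
  constructor
  · intro h
    have h1 := key RingHom.FormallySmooth.respectsIso ((exists_smooth_nhd_iff _ w).mp
      (exists_nhd_of_isPullback hm w (by rwa [hw])))
    replace h1 : Algebra.FormallySmooth (Localization.AtPrime p) (Localization.AtPrime z.asIdeal) :=
      RingHom.formallySmooth_algebraMap.mp h1
    have h2 : z ∈ Algebra.smoothLocus A2 (A2 ⊗[Γ(Y, V)] Γ(X, U)) :=
      Algebra.FormallySmooth.iff_restrictScalars.mpr h1
    rw [formallySmooth_stalkMap_iff V hV U hU hUV hxU, hx]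
    exact isSmoothAt_of_baseChange A2 z h2
  · intro h
    have h1 := key RingHom.FormallyUnramified.respectsIso
      ((exists_formallyUnramified_nhd_iff _ w).mp (exists_nhd_of_isPullback hm w (by rwa [hw])))
    replace h1 : Algebra.FormallyUnramified (Localization.AtPrime p) (Localization.AtPrime z.asIdeal) :=
      RingHom.formallyUnramified_algebraMap.mp h1
    have h2 : z ∈ Algebra.unramifiedLocus A2 (A2 ⊗[Γ(Y, V)] Γ(X, U)) :=
      Algebra.FormallyUnramified.comp A2 (Localization.AtPrime p) _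
    have h3 := isUnramifiedAt_of_baseChange A2 z h2
    rw [← hx] at h3
    let q := (hU.primeIdealOf ⟨pullback.fst f g x', hxU⟩).asIdeal
    let p₁ := (hV.primeIdealOf ⟨f (pullback.fst f g x'), hUV hxU⟩).asIdeal
    have : q.LiesOver p₁ :=
      ⟨congr($(IsAffineOpen.comap_primeIdealOf_appLE V hV U hU hUV hxU).1).symm⟩
    letI := Localization.AtPrime.algebraOfLiesOver p₁ q
    refine (RingHom.FormallyUnramified.respectsIso.arrow_mk_iso_iff
      (IsAffineOpen.arrowStalkMapIso f V hV U hU hUV hxU)).mpr ?_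
    have : Algebra.FormallyUnramified Γ(Y, V) (Localization.AtPrime q) := h3
    exact RingHom.formallyUnramified_algebraMap.mpr
      (Algebra.FormallyUnramified.of_restrictScalars Γ(Y, V) _ _)

end Scheme

end Groth.Agent.FlatLocus
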