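import Groth.Agent.FlatLocus.Gen

set_option autoImplicit false
set_option linter.style.haveILetI false
set_option backward.isDefEq.respectTransparency false
set_option backward.defeqAttrib.useBackward true

/-!
# Flatness from flatness of all fibres
-/

universe u

open TensorProduct

namespace Groth.Agent.FlatLocus

theorem flat_of_flat_fibres {A B M : Type u} [CommRing A] [CommRing B] [Algebra A B]
    [AddCommGroup M] [Module B M] [Module A M] [IsScalarTower A B M]
    [Module.FinitePresentation B M] [Module.Flat A M]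
    (h : ∀ (p : Ideal A) [p.IsPrime],
      Module.Flat (B ⊗[A] p.ResidueField) ((B ⊗[A] p.ResidueField) ⊗[B] M)) : Module.Flat B M := by
  refine Module.flat_of_localized_maximal M fun q hq => ?_
  let p := q.comap (algebraMap A B)
  let I := p.map (algebraMap A B)
  haveI := h p
  let Bq := Localization.AtPrime q
  let D := (B ⧸ I) ⊗[B] Bq
  let d : A →+* D := (algebraMap B D).comp (algebraMap A B)
  have hdI : ∀ b ∈ I, algebraMap B D b = 0 := fun b hb => by
    rw [Algebra.TensorProduct.algebraMap_apply, show algebraMap B (B ⧸ I) b = 0 from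
      Ideal.Quotient.eq_zero_iff_mem.mpr hb, TensorProduct.zero_tmul]
  let d1 : A ⧸ p →+* D := Ideal.Quotient.lift p d fun a ha => hdI _ (Ideal.mem_map_of_mem _ ha)
  have hu : ∀ x : nonZeroDivisors (A ⧸ p), IsUnit (d1 x) := by
    rintro ⟨x, hx⟩
    obtain ⟨a, rfl⟩ := Ideal.Quotient.mk_surjective x
    have ha : algebraMap A B a ∈ q.primeCompl := fun hmem =>
      nonZeroDivisors.ne_zero hx (Ideal.Quotient.eq_zero_iff_mem.mpr hmem)
    show IsUnit (algebraMap B D (algebraMap A B a))
    have h1 := (IsLocalization.map_units Bq (⟨_, ha⟩ : q.primeCompl)).map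
      (Algebra.TensorProduct.includeRight : Bq →ₐ[B] D)
    rwa [AlgHom.commutes] at h1
  let k : p.ResidueField →+* D := IsLocalization.lift (M := nonZeroDivisors (A ⧸ p)) hu
  have hk : ∀ a, k (algebraMap A p.ResidueField a) = algebraMap A D a := fun a => by
    rw [IsScalarTower.algebraMap_apply A (A ⧸ p) p.ResidueField, IsLocalization.lift_eq,
      IsScalarTower.algebraMap_apply A B D]
    rfl
  let ka : p.ResidueField →ₐ[A] D := { k with commutes' := hk }
  let ba : B →ₐ[A] D := IsScalarTower.toAlgHom A B D
  let ρ : B ⊗[A] p.ResidueField →ₐ[A] D :=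
    Algebra.TensorProduct.lift ba ka fun _ _ => .all _ _
  letI : Algebra (B ⊗[A] p.ResidueField) D := ρ.toRingHom.toAlgebra
  haveI : IsScalarTower B (B ⊗[A] p.ResidueField) D := .of_algebraMap_eq fun b => by
    show algebraMap B D b = ρ (b ⊗ₜ 1)
    simp [ρ, ba]
  haveI hD : Module.Flat D (D ⊗[B] M) :=
    Module.Flat.of_linearEquiv
      (AlgebraTensorModule.cancelBaseChange B (B ⊗[A] p.ResidueField) D D M).symm
  haveI : Module.Flat B Bq := IsLocalization.flat _ q.primeCompl
  haveI : Module.Flat (B ⧸ I) D := inferInstance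
  haveI : Module.Flat (B ⧸ I) (D ⊗[B] M) := Module.Flat.trans (B ⧸ I) D _
  let e : Bq ⊗[B] M ≃ₗ[B] LocalizedModule q.primeCompl M :=
    (LocalizedModule.equivTensorProduct q.primeCompl M).symm.restrictScalars B
  haveI h2 : Module.Flat (B ⧸ I) ((B ⧸ I) ⊗[B] LocalizedModule q.primeCompl M) :=
    Module.Flat.of_linearEquiv ((AlgebraTensorModule.assoc B B (B ⧸ I) (B ⧸ I) Bq M).trans
      (e.baseChange B (B ⧸ I) _ _)).symm
  let g := LocalizedModule.mkLinearMap q.primeCompl M
  haveI : Module.Flat A (LocalizedModule q.primeCompl M) := by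
    rw [Module.Flat.iff_lTensor_injective']
    exact fun J => lTensor_injective_localized q.primeCompl g J.subtype
      (Module.Flat.lTensor_preserves_injective_linearMap _ J.subtype_injective)
  exact flat_of_lTensor_injective_fp q
    (lTensor_injective_of_fibre p _ Ideal.map_comap_le (lTensor_injective_of_flat_quotient _ _))

end Groth.Agent.FlatLocus
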